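/- Tower E8F, slot Strip: elements conjugating one element of the Cartan subalgebra to another. -/
import Cfsg.Agent.H40.E8FKit

set_option autoImplicit false
set_option linter.unusedSectionVars false

namespace H20.E8F

open Cfsg.Lie H63 H64 H65 H46 H40.E8F Matrix

variable {D : ChevalleyDatum} [RS D] [Tab D] [Comm D] {k : Type} [Field k]

theorem act_Uge {n : ℕ} {v : GL D.Idx k} (hv : v ∈ Uge D (xU D k) n) (z : D.Idx → k)
    (hz : ∀ s : Rt D, z (Sum.inr s) ≠ 0 → Pos s ∧ n ≤ s) :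
    ∀ s : Rt D, act v z (Sum.inr s) ≠ 0 → Pos s ∧ n ≤ s := by
  refine gen_ind (P := fun v => ∀ z : D.Idx → k, (∀ s : Rt D, z (Sum.inr s) ≠ 0 → Pos s ∧ n ≤ s) →
    ∀ s : Rt D, act v z (Sum.inr s) ≠ 0 → Pos s ∧ n ≤ s) (fun z hz => ?_)
    (fun g h h1 h2 z hz => ?_) (fun r hr t z hz u hu => ?_) hv z hz
  · rwa [act_one]
  · rw [act_mul]
    exact h1 _ (h2 z hz)
  · have h0 : z (Sum.inr (negR r)) = 0 := by
      by_contra h0
      exact pos_negR.1 (hz _ h0).1 hr.1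
    rcases X_supp h0 hu with h1 | ⟨rfl, -⟩ | ⟨s, h1, j, hj, e⟩
    · exact hz _ h1
    · exact hr
    · have e' : rt u = (1 : ℤ) • rt s + j • rt r := by rw [one_smul]; exact e
      exact ⟨pos_of_comb (hz _ h1).1 hr.1 le_rfl hj e',
        (hz _ h1).2.trans (lt_of_comb (hz _ h1).1 hr.1 le_rfl hj e').le⟩

theorem mem_gen_of_fix {h : D.Idx → k} (hh : InH h) {u : GL D.Idx k}
    (hu : u ∈ gen (XR D (xU D k)) {r | Pos r}) (e : act u h = h) :
    u ∈ gen (XR D (xU D k)) {r : Rt D | rv h r = 0} := by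
  refine Uge_induction (stB_xU D k).toSt
    (P := fun u => act u h = h → u ∈ gen (XR D (xU D k)) {r : Rt D | rv h r = 0})
    (fun _ => one_mem _) (fun r hr ih t v hv e => ?_) hu e
  have e1 : act v h = h - (-t * rv h r) • Pi.single (Sum.inr r) 1 := by
    rw [← X_inH hh, ← act_xU, ← xU_inv]
    conv_rhs => rw [← e, act_mul, act_inv_act]
  have e2 : act v h (Sum.inr r) = 0 := by
    by_contra h0
    have := (act_Uge hv h (fun s hs => absurd (hh s) hs) r h0).2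
    omega
  have e3 : -t * rv h r = 0 := by
    rw [e1] at e2
    simpa [hh r] using e2
  rw [e3, zero_smul, sub_zero] at e1
  refine mul_mem ?_ (ih v hv e1)
  rcases mul_eq_zero.1 e3 with h1 | h1
  · rw [neg_eq_zero.1 h1, (stB_xU D k).toSt.x_zero]
    exact one_mem _
  · exact le_gen _ (c := r) h1 (x_mem_XR D _ r t)

theorem nw_eq (l : List (Fin D.rank)) :
    (stB_xU D k).rgd.nw l = nL D (xU D k) (l.map Fin.val) := by
  induction l with
  | nil => rfl
  | cons i l ih =>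
    rw [List.map_cons, nL_cons, if_pos i.2, ← ih, RGD.nw, H67.wp_cons]
    rfl

theorem jobStrip : JobStrip := by
  intro D _ _ _ k _ h₀ h₁ hh₀ hh₁ c hc e
  rw [group_eq_Gp] at hc
  obtain ⟨w, a, ha, m, hm, b, hb, hw, rfl⟩ := bruhat _ hc
  have hb' : m * b * m⁻¹ ∈ (stB_xU D k).rgd.V := hw.conj_gen (fun r hr => hr.2) hb
  have hm1 : InH (act m h₁) := (mon_of_N hm hw).2 _ hh₁
  have e1 : act (m * b * m⁻¹) (act m h₁) = act a⁻¹ h₀ := by
    rw [← e, ← act_mul, ← act_mul]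
    congr 1
    group
  have hV := act_V hb' (v := act m h₁) fun r _ => hm1 r
  have hB := act_B ((stB_xU D k).rgd.U_le_B (inv_mem ha)) (v := h₀) fun r _ => hh₀ r
  have hz : InH (act a⁻¹ h₀) := fun r => by
    by_cases hr : Pos r
    · rw [← e1]; exact hV.1 r hr
    · exact hB.1 r hr
  have e2 : act a⁻¹ h₀ = h₀ := by rw [← hz.hp_eq, hB.2, hh₀.hp_eq]
  have e3 : act m h₁ = h₀ := by rw [← hm1.hp_eq, ← hV.2, e1, e2, hh₀.hp_eq]
  have e4 : act a h₀ = h₀ := by
    conv_lhs => rw [← e2, act_act_inv]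
  have e5 : act b h₁ = h₁ := by
    rw [e2, ← act_mul, inv_mul_cancel_right, act_mul, ← e3] at e1
    simpa only [act_inv_act] using congrArg (act m⁻¹) e1
  have ha' := mem_gen_of_fix hh₀ ha e4
  have hb1 := mem_gen_of_fix hh₁ ((stB_xU D k).rgd.gen_Inv_le_U w hb) e5
  have hb2 : m * b * m⁻¹ ∈ gen (XR D (xU D k)) {r : Rt D | rv h₀ r = 0} :=
    hw.conj_gen (fun r hr => by
      rw [Set.mem_ofPred_eq, ← e3, (jobN D k m w hm hw).2.2]; exact hr) hb1
  obtain ⟨l, h, hh, rfl⟩ := (stB_xU D k).rgd.mem_N_iff.1 hm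
  refine ⟨l.map Fin.val, _, mul_mem (Subgroup.mem_sup_left (mul_mem ha' hb2))
    (Subgroup.mem_sup_right ((stB_xU D k).rgd.conj_H ((stB_xU D k).rgd.nw_mem_N l) hh)), ?_⟩
  rw [← nw_eq]
  group

end H20.E8F
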