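import Cfsg.Agent.H25.BGED
import Cfsg.Agent.H3.BgS2

/-! BGS-ET: a Sylow subgroup of `N(Q)` is a Sylow subgroup of `G`. -/

set_option autoImplicit false
set_option linter.unusedSectionVars false
set_option maxHeartbeats 400000

namespace H20.BgET

open Cfsg Subgroup H98 H1.Gold H85.TW H15.BG H25.BG H3.Bg

universe u

variable {G : Type u} [Group G] [Finite G] {k K : Type} [Field k] [Field K] [Algebra k K]
  [Finite k] [Finite K] [CharP k 2] [CharP K 2] {d : Dat G k K} {E W Q T X : Subgroup G}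
  {p : G → (k × k) × K} {m : k} {x y g e : G}

theorem rel2 {H L : Subgroup G} (hl : H ≤ L)
    (h : ∀ x ∈ L, ∀ y ∈ L, x ∉ H → y ∉ H → x * y ∈ H) : H.relIndex L ≤ 2 := by
  by_cases e : L ≤ H
  · rw [relIndex_eq_one.2 e]; omega
  obtain ⟨g, hg, n⟩ := SetLike.not_le_iff_exists.1 e
  exact (relIndex_eq_two_iff_exists_notMem_and'.2 ⟨g, hg, n, fun b hb =>
    (em (b ∈ H)).symm.imp (h g hg b hb n) id⟩).le

theorem cnt {A : Type*} [AddCommGroup A] [Finite A] {φ : G → A} {M : Subgroup G} (h : Ad Q φ)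
    (surj : ∀ a, ∃ x ∈ Q, φ x = a) (hM : M ≤ Q) (z : ∀ x ∈ M, φ x = 0) :
    Nat.card M * Nat.card A ≤ Nat.card Q := by
  have h1 := h.card (V := h.pre ⊥) (h.pre_le _) fun x hx => by
    rw [h.mem_pre, AddSubgroup.mem_bot]; exact ⟨fun a => ⟨hx, a⟩, fun a => a.2⟩
  have h2 : h.im = ⊤ := eq_top_iff.2 fun a _ => h.mem_im.2 (surj a)
  rw [h1, h2, AddSubgroup.card_top]
  exact Nat.mul_le_mul_right _ (card_le_of_le fun x hx =>
    h.mem_pre.2 ⟨hM hx, AddSubgroup.mem_bot.2 (z x hx)⟩)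

theorem memU_of (h : PE d E W Q p m) (H : HE d E) (hx : x ∈ Q) (h1 : ∀ w ∈ W, x * w = w * x)
    (h2 : ∀ e ∈ E, x * e = e * x) : x ∈ d.U := by
  have D := H.toUD
  obtain ⟨w, hw, a1⟩ := h.surjW 1
  obtain ⟨e, he, -, -, e1, -, -⟩ := two_ne H
  have b1 := (PE.comm_iff h D hx (PE.WQ h hw)).1 (h1 w hw)
  have b2 := (PE.comm_iff h D hx (PE.EQ h he)).1 (h2 e he)
  simp only [QE.β, (PE.pW h hw).1, (PE.pW h hw).2, (PE.pE h he).1, (PE.pE h he).2, a1,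
    QE.B_zero_right, mul_zero, mul_one, zero_add, add_zero] at b1 b2
  rw [h.memU x hx]
  exact Prod.ext ((mul_eq_zero.1 b2).resolve_right (PE.cE_ne h H he e1)) b1

theorem FQ (h : PE d E W Q p m) (D : UD d) : d.Z ⊔ E ≤ Q :=
  sup_le (D.ZU.trans (PE.UQ h)) (PE.EQ h)

theorem U_comm (h : PE d E W Q p m) (D : UD d) (hx : x ∈ d.U) (hy : y ∈ Q) (z : (p y).2 = 0) :
    x * y = y * x := by
  rw [PE.comm_iff h D (PE.UQ h hx) hy]
  simp [QE.β, PE.pU1 h hx, z]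

theorem swp_norU (h : PE d E W Q p m) (H : HE d E) (hg : g ∈ nor Q) (s : Swp d E W g) :
    g ∈ nor d.U := by
  have D := H.toUD
  refine mem_normalizer_of_cj_le fun x hx => ?_
  obtain ⟨u, hu, rfl⟩ := hx
  have key : ∀ V : Subgroup G, V ≤ Q → (∀ v ∈ V, (p v).2 = 0) → ∀ v ∈ cj g V,
      g * u * g⁻¹ * v = v * (g * u * g⁻¹) := by
    rintro V hV z _ ⟨v, hv, rfl⟩
    show g * u * g⁻¹ * (g * v * g⁻¹) = g * v * g⁻¹ * (g * u * g⁻¹)
    rw [conj_mul, conj_mul, U_comm h D hu (hV hv) (z v hv)]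
  refine memU_of h H (conj_mem_nor hg (PE.UQ h hu)) (fun w hw => ?_) fun e he => ?_
  · exact key _ (FQ h D) (fun v hv => ((h.memF v (FQ h D hv)).1 hv).2) w (s.1.symm ▸ hw)
  · exact key _ (PE.WQ h) (fun v hv => (PE.pW h hv).2) e (s.2.symm ▸ mem_sup_right he)

theorem Q_tr0 (h : PE d E W Q p m) (D : UD d) (hx : x ∈ Q) : d.Tr0 x := fun u hu => by
  have h1 : x * u * x⁻¹ = d.ι (d.β (p x) (p u)) * u := by
    rw [← PE.comm_eq h D hx (PE.UQ h hu)]; group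
  rw [h1, D.π_mul _ (D.ZU (D.ι_mem _)) u hu, D.π_ι, zero_add]

/-- The facts on `T` before weak closure. -/
structure TP (d : Dat G k K) (E W Q : Subgroup G) (p : G → (k × k) × K) (m : k)
    (T : Subgroup G) : Prop where
  two : IsPGroup 2 T
  QT : Q ≤ T
  norQ : T ≤ nor Q
  norU : T ≤ nor d.U
  swp : ∀ x ∈ T, x ∈ nor (d.Z ⊔ E) ∨ (m = 0 ∧ Full E p ∧ Swp d E W x)

variable (L : LocE d E) (h : PE d E W Q p m) (t : TP d E W Q p m T)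
include L h t

theorem trT (hx : x ∈ T) (hF : x ∈ nor (d.Z ⊔ E)) (tr : d.Tr0 x) : x ∈ Q := by
  have D := L.toUD
  obtain ⟨-, -, -, w, hw, hn⟩ := h.nF x hF
  have wT : w ∈ T := t.QT (PE.WQ h hw)
  have nT : w⁻¹ * x ∈ T := mul_mem (inv_mem wT) hx
  have n0 : w⁻¹ * x ∈ T0 d :=
    mul_mem (inv_mem (show w ∈ T0 d from ⟨t.norU wT, Q_tr0 h D (PE.WQ h hw)⟩))
      (show x ∈ T0 d from ⟨t.norU hx, tr⟩)
  have e2 := e2_of_mem t.two nT
  have h1 := L.h4E _ (L.odd2 _ hn e2) n0.1 e2 n0.2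
  have h2 := mul_mem (PE.WQ h hw) ((sup_le (PE.UQ h) (PE.EQ h) : d.U ⊔ E ≤ Q) h1)
  rwa [mul_inv_cancel_left] at h2

omit L h in
theorem mulF (hx : x ∈ T) (hy : y ∈ T) (nx : x ∉ nor (d.Z ⊔ E)) (ny : y ∉ nor (d.Z ⊔ E)) :
    x * y ∈ nor (d.Z ⊔ E) := by
  obtain ⟨-, -, a⟩ := (t.swp x hx).resolve_left nx
  obtain ⟨-, -, b⟩ := (t.swp y hy).resolve_left ny
  rw [← cj_eq_self_iff, ← cj_cj, b.1, a.2]

theorem abT {a b : G} (ha : a ∈ T) (hb : b ∈ T) : a * b * a⁻¹ * b⁻¹ ∈ Q := by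
  have cT : a * b * a⁻¹ * b⁻¹ ∈ T := mul_mem (mul_mem (mul_mem ha hb) (inv_mem ha)) (inv_mem hb)
  have cF : a * b * a⁻¹ * b⁻¹ ∈ nor (d.Z ⊔ E) := by
    by_cases h1 : a ∈ nor (d.Z ⊔ E) <;> by_cases h2 : b ∈ nor (d.Z ⊔ E)
    · exact mul_mem (mul_mem (mul_mem h1 h2) (inv_mem h1)) (inv_mem h2)
    · refine mulF t (mul_mem (mul_mem ha hb) (inv_mem ha)) (inv_mem hb) (fun c => h2 ?_)
        fun c => h2 (inv_mem_iff.1 c)
      simpa [mul_assoc] using mul_mem (mul_mem (inv_mem h1) c) h1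
    · rw [mul_assoc, mul_assoc, ← mul_assoc b]
      refine mulF t ha (mul_mem (mul_mem hb (inv_mem ha)) (inv_mem hb)) h1 fun c => h1 ?_
      simpa [mul_assoc] using mul_mem (mul_mem (inv_mem h2) (inv_mem c)) h2
    · rw [mul_assoc]
      exact mul_mem (mulF t ha hb h1 h2) (mulF t (inv_mem ha) (inv_mem hb)
        (fun c => h1 (inv_mem_iff.1 c)) fun c => h2 (inv_mem_iff.1 c))
  obtain ⟨ρ, hρ⟩ := L.rho
  let a' : nor d.U := ⟨a, t.norU ha⟩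
  let b' : nor d.U := ⟨b, t.norU hb⟩
  obtain ⟨l, -, hl⟩ := hρ (a' * b' * a'⁻¹ * b'⁻¹)
  have h1 : ρ (a' * b' * a'⁻¹ * b'⁻¹) = 1 := by
    rw [map_mul, map_mul, map_mul, L.galc (ρ a') (ρ b'), map_inv, map_inv]; group
  rw [h1] at hl
  exact trT L h t cT cF (L.sc2 _ (t.norU cT) (e2_of_mem t.two cT) l hl)

theorem refl_of (hx : x ∈ T) (hF : x ∈ nor (d.Z ⊔ E)) (sq : x * x ∈ Q) (n : x ∉ Q) :
    ∃ y, d.Refl x y :=
  (L.inv0 x (t.norU hx) (e2_of_mem t.two hx) (Q_tr0 h L.toUD sq)).resolve_left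
    fun c => n (trT L h t hx hF c)

theorem idx4 (hX : X ≤ T) (sq : ∀ x ∈ X, x * x ∈ Q) : (X ⊓ Q).relIndex X ≤ 4 ∧
    (X ⊓ Q).relIndex (X ⊓ nor (d.Z ⊔ E)) ≤ 2 ∧ (X ⊓ nor (d.Z ⊔ E)).relIndex X ≤ 2 := by
  have l1 : X ⊓ Q ≤ X ⊓ nor (d.Z ⊔ E) := inf_le_inf_left _ (PE.Q_norF h L.toUD)
  have h1 : (X ⊓ Q).relIndex (X ⊓ nor (d.Z ⊔ E)) ≤ 2 := by
    refine rel2 l1 fun x hx y hy nx ny => ⟨mul_mem hx.1 hy.1, ?_⟩
    obtain ⟨a, ra⟩ := refl_of L h t (hX hx.1) hx.2 (sq x hx.1) fun c => nx ⟨hx.1, c⟩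
    obtain ⟨b, rb⟩ := refl_of L h t (hX hy.1) hy.2 (sq y hy.1) fun c => ny ⟨hy.1, c⟩
    have xy := hX (mul_mem hx.1 hy.1)
    exact trT L h t xy (mul_mem hx.2 hy.2) (L.rr _ _ _ _ ra rb (e2_of_mem t.two xy)).1
  have h2 : (X ⊓ nor (d.Z ⊔ E)).relIndex X ≤ 2 :=
    rel2 inf_le_left fun x hx y hy nx ny => ⟨mul_mem hx hy,
      mulF t (hX hx) (hX hy) (fun c => nx ⟨hx, c⟩) fun c => ny ⟨hy, c⟩⟩
  refine ⟨?_, h1, h2⟩
  rw [← relIndex_mul_relIndex _ _ _ l1 inf_le_left]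
  exact Nat.mul_le_mul h1 h2

omit t in
theorem sxQ (hf : Full E p) : SX Q d.Z := by
  have D := L.toUD
  refine ⟨D.ZU.trans (PE.UQ h), fun x hx => mem_centralizer_iff.2 fun z hz => PE.Z_cen h D hz hx,
    fun v hv => D.Z_sq hv, fun x hx => h.sqQ x hx ▸ D.ι_mem _,
    fun x hx y hy => PE.comm_eq h D hx hy ▸ D.ι_mem _, fun x hx nx v hv => ?_⟩
  obtain ⟨b, rfl⟩ := (D.memZ v).1 hv
  by_cases hw : x ∈ W
  · have a0 : (p x).1.1 ≠ 0 := fun c => nx ((h.p_ker x hx).1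
      (Prod.ext (Prod.ext c (PE.pW h hw).1) (PE.pW h hw).2))
    obtain ⟨e, he, ce⟩ := hf (b / (p x).1.1)
    refine ⟨e, PE.EQ h he, ?_⟩
    rw [PE.comm_eq h D hx (PE.EQ h he)]
    simp only [QE.β, ce, (PE.pE h he).1, (PE.pE h he).2, QE.B_zero_right, mul_zero, add_zero]
    rw [mul_div_cancel₀ _ a0]
  · obtain ⟨y, hy, -, e⟩ := PE.fill h D hx hw b
    refine ⟨y, hy, ?_⟩
    rw [PE.comm_eq h D hx hy, ← e]
    simp only [QE.β, d.B_comm (p x).2]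
    congr 1
    ring

theorem Z_cj (hg : cj g Q ≤ T) : cj g d.Z ≤ Q := by
  rintro _ ⟨z, hz, rfl⟩
  have D := L.toUD
  obtain ⟨u, hu, n⟩ := D.π_surj 1
  obtain ⟨v, hv, rfl⟩ := L.sxU.onto u hu
    (fun c => one_ne_zero (n.symm.trans ((D.ker u hu).2 c))) z hz
  have := abT L h t (hg (conj_mem_cj (PE.UQ h hu))) (hg (conj_mem_cj (PE.UQ h hv)))
  show g * (u * v * u⁻¹ * v⁻¹) * g⁻¹ ∈ Q
  simpa [mul_assoc] using this

theorem sq_cj (hg : cj g Q ≤ T) (hx : x ∈ cj g Q) : x * x ∈ Q := by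
  obtain ⟨y, hy, rfl⟩ := hx
  refine Z_cj L h t hg ?_
  show g * y * g⁻¹ * (g * y * g⁻¹) ∈ _
  rw [conj_mul, h.sqQ y hy]
  exact conj_mem_cj (L.toUD.ι_mem _)

theorem Z_eq (hg : cj g Q ≤ T) : cj g d.Z = d.Z := by
  have D := L.toUD
  by_contra hne
  have lt : cj g d.Z ⊓ d.Z < cj g d.Z := by
    refine lt_of_le_of_ne inf_le_left fun c => hne ?_
    exact eq_of_le_of_card_ge (inf_eq_left.1 c) (card_cj g _).ge
  have q4 := d.four
  have key : ∀ Y : Subgroup G, Y ≤ Q → SX Y d.Z → ∀ r, (cj g Y ⊓ Q).relIndex (cj g Y) ≤ r →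
      Nat.card Y ≤ r ^ 2 * Nat.card k := by
    intro Y hY s r hr
    have s' := s.cj g
    have h1 := L.sxiso _ _ (cj g Y ⊓ Q) _ s' (le_inf s'.le (Z_cj L h t hg)) inf_le_left lt
      fun x hx y hy => ⟨s'.com x hx.1 y hy.1, PE.comm_eq h D hx.2 hy.2 ▸ D.ι_mem _⟩
    have h2 := card_rel' Q (cj g Y)
    rw [card_cj, card_cj, L.cardZ] at h1
    rw [card_cj] at h2
    have h3 : Nat.card Y ≤ Nat.card ↥(cj g Y ⊓ Q) * r := h2 ▸ Nat.mul_le_mul_left _ hr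
    have h4 : Nat.card Y * Nat.card Y ≤ Nat.card Y * (r ^ 2 * Nat.card k) :=
      calc Nat.card Y * Nat.card Y
          ≤ (Nat.card ↥(cj g Y ⊓ Q) * r) * (Nat.card ↥(cj g Y ⊓ Q) * r) := Nat.mul_le_mul h3 h3
        _ = Nat.card ↥(cj g Y ⊓ Q) ^ 2 * r ^ 2 := by ring
        _ ≤ Nat.card Y * Nat.card k * r ^ 2 := Nat.mul_le_mul_right _ h1
        _ = _ := by ring
    exact Nat.le_of_mul_le_mul_left h4 Nat.card_pos
  by_cases hU : cj g d.U ≤ nor (d.Z ⊔ E)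
  · have UT := (cj_mono g (PE.UQ h)).trans hg
    have h1 := (idx4 L h t UT fun x hx => sq_cj L h t hg (cj_mono g (PE.UQ h) hx)).2.1
    rw [inf_eq_left.2 hU] at h1
    have h2 := key _ (PE.UQ h) L.sxU 2 h1
    rw [L.cardU] at h2
    have h3 : Nat.card k * (4 * 4) ≤ Nat.card k ^ 3 := by
      rw [pow_succ', sq]; exact Nat.mul_le_mul_left _ (Nat.mul_le_mul q4 q4)
    omega
  · obtain ⟨x, hx, n⟩ := SetLike.not_le_iff_exists.1 hU
    obtain ⟨-, hf, -⟩ := (t.swp x (hg (cj_mono g (PE.UQ h) hx))).resolve_left n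
    have h2 := key _ le_rfl (sxQ L h hf) 4 (idx4 L h t hg fun x hx => sq_cj L h t hg hx).1
    rw [h.cardQ] at h2
    have h3 : Nat.card k * (4 * 4 * 4) * 4 ≤ Nat.card k ^ 4 * Nat.card E := by
      refine Nat.mul_le_mul ?_ L.fourE
      rw [pow_succ', pow_succ, sq]
      exact Nat.mul_le_mul_left _ (Nat.mul_le_mul (Nat.mul_le_mul q4 q4) q4)
    omega

omit t in
theorem ad_cj (hg : g ∈ nor Q) : Ad Q fun x => p (g * x * g⁻¹) := fun x hx y hy => by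
  show p (g * (x * y) * g⁻¹) = p (g * x * g⁻¹) + p (g * y * g⁻¹)
  rw [← h.p_mul _ (conj_mem_nor hg hx) _ (conj_mem_nor hg hy), conj_mul]

omit t in
theorem xi_refl {y : K} (hF : e ∈ nor (d.Z ⊔ E)) (r : d.Refl e y) (hx : x ∈ Q) :
    (p (e * x * e⁻¹)).2 = (p x).2 + (d.B (p x).2 y / d.N y) • y := by
  obtain ⟨nU, nW, nQ, -⟩ := h.nF e hF
  refine PE.ind h (R := fun x => (p (e * x * e⁻¹)).2 = (p x).2 + (d.B (p x).2 y / d.N y) • y)
    (fun w hw => ?_) (fun u hu => ?_) (fun f hf => ?_) (fun a ha b hb h1 h2 => ?_) hx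
  · simp [(PE.pW h hw).2, (PE.pW h (conj_mem_nor nW hw)).2]
  · show _ = _
    rw [h.pU u hu, h.pU _ (conj_mem_nor nU hu), r.act u hu]
  · have := conj_mem_nor hF (mem_sup_right hf : f ∈ d.Z ⊔ E)
    simp [(PE.pE h hf).2, ((h.memF _ (FQ h L.toUD this)).1 this).2]
  · have h3 := ad_cj L h nQ a ha b hb
    dsimp only at h1 h2 h3 ⊢
    rw [h3, h.p_mul a ha b hb, Prod.snd_add, Prod.snd_add, h1, h2, d.B_add_left, add_div, add_smul]
    abel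

theorem weak (hg : cj g Q ≤ T) : cj g Q = Q := by
  have D := L.toUD
  have hZ := Z_eq L h t hg
  have q4 := d.four
  by_contra hne
  have nle : ¬ cj g Q ≤ Q := fun c => hne (eq_of_le_of_card_ge c (card_cj g _).ge)
  obtain ⟨i4, i2, i2'⟩ := idx4 L h t hg fun x hx => sq_cj L h t hg hx
  have fix : ∀ e ∈ cj g Q, ∀ x ∈ cj g Q ⊓ Q, p (e * x * e⁻¹) = p x := by
    intro e he x hx
    have h1 : e * x * e⁻¹ * x⁻¹ ∈ d.Z := by
      obtain ⟨a, ha, rfl⟩ := he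
      obtain ⟨b, hb, e1⟩ := hx.1
      have h2 := conj_mem_cj (g := g) (show a * b * a⁻¹ * b⁻¹ ∈ d.Z from
        PE.comm_eq h D ha hb ▸ D.ι_mem _)
      rw [hZ] at h2
      rw [← e1]
      simpa [mul_assoc] using h2
    have h3 := h.p_mul _ (D.ZU.trans (PE.UQ h) h1) x hx.2
    rw [inv_mul_cancel_right, (h.p_ker _ (D.ZU.trans (PE.UQ h) h1)).2 h1, zero_add] at h3
    exact h3
  have bound : ∀ n, Nat.card ↥(cj g Q ⊓ Q) * n ≤ Nat.card Q →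
      n ≤ (cj g Q ⊓ Q).relIndex (cj g Q) := by
    intro n hn
    rw [← card_cj g Q, ← card_rel' Q (cj g Q)] at hn
    exact Nat.le_of_mul_le_mul_left hn Nat.card_pos
  have R : ∀ e ∈ cj g Q, e ∈ nor (d.Z ⊔ E) → e ∉ Q → ∃ φ : G → k, Ad Q φ ∧
      (∀ x ∈ cj g Q ⊓ Q, φ x = 0) ∧ (∀ f ∈ E, φ f = 0) ∧ ∀ a, ∃ u ∈ d.U, φ u = a := by
    intro e he hF n
    obtain ⟨y, r⟩ := refl_of L h t (hg he) hF (sq_cj L h t hg he) n
    refine ⟨fun x => d.B (p x).2 y, fun a ha b hb => ?_, fun x hx => ?_, fun f hf => ?_,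
      fun a => ?_⟩
    · simp only [h.p_mul a ha b hb, Prod.snd_add, d.B_add_left]
    · have h1 := xi_refl L h hF r hx.2
      rw [fix e he x hx, left_eq_add, smul_eq_zero, div_eq_zero_iff, d.N_eq_zero] at h1
      exact (h1.resolve_right r.ne).resolve_right r.ne
    · simp [(PE.pE h hf).2]
    · obtain ⟨z, hz⟩ := d.B_surj r.ne a
      obtain ⟨u, hu, e1⟩ := D.π_surj z
      exact ⟨u, hu, by simp only [h.pU u hu, e1]; rw [d.B_comm, hz]⟩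
  have S : ∀ e ∈ cj g Q, e ∉ nor (d.Z ⊔ E) → ∃ φ : G → k, Ad Q φ ∧
      (∀ x ∈ cj g Q ⊓ Q, φ x = 0) ∧ (∀ u ∈ d.U, φ u = 0) ∧ ∀ a, ∃ f ∈ E, φ f = a := by
    intro e he n
    obtain ⟨-, hf, s⟩ := (t.swp e (hg he)).resolve_left n
    refine ⟨fun x => (p x).1.2 + (p (e * x * e⁻¹)).1.2, fun a ha b hb => ?_, fun x hx => ?_,
      fun u hu => ?_, fun a => ?_⟩
    · have h3 := ad_cj L h (t.norQ (hg he)) a ha b hb
      dsimp only at h3 ⊢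
      rw [h3, h.p_mul a ha b hb]
      simp only [Prod.fst_add, Prod.snd_add]
      ring
    · simp only [fix e he x hx, CharTwo.add_self_eq_zero]
    · simp [PE.pU1 h hu, PE.pU1 h (conj_mem_nor (t.norU (hg he)) hu)]
    · obtain ⟨f, h1, h2⟩ := hf a
      have h3 : e * f * e⁻¹ ∈ W := s.1 ▸ conj_mem_cj (mem_sup_right h1)
      exact ⟨f, h1, by simp only [h2, (PE.pW h h3).1, add_zero]⟩
  by_cases hF : cj g Q ≤ nor (d.Z ⊔ E)
  · obtain ⟨e, he, n⟩ := SetLike.not_le_iff_exists.1 nle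
    obtain ⟨φ, a1, a2, -, a4⟩ := R e he (hF he) n
    have := bound _ (cnt a1 (fun a => (a4 a).imp fun u hu => ⟨PE.UQ h hu.1, hu.2⟩) inf_le_right a2)
    rw [inf_eq_left.2 hF] at i2
    omega
  obtain ⟨e', he', n'⟩ := SetLike.not_le_iff_exists.1 hF
  obtain ⟨ψ, b1, b2, b3, b4⟩ := S e' he' n'
  by_cases hQ : cj g Q ⊓ nor (d.Z ⊔ E) ≤ Q
  · have := bound _ (cnt b1 (fun a => (b4 a).imp fun u hu => ⟨PE.EQ h hu.1, hu.2⟩) inf_le_right b2)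
    have e1 : cj g Q ⊓ Q = cj g Q ⊓ nor (d.Z ⊔ E) :=
      le_antisymm (inf_le_inf_left _ (PE.Q_norF h D)) (le_inf inf_le_left hQ)
    rw [← e1] at i2'
    omega
  obtain ⟨e, he, n⟩ := SetLike.not_le_iff_exists.1 hQ
  obtain ⟨φ, a1, a2, a3, a4⟩ := R e he.1 he.2 n
  have c1 : Ad Q fun x => (φ x, ψ x) := fun a ha b hb => Prod.ext (a1 a ha b hb) (b1 a ha b hb)
  have := bound _ (cnt c1 (fun a => ?_) inf_le_right fun x hx => Prod.ext (a2 x hx) (b2 x hx))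
  · rw [Nat.card_prod] at this
    have := Nat.mul_le_mul q4 q4
    omega
  · obtain ⟨u, hu, e1⟩ := a4 a.1
    obtain ⟨f, hf, e2⟩ := b4 a.2
    refine ⟨u * f, mul_mem (PE.UQ h hu) (PE.EQ h hf), Prod.ext ?_ ?_⟩
    · simp only [a1 u (PE.UQ h hu) f (PE.EQ h hf), e1, a3 f hf, add_zero]
    · simp only [b1 u (PE.UQ h hu) f (PE.EQ h hf), e2, b3 u hu, zero_add]

omit L h t in
theorem jobET : JobET.{u} := by
  intro G _ _ k K _ _ _ _ _ _ _ d E W Q p m L h hyp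
  have : Fact (Nat.Prime 2) := ⟨Nat.prime_two⟩
  obtain ⟨T, hT, QT⟩ := exists_isSyl_le h.twoQ (le_normalizer : Q ≤ nor Q)
  have nU : nor Q ≤ nor d.U := fun g hg =>
    (hyp g hg).elim (fun a => (h.nF g a).1) fun a => swp_norU h L.toHE hg a.2.2
  have t : TP d E W Q p m T := ⟨hT.isPGroup, QT, hT.le, hT.le.trans nU, fun x hx => hyp x (hT.le hx)⟩
  refine ⟨T, h, isSyl_of_isSyl_normalizer (hT.of_le (le_inf le_top le_normalizer) fun g hg => ?_),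
    QT, le_inf t.norQ t.norU, fun a ha b hb => abT L h t ha hb, fun x hx => trT L h t hx,
    fun X hX => idx4 L h t hX, t.swp⟩
  exact cj_eq_self_iff.1 (weak L h t (cj_le_of_le QT hg.2))

end H20.BgET
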