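import Cfsg.Agent.H19.L3Cov
import Cfsg.Agent.H19.L3Tr
import Cfsg.Agent.H57.Unitri
import Cfsg.Prelude.Def_CaseTheorems
import Cfsg.Prelude.Def_LieTwisted
import Cfsg.Prelude.Def_LieClassical
import Cfsg.Prelude.Def_Sz
import Cfsg.Prelude.Def_SporadicB
import Cfsg.Prelude.Def_Spor_Mathieu

/-! LD4: quasisimple irreducible subgroups of `SL₄(q)` (blueprints/LD4.md): the interface. -/

set_option autoImplicit false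
set_option linter.unusedVariables false

namespace H20.LD

open Cfsg Cfsg.Geo Matrix
open scoped MatrixGroups commutatorElement

universe u v

abbrev G4 (k : Type u) [Field k] : Type u := GL (Fin 4) k
abbrev M4 (k : Type u) : Type u := Matrix (Fin 4) (Fin 4) k
abbrev V4 (k : Type u) : Type u := Fin 4 → k

/-- The order of `SL₄(q)`. -/
def oL (q : ℕ) : ℕ := q ^ 6 * (q ^ 2 - 1) * (q ^ 3 - 1) * (q ^ 4 - 1)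

/-- The order of `SU₄(q)`. -/
def oU (q : ℕ) : ℕ := q ^ 6 * (q ^ 2 - 1) * (q ^ 3 + 1) * (q ^ 4 - 1)

/-! ### Representations -/

section rep

variable {k : Type u} [Field k] {X : Type u} [Group X] {Γ : Type v} [Group Γ]

/-- The standing hypothesis. -/
structure R4 (p : ℕ) (ρ : X →* G4 k) (π : X →* Γ) : Prop where
  prime : p.Prime
  char : CharP k p
  inj : Function.Injective ρ
  det : ∀ x, (ρ x).val.det = 1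
  perf : commutator X = ⊤
  span : H19.gspan ρ.range = ⊤
  surj : Function.Surjective π
  ker : ∀ x, π x = 1 ↔ ∃ c : k, (ρ x).val = c • (1 : M4 k)
  simple : IsSimpleGroup Γ
  nab : ¬ IsMulCommutative Γ
  ut : ∀ Q : Subgroup X, IsPGroup p Q → ∃ B : G4 k, ∀ x ∈ Q, B⁻¹ * ρ x * B ∈ H57.unitriGL 4 k

/-- The character. -/
def tr (ρ : X →* G4 k) (x : X) : k := (ρ x).val.trace

/-- The representation in the basis given by the columns of `B`. -/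
def cb (ρ : X →* G4 k) (B : G4 k) : X →* G4 k := (MulAut.conj B⁻¹).toMonoidHom.comp ρ

def RE (ρ : X →* G4 k) : Prop := ∀ x, tr ρ x⁻¹ = tr ρ x
def TF (q : ℕ) (ρ : X →* G4 k) : Prop := ∀ x, tr ρ x ^ q = tr ρ x
def TU (q : ℕ) (ρ : X →* G4 k) : Prop := ∀ x, tr ρ x ^ q = tr ρ x⁻¹

def IsTv (g : G4 k) : Prop :=
  g ≠ 1 ∧ ∃ u φ : V4 k, φ ⬝ᵥ u = 0 ∧ g.val = 1 + vecMulVec u φ

/-- No transvections. -/
def NoTv (ρ : X →* G4 k) : Prop := ∀ x, ¬ IsTv (ρ x)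

/-- No reflections modulo scalars. -/
def NoRf (ρ : X →* G4 k) (π : X →* Γ) : Prop :=
  ∀ x, π x ≠ 1 → π x * π x = 1 → tr ρ x = 0

/-- The centre has exponent two. -/
def Z2 (π : X →* Γ) : Prop := ∀ z, π z = 1 → z * z = 1

/-- `ω` times a homology of order three. -/
def Hom3 (g : G4 k) (ω : k) : Prop :=
  ω ^ 2 + ω + 1 = 0 ∧ ∃ u φ : V4 k, φ ⬝ᵥ u = 1 ∧ g.val = ω • (1 + (ω ^ 2 - 1) • vecMulVec u φ)

/-- `g` is monomial: it maps the `j`-th axis to the `σ j`-th axis. -/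
def Mon (g : G4 k) (σ : Equiv.Perm (Fin 4)) : Prop := ∀ i j, i ≠ σ j → g.val i j = 0

/-- The centralizer of `bl` is dihedral of order eight. -/
def bl : Equiv.Perm (Fin 4) := Equiv.swap 0 1 * Equiv.swap 2 3

/-- The diagonal reflections. -/
def rf (k : Type u) [Field k] (i : Fin 4) : M4 k := diagonal fun j => if j = i then -1 else 1

/-- `M` lies in `S` modulo scalars. -/
def HasIn (ρ : X →* G4 k) (π : X →* Γ) (S : Subgroup Γ) (M : M4 k) : Prop :=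
  ∃ x, π x ∈ S ∧ ∃ c : k, (ρ x).val = c • M

/-- `S` is monomial of dihedral type. -/
def MS (ρ : X →* G4 k) (π : X →* Γ) (S : Subgroup Γ) : Prop :=
  ∀ x, π x ∈ S → ∃ σ, σ * bl = bl * σ ∧ Mon (ρ x) σ

/-- `S` contains the diagonal reflections and is transitive on the axes. -/
structure Fr (ρ : X →* G4 k) (π : X →* Γ) (S : Subgroup Γ) : Prop where
  ms : MS ρ π S
  rf : ∀ i, HasIn ρ π S (rf k i)
  tra : ∀ i, ∃ x σ, π x ∈ S ∧ Mon (ρ x) σ ∧ σ 0 = i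

/-- A monomial reflection which is not diagonal. -/
def NDR (ρ : X →* G4 k) (π : X →* Γ) : Prop :=
  ∃ x σ, σ ≠ 1 ∧ Mon (ρ x) σ ∧ π x * π x = 1 ∧ tr ρ x ≠ 0

structure Z1 (ρ : X →* G4 k) (π : X →* Γ) (S : Subgroup Γ) (i : k) : Prop extends Fr ρ π S where
  ii : i * i = -1
  z : HasIn ρ π S (diagonal ![i, i, 1, 1])
  s : ∃ x, π x ∈ S ∧ Mon (ρ x) (Equiv.swap 0 1) ∧ π x * π x = 1 ∧ tr ρ x ≠ 0

/-- The full Weyl group. -/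
structure FW (ρ : X →* G4 k) (π : X →* Γ) (i : k) : Prop where
  perm : ∀ σ : Equiv.Perm (Fin 4), HasIn ρ π ⊤ (σ.permMatrix k)
  rf : HasIn ρ π ⊤ (rf k 0)
  ii : i * i = -1
  z : HasIn ρ π ⊤ (diagonal ![i, i, 1, 1])
  syl : ∃ S : Sylow 2 Γ, ∀ x, π x ∈ S → ∃ σ, Mon (ρ x) σ

/-- The full torus. -/
structure FT (ρ : X →* G4 k) (π : X →* Γ) (S : Subgroup Γ) (n : ℕ) : Prop where
  three : 3 ≤ n
  perm : ∀ σ : Equiv.Perm (Fin 4), HasIn ρ π ⊤ (σ.permMatrix k)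
  tor : ∀ d : Fin 4 → k, (∀ i, d i ^ 2 ^ n = 1) → ∏ i, d i = 1 → ∃ x, (ρ x).val = diagonal d
  mem : ∀ x, π x ∈ S ↔ (∃ σ, σ * bl = bl * σ ∧ Mon (ρ x) σ) ∧
    ∀ i j, (ρ x).val i j = 0 ∨ (ρ x).val i j ^ 2 ^ n = 1

end rep

/-! ### Configurations in abstract groups -/

section cfg

variable {Γ : Type*} [Group Γ]

/-- `g ^ i a g ^ (-i)`. -/
def cp (g : Γ) (i : ℕ) (a : Γ) : Γ := g ^ i * a * (g ^ i)⁻¹

structure Heis (r : ℕ) (a b : Γ) : Prop where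
  ar : a ^ r = 1
  br : b ^ r = 1
  ne : ⁅a, b⁆ ≠ 1
  ca : Commute ⁅a, b⁆ a
  cb : Commute ⁅a, b⁆ b

variable (Γ) in
def HeisR : Prop :=
  ∃ (r : ℕ) (a b : Γ), r.Prime ∧ r ≠ 2 ∧ Heis r a b ∧ (r = 3 → IsConj ⁅a, b⁆ ⁅a, b⁆⁻¹ ∨
    ∃ a' b' a'' b'' : Γ, Heis 3 a' b' ∧ Heis 3 a'' b'' ∧ Commute ⁅a, b⁆ ⁅a', b'⁆ ∧
      ⁅a, b⁆ * ⁅a', b'⁆ = ⁅a'', b''⁆ ∧ ⁅a', b'⁆ ≠ ⁅a, b⁆)

variable (Γ) in
/-- `2³ : 7`. -/
def E87 : Prop :=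
  ∃ a g : Γ, a ≠ 1 ∧ a * a = 1 ∧ Commute a (cp g 1 a) ∧ Commute a (cp g 2 a) ∧
    cp g 3 a = a * cp g 1 a

variable (Γ) in
/-- `2⁴ : 15`. -/
def E15 : Prop :=
  ∃ a g : Γ, a ≠ 1 ∧ a * a = 1 ∧ Commute a (cp g 1 a) ∧ Commute a (cp g 2 a) ∧
    Commute a (cp g 3 a) ∧ cp g 4 a = a * cp g 1 a

variable (Γ) in
/-- `2^{1+4} : 5`. -/
def X5 : Prop :=
  ∃ z a g : Γ, z ≠ 1 ∧ z * z = 1 ∧ g ^ 5 = 1 ∧ Commute g z ∧ Commute a z ∧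
    (a * a = 1 ∨ a * a = z) ∧ (∀ i, ⁅a, cp g i a⁆ = 1 ∨ ⁅a, cp g i a⁆ = z) ∧
    (a * cp g 1 a * cp g 2 a * cp g 3 a * cp g 4 a = 1 ∨
      a * cp g 1 a * cp g 2 a * cp g 3 a * cp g 4 a = z) ∧ a ≠ 1 ∧ a ≠ z

variable (Γ) in
/-- `2^{2+4} : 5`. -/
def Y5 : Prop :=
  ∃ c e a g : Γ, c ≠ 1 ∧ c * c = 1 ∧ e * e ≠ 1 ∧ e ^ 4 = 1 ∧ e * e ≠ c ∧ Commute e c ∧
    g ^ 5 = 1 ∧ Commute g c ∧ Commute g (e * e) ∧ Commute a c ∧ Commute a (e * e) ∧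
    a * cp g 1 a * cp g 2 a * cp g 3 a * cp g 4 a ∈ Subgroup.closure {c, e * e} ∧
    ∃ i, ¬ Commute a (cp g i a)

variable (Γ) in
/-- An abelian group of exponent `r` whose nontrivial characters have five conjugates. -/
def W5 (r : ℕ) : Prop :=
  ∃ A : Subgroup Γ, A ≠ ⊥ ∧ (∀ a ∈ A, a ^ r = 1) ∧ (∀ a ∈ A, ∀ b ∈ A, a * b = b * a) ∧
    ∃ n : Fin 5 → Γ, (∀ i, ∀ a ∈ A, n i * a * (n i)⁻¹ ∈ A) ∧
      ∀ i j, i ≠ j → ∀ a ∈ A, ∃ b ∈ A, a = n i * b * (n i)⁻¹ * (n j * b * (n j)⁻¹)⁻¹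

variable (Γ) in
def C2 : Prop :=
  ∃ h₁ h₂ s₁ s₂ : Γ, Odd (orderOf h₁) ∧ IsConj h₁ h₂ ∧ Commute h₁ h₂ ∧ h₁ ≠ 1 ∧ h₂ ≠ h₁ ∧
    h₁ * h₂ ≠ 1 ∧ s₁ ≠ 1 ∧ s₁ * s₁ = 1 ∧ Commute s₁ h₁ ∧ s₂ ≠ 1 ∧ s₂ * s₂ = 1 ∧
    Commute s₂ (h₁ * h₂)

variable (Γ) in
def C73 : Prop :=
  ∃ g h s : Γ, g ≠ 1 ∧ g ^ 7 = 1 ∧ h * g * h⁻¹ = g ^ 2 ∧ s ≠ 1 ∧ s * s = 1 ∧ Commute s h

variable (Γ) in
/-- One class of involutions. -/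
def One : Prop := ∀ s t : Γ, s ≠ 1 → s * s = 1 → t ≠ 1 → t * t = 1 → IsConj s t

/-- A product of two involutions. -/
def SR (x : Γ) : Prop := ∃ s t : Γ, s ≠ 1 ∧ s * s = 1 ∧ t ≠ 1 ∧ t * t = 1 ∧ x = s * t

variable (Γ) in
def Re2 (p : ℕ) : Prop := One Γ ∧ ∀ x : Γ, x ≠ 1 → ¬ p ∣ orderOf x → SR x

variable (Γ) in
/-- Dihedral Sylow 2-subgroups. -/
def Dih : Prop :=
  ∃ (S : Sylow 2 Γ) (r s : Γ), s * s = 1 ∧ s * r * s⁻¹ = r⁻¹ ∧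
    ∀ x ∈ S, x ∈ Subgroup.zpowers r ∨ x * s ∈ Subgroup.zpowers r

variable (Γ) in
/-- Elements of odd order are real. -/
def Rl : Prop := ∀ x : Γ, Odd (orderOf x) → IsConj x x⁻¹

/-- Generators of `PSp₄(3)`. -/
structure C32 (z : Fin 4 → Γ) : Prop where
  heis : ∃ a b, Heis 3 a b ∧ ⁅a, b⁆ = z 0
  b01 : z 0 * z 1 * z 0 = z 1 * z 0 * z 1
  b12 : z 1 * z 2 * z 1 = z 2 * z 1 * z 2
  b23 : z 2 * z 3 * z 2 = z 3 * z 2 * z 3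
  c02 : Commute (z 0) (z 2)
  c03 : Commute (z 0) (z 3)
  c13 : Commute (z 1) (z 3)
  gen : Subgroup.closure (Set.range z) = ⊤

variable (Γ) in
/-- The facts used on `L₃(4)`. -/
structure L34F : Prop where
  one : One Γ
  v4 : ∃ a b : Γ, a ≠ 1 ∧ b ≠ 1 ∧ a ≠ b ∧ a * a = 1 ∧ b * b = 1 ∧ Commute a b
  spec : ∀ x : Γ, x ^ 3 = 1 ∨ x ^ 4 = 1 ∨ x ^ 5 = 1 ∨ x ^ 7 = 1
  seven : ∀ x : Γ, x ^ 7 = 1 → IsConj x (x ^ 2)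
  five : ∀ x : Γ, x ^ 5 = 1 → x ≠ 1 → IsConj x x⁻¹ ∧ ∃ E : Subgroup Γ, Nat.card E = 16 ∧
    (∀ e ∈ E, e * e = 1) ∧ (∀ e ∈ E, x * e * x⁻¹ ∈ E) ∧ ∀ e ∈ E, x * e = e * x → e = 1
  four : ∀ x : Γ, x ^ 4 = 1 → x * x ≠ 1 → ∃ y y' : Γ, Commute y (x * x) ∧ Commute y' (x * x) ∧
    ¬ Commute y x ∧ ¬ Commute y' x ∧ ¬ Commute (y * y') x
  w3 : W5 Γ 3

end cfg

/-! ### Jobs on representations -/

section repjobs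

/-- All jobs of this kind have the same binders. -/
def All (P : ∀ (p : ℕ) (k : Type u) [Field k] (X : Type u) [Group X] (Γ : Type v) [Group Γ],
    (X →* G4 k) → (X →* Γ) → Prop) : Prop :=
  ∀ (p : ℕ) (k : Type u) [Field k] [IsAlgClosed k] (X : Type u) [Group X] [Finite X]
    (Γ : Type v) [Group Γ] (ρ : X →* G4 k) (π : X →* Γ), R4 p ρ π → P p k X Γ ρ π

/-- HEIS. -/
def JobHeis : Prop := All.{u, v} fun p k _ _ _ Γ _ ρ π =>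
  (∀ (r : ℕ) (a b : Γ), r.Prime → r ≠ 2 → Heis r a b →
    (r = p → ¬ NoTv ρ) ∧
    (r ≠ p → r = 3 ∧ ∃ x, ∃ ω : k, π x = ⁅a, b⁆ ∧ x ^ 3 = 1 ∧ Hom3 (ρ x) ω)) ∧
  (NoTv ρ → ¬ HeisR Γ)

/-- E8. -/
def JobE8 : Prop := All.{u, v} fun p _ _ _ _ Γ _ ρ π =>
  p ≠ 2 → ¬ E87 Γ ∧ ¬ E15 Γ ∧ (NoRf ρ π → ¬ X5 Γ ∧ ¬ Y5 Γ)

/-- WT. -/
def JobWT : Prop := All.{u, v} fun p _ _ _ _ Γ _ ρ _ =>
  (∀ r : ℕ, r.Prime → r ≠ 2 → r ≠ p → ¬ W5 Γ r) ∧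
  (p = 2 → NoTv ρ → ¬ C2 Γ ∧ ¬ C73 Γ ∧
    ∀ S : Sylow 2 Γ, ⁅(⊤ : Subgroup (S : Subgroup Γ)), ⊤⁆ ≤ Subgroup.center (S : Subgroup Γ))

/-- REAL. -/
def JobReal : Prop := All.{u, v} fun p _ _ _ _ Γ _ ρ π =>
  (Dih Γ → Z2 π) ∧ (Z2 π → Re2 Γ p → RE ρ) ∧ (p = 2 → Rl Γ → RE ρ) ∧
  (p = 2 → IsEmpty (Γ ≃* SL(3, ZMod 2)))

def JobA7 : Prop := All.{u, v} fun p _ _ _ _ Γ _ ρ π =>
  Nonempty (Γ ≃* alternatingGroup (Fin 7)) → (Dih Γ → Z2 π) →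
    (p % 7 = 0 ∨ p % 7 = 1 ∨ p % 7 = 2 ∨ p % 7 = 4 → TF p ρ) ∧
    (p % 7 = 0 ∨ p % 7 = 3 ∨ p % 7 = 5 ∨ p % 7 = 6 → TU p ρ)

def JobU42 : Prop := All.{u, v} fun p k _ _ _ Γ _ ρ π =>
  ∀ z : Fin 4 → Γ, C32 z → ∀ x, ∀ ω : k, π x = z 0 → x ^ 3 = 1 → Hom3 (ρ x) ω → p ≠ 3 →
    (p % 3 = 1 → TF p ρ) ∧ (p % 3 = 2 → TU p ρ)

def JobL34 : Prop := All.{u, v} fun p _ _ _ _ Γ _ ρ _ => L34F Γ → p = 3 → TU 3 ρ

/-- Finite 2-groups are monomial. -/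
def JobMon : Prop :=
  ∀ (k : Type u) [Field k] [IsAlgClosed k] (Q : Type u) [Group Q] [Finite Q] (ρ : Q →* G4 k),
    (2 : k) ≠ 0 → IsPGroup 2 Q → ∃ B, ∀ x, ∃ σ, σ * bl = bl * σ ∧ Mon (cb ρ B x) σ

def JobSR4 : Prop := All.{u, v} fun p _ _ _ _ Γ _ ρ π =>
  p ≠ 2 → ∀ S : Sylow 2 Γ, MS ρ π S → NoRf ρ π → SectionalPRankLE 2 4 Γ

def JobRF1 : Prop := All.{u, v} fun p _ _ _ _ Γ _ ρ π =>
  p ≠ 2 → ∀ S : Sylow 2 Γ, MS ρ π S → ¬ NoRf ρ π → Fr ρ π S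

def JobRF2 : Prop := All.{u, v} fun p _ _ _ _ Γ _ ρ π =>
  p ≠ 2 → ∀ S : Sylow 2 Γ, Fr ρ π S → NDR ρ π

def JobRF3 : Prop := All.{u, v} fun p _ _ _ _ Γ _ ρ π =>
  p ≠ 2 → ∀ S : Sylow 2 Γ, Fr ρ π S → NDR ρ π → ∃ i, Z1 ρ π S i

def JobRF4 : Prop := All.{u, v} fun p _ _ _ _ Γ _ ρ π =>
  p ≠ 2 → ∀ (S : Sylow 2 Γ) i, Z1 ρ π S i → ∃ x σ, Mon (ρ x) σ ∧ σ * bl ≠ bl * σ

def JobRF5 : Prop := All.{u, v} fun p _ _ _ _ Γ _ ρ π =>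
  p ≠ 2 → ∀ (S : Sylow 2 Γ) i, Z1 ρ π S i → (∃ x σ, Mon (ρ x) σ ∧ σ * bl ≠ bl * σ) →
    ∃ B, FW (cb ρ B) π i

def JobRF6 : Prop := All.{u, v} fun p _ _ _ _ Γ _ ρ π =>
  p ≠ 2 → ∀ i, FW ρ π i → ∃ (S : Sylow 2 Γ) (n : ℕ), FT ρ π S n

end repjobs

/-! ### Jobs on concrete groups -/

section models

def JobMLin : Prop :=
  ∀ (K : Type) [Field K] [Fintype K], Odd (Fintype.card K) →
    HeisR PSL(3, K) ∧ HeisR PSL(4, K) ∧ HeisR PSL(5, K) ∧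
      (Fintype.card K ≠ 3 → HeisR (PSp 2 K))

def JobMUni : Prop :=
  ∀ (K : Type) [Field K] [Fintype K] (q : ℕ), Fintype.card K = q ^ 2 → Odd q →
    HeisR (PSU 3 K q) ∧ HeisR (PSU 4 K q) ∧ HeisR (PSU 5 K q)

def JobMExc : Prop :=
  (∀ (K : Type) [Field K] [Fintype K], Odd (Fintype.card K) → HeisR (Lie.chevG2.group K)) ∧
  ∀ (K : Type) [Field K] [Fintype K] (r : ℕ), Odd r → Fintype.card K = r ^ 3 →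
    HeisR (Lie.twistedD4 K r)

def JobMPerm : Prop :=
  (∀ n, 8 ≤ n → E87 (alternatingGroup (Fin n))) ∧ E87 Spor.M22 ∧ E87 Spor.M23 ∧ HeisR Spor.M12 ∧
    (∀ (Γ : Type v) [Group Γ] [Finite Γ], IsM11 Γ → W5 Γ 11 ∧ W5 Γ 3) ∧
    ∀ (Γ : Type v) [Group Γ] [Finite Γ] (t : Γ) (n : ℕ), 8 ≤ n → orderOf t = 2 →
      IsNonsplitDoubleCover (Subgroup.centralizer ({t} : Set Γ)) (alternatingGroup (Fin n)) → E87 Γ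

def JobMEv1 : Prop :=
  (∀ (K : Type) [Field K] [Fintype K], Even (Fintype.card K) → Rl PSL(2, K) ∧
    (Fintype.card K = 8 → E87 PSL(2, K)) ∧ (Fintype.card K = 16 → E15 PSL(2, K)) ∧
    (Fintype.card K = 16 → Y5 (PSU 3 K 4))) ∧
  ∀ (K : Type) [Field K] [Fintype K] (m : ℕ), 1 ≤ m → Fintype.card K = 2 ^ (2 * m + 1) →
    Rl (Lie.Sz K (2 ^ (m + 1))) ∧ (m = 1 → E87 (Lie.Sz K (2 ^ (m + 1))))

def JobMEv2 : Prop :=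
  ∀ (K : Type) [Field K] [Fintype K], Even (Fintype.card K) →
    (8 ≤ Fintype.card K → C2 PSL(3, K)) ∧ (4 ≤ Fintype.card K → C2 (PSp 2 K)) ∧
    (∀ q, Fintype.card K = q ^ 2 → 4 ≤ q → C2 (PSU 3 K q)) ∧
    (Fintype.card K = 2 → Nonempty (PSL(3, K) ≃* SL(3, ZMod 2)))

def JobML2 : Prop :=
  ∀ (K : Type) [Field K] [Fintype K] (r : ℕ) [CharP K r], Odd (Fintype.card K) →
    5 ≤ Fintype.card K → Dih PSL(2, K) ∧ Re2 PSL(2, K) r ∧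
      (Fintype.card K % 4 = 1 → ∀ p, Re2 PSL(2, K) p) ∧ (11 ≤ Fintype.card K → W5 PSL(2, K) r) ∧
      (Fintype.card K = 7 → Nonempty (PSL(2, K) ≃* SL(3, ZMod 2)))

def JobML34 : Prop :=
  ∀ (K : Type) [Field K] [Fintype K], Fintype.card K = 4 → L34F PSL(3, K)

def JobMU42 : Prop :=
  ∀ (K : Type) [Field K] [Fintype K], Fintype.card K = 3 → ∃ z : Fin 4 → PSp 2 K, C32 z

end models

/-! ### Transvections -/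

section tv

variable {k : Type u} [Field k]

/-- `1 + u φ` is a transvection (or the identity) of `G`. -/
def TV (G : Subgroup (G4 k)) (u φ : V4 k) : Prop :=
  φ ⬝ᵥ u = 0 ∧ ∃ g ∈ G, g.val = 1 + vecMulVec u φ

/-- Closure properties of the set of pairs (centre, axis). -/
structure TB (T : V4 k → V4 k → Prop) : Prop where
  orth : ∀ {u φ}, T u φ → φ ⬝ᵥ u = 0
  smul_iff : ∀ {u φ} (c : k), T (c • u) φ ↔ T u (c • φ)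
  addL : ∀ {u w φ}, T u φ → T w φ → T (u + w) φ
  addR : ∀ {u φ ψ}, T u φ → T u ψ → T u (φ + ψ)
  neg : ∀ {u φ}, T u φ → T (-u) φ
  conj : ∀ {u φ w ψ}, T u φ → T w ψ → T (w + (φ ⬝ᵥ w) • u) (ψ - (ψ ⬝ᵥ u) • φ)

/-- Every invariant nontrivial subsystem contains a pair off a given hyperplane and point. -/
def XY (T : V4 k → V4 k → Prop) : Prop :=
  ∀ S : V4 k → V4 k → Prop, (∀ u φ, S u φ → T u φ) →
    (∀ u φ w ψ, T u φ → S w ψ → S (w + (φ ⬝ᵥ w) • u) (ψ - (ψ ⬝ᵥ u) • φ)) →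
    (∃ u φ, S u φ ∧ u ≠ 0 ∧ φ ≠ 0) →
    ∀ u ≠ 0, ∀ φ ≠ 0, ∃ w ψ, S w ψ ∧ φ ⬝ᵥ w ≠ 0 ∧ ψ ⬝ᵥ u ≠ 0

/-- An irreducible system whose flag groups are lines over `K`. -/
structure TS (K : Subfield k) (T : V4 k → V4 k → Prop) : Prop extends TB T where
  ne : ∃ u φ, T u φ ∧ u ≠ 0 ∧ φ ≠ 0
  xy : XY T
  irr : ∀ A : Submodule k (V4 k), (∀ u φ, T u φ → u ∈ A ∨ ∀ a ∈ A, φ ⬝ᵥ a = 0) → A = ⊥ ∨ A = ⊤
  irr' : ∀ A : Submodule k (V4 k), (∀ u φ, T u φ → φ ∈ A ∨ ∀ a ∈ A, u ⬝ᵥ a = 0) → A = ⊥ ∨ A = ⊤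
  mem : ∀ {u φ a}, T u φ → a ∈ K → T (a • u) φ
  max : ∀ {u φ a}, T u φ → T (a • u) φ → u ≠ 0 → φ ≠ 0 → a ∈ K

/-- The same as `H25.Tv3.Exc`. -/
def Exc (K : Subfield k) (l : k) : Prop :=
  (3 : k) = 0 ∧ (∀ x ∈ K, x = 0 ∨ x = 1 ∨ x = -1) ∧ l ^ 2 = -1

def Lam (K : Subfield k) (T : V4 k → V4 k → Prop) : Prop :=
  ∀ u φ w ψ, T u φ → T w ψ → φ ⬝ᵥ w * ψ ⬝ᵥ u ∈ K ∨ Exc K (φ ⬝ᵥ w * ψ ⬝ᵥ u)

/-- Characteristic two: two opposite flags are swapped by a third one. -/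
def Sw (T : V4 k → V4 k → Prop) : Prop :=
  ∀ u φ w ψ, T u φ → T w ψ → φ ⬝ᵥ w ≠ 0 → ψ ⬝ᵥ u ≠ 0 → ∃ c : k, c ^ 2 * φ ⬝ᵥ w = ψ ⬝ᵥ u ∧
    T (u + c • w) ((ψ ⬝ᵥ u)⁻¹ • ψ + (c * φ ⬝ᵥ w)⁻¹ • φ)

def Sym (T : V4 k → V4 k → Prop) : Prop :=
  ∀ u φ w ψ, T u φ → T w ψ → φ ≠ 0 → w ≠ 0 → φ ⬝ᵥ w = 0 → ψ ⬝ᵥ u = 0

/-- A centre has one axis and an axis has one centre. -/
def NoFat (T : V4 k → V4 k → Prop) : Prop :=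
  (∀ u φ ψ, T u φ → T u ψ → u ≠ 0 → φ ≠ 0 → ∃ c : k, ψ = c • φ) ∧
    ∀ u w φ, T u φ → T w φ → u ≠ 0 → φ ≠ 0 → ∃ c : k, w = c • u

/-- The cyclic product of three flags. -/
def cyc (u φ w ψ z χ : V4 k) : k := φ ⬝ᵥ w * ψ ⬝ᵥ z * χ ⬝ᵥ u

/-- A nondegenerate triple. -/
def ND (T : V4 k → V4 k → Prop) (u φ w ψ z χ : V4 k) : Prop :=
  T u φ ∧ T w ψ ∧ T z χ ∧ cyc u φ w ψ z χ + cyc u φ z χ w ψ ≠ 0

def HasND (T : V4 k → V4 k → Prop) : Prop := ∃ u φ w ψ z χ, ND T u φ w ψ z χ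

/-- Opposite pairs lie in nondegenerate triples. -/
def Ext (T : V4 k → V4 k → Prop) : Prop :=
  ∀ u φ w ψ, T u φ → T w ψ → φ ⬝ᵥ w ≠ 0 → ∃ z χ, ND T u φ w ψ z χ

def Two (K : Subfield k) : Prop := ∀ x ∈ K, x = 0 ∨ x = 1

/-- `G` is generated by its transvections. -/
def Gen (G : Subgroup (G4 k)) : Prop := G ≤ Subgroup.closure {g | g ∈ G ∧ IsTv g}

/-- The invariants of a unitary system, `σ x = x ^ q`. -/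
structure Un (K : Subfield k) (T : V4 k → V4 k → Prop) (q : ℕ) : Prop where
  lam : ∀ u φ w ψ, T u φ → T w ψ → φ ⬝ᵥ w * ψ ⬝ᵥ u ∈ K
  tau : ∀ u φ w ψ z χ, T u φ → T w ψ → T z χ → cyc u φ w ψ z χ ^ q = -cyc u φ z χ w ψ

/-- The system consists of unitary transvections for the form `∑ xᵢ ^ q * yᵢ` over `F_{q²}`. -/
def UF (T : V4 k → V4 k → Prop) (q : ℕ) : Prop :=
  ∀ u φ, T u φ → ∃ (x : V4 k) (a : k), (∀ i, x i ^ q ^ 2 = x i) ∧ a ^ q ^ 2 = a ∧ a + a ^ q = 0 ∧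
    vecMulVec u φ = vecMulVec (a • x) fun i => x i ^ q

/-- The structure of the axes of a centre `u` relative to an opposite flag (Lemma K). -/
def LK (T : V4 k → V4 k → Prop) : Prop :=
  ∀ u φ w ψ, T u φ → T w ψ → φ ⬝ᵥ w ≠ 0 → ψ ⬝ᵥ u ≠ 0 →
    (∀ χ, T u χ → χ ⬝ᵥ w = 0 ∨ χ ⬝ᵥ w = φ ⬝ᵥ w) ∨
    ∃ (L : Subfield k) (α ε : V4 k), ¬ Two L ∧ ε ≠ 0 ∧ ε ⬝ᵥ u = 0 ∧ ε ⬝ᵥ w = 0 ∧ φ = α + ε ∧
      (∀ χ, T u χ ↔ ∃ d ∈ L, χ = d ^ 2 • α + d • ε) ∧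
      ∀ χ, T w χ ↔ ∃ d ∈ L, ∃ c : k, c ^ 2 * φ ⬝ᵥ w = ψ ⬝ᵥ u ∧ χ = d ^ 2 • (ψ + c • ε) + (d * c) • ε

/-- The system in the coordinates given by the columns of `B`. -/
def pb (B : G4 k) (T : V4 k → V4 k → Prop) (u φ : V4 k) : Prop :=
  T (B.val *ᵥ u) (φ ᵥ* (B⁻¹).val)

end tv

section tvjobs

def JobTV0 : Prop := All.{u, v} fun p k _ _ _ _ _ ρ _ =>
  ¬ NoTv ρ → Gen ρ.range ∧ (p = 2 → Sw (TV ρ.range)) ∧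
    ∃ K : Subfield k, Finite K ∧ TS K (TV ρ.range) ∧ (Lam K (TV ρ.range) ∨ (p = 2 ∧ Two K))

/-- The binders of the jobs on a group generated by transvections. -/
def AllT (P : ∀ (k : Type u) [Field k], Subgroup (G4 k) → Subfield k → Prop) : Prop :=
  ∀ (k : Type u) [Field k] [IsAlgClosed k] (G : Subgroup (G4 k)) [Finite G] (K : Subfield k)
    [Finite K], Gen G → TS K (TV G) → P k G K

/-- The symplectic case and the extension lemma. -/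
def JobTVS : Prop := AllT.{u} fun _ _ G _ =>
  (¬ HasND (TV G) → ∀ g ∈ G, (g⁻¹).val.trace = g.val.trace) ∧
    (Sym (TV G) → HasND (TV G) → Ext (TV G))

/-- The linear case. -/
def JobTVL : Prop := AllT.{u} fun _ _ G K =>
  Lam K (TV G) → ¬ Sym (TV G) → (∀ g ∈ G, g.val.trace ∈ K) ∧ oL (Nat.card K) ≤ Nat.card G

def JobTVU1 : Prop := AllT.{u} fun _ _ G K =>
  Lam K (TV G) → Sym (TV G) → Ext (TV G) → NoFat (TV G) ∧ Un K (TV G) (Nat.card K)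

def JobTVU2 : Prop := AllT.{u} fun _ _ G K =>
  Sym (TV G) → HasND (TV G) → Un K (TV G) (Nat.card K) →
    (∀ g ∈ G, g.val.trace ^ Nat.card K = (g⁻¹).val.trace) ∧
    ∃ B, UF (pb B (TV G)) (Nat.card K)

def JobTVU3 : Prop := AllT.{u} fun _ _ G K =>
  HasND (TV G) → ∀ B, UF (pb B (TV G)) (Nat.card K) → 3 ≤ Nat.card K →
    oU (Nat.card K) ≤ Nat.card G

/-- Fischer's theorem. -/
def JobTVU4 : Prop := AllT.{u} fun k _ G K =>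
  (2 : k) = 0 → Two K → IsSimpleGroup G → ¬ IsMulCommutative G → Sym (TV G) → Lam K (TV G) →
    25920 ≤ Nat.card G

def JobTVK : Prop :=
  ∀ (k : Type u) [Field k] (K : Subfield k) (T : V4 k → V4 k → Prop), (2 : k) = 0 → Two K →
    TS K T → Sw T → LK T ∧ ((∀ u ≠ 0, {χ | T u χ}.Finite) → Sym T →
      ∀ u φ ψ, T u φ → T u ψ → u ≠ 0 → φ ≠ 0 → ∃ c : k, ψ = c • φ)

def JobTVD : Prop := AllT.{u} fun k _ G K =>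
  (2 : k) = 0 → Two K → Sw (TV G) → LK (TV G) → LK (fun φ u => TV G u φ) → ¬ Sym (TV G) →
    ¬ Lam K (TV G) → ∃ S : Sylow 2 G, Nonempty ((S : Subgroup G) ≃* DihedralGroup 4)

/-- The monomial lemma. -/
def MW {k : Type u} [Field k] (T : V4 k → V4 k → Prop) : Prop :=
  ∀ u φ w ψ z χ, ND T u φ w ψ z χ → φ ⬝ᵥ w * ψ ⬝ᵥ u = 1 ∨ φ ⬝ᵥ z * χ ⬝ᵥ u = 1

def JobTVW : Prop := AllT.{u} fun k _ G K =>
  (2 : k) = 0 → Two K → Sym (TV G) → NoFat (TV G) → MW (TV G)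

def JobTVM : Prop := AllT.{u} fun k _ G K =>
  (2 : k) = 0 → Two K → Sw (TV G) → Sym (TV G) → NoFat (TV G) → Ext (TV G) → MW (TV G) →
    ⁅G, G⁆ = G → Lam K (TV G)

end tvjobs

end H20.LD
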