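import Cfsg.Agent.H98.Sylow
import Cfsg.Agent.H30.PermChar

/-! Tower DG (S3579): derangements of prime order in degree `2 p q`. Proofs: `blueprints/DG.md`. -/

set_option autoImplicit false

namespace H20.DG

open Subgroup MulAction Cfsg H98

universe u v

section Defs

variable {G : Type u} (Ω : Type v) [Group G] [MulAction G Ω]

/-- There is a derangement of prime order. -/
def Der (G : Type u) (Ω : Type v) [Group G] [MulAction G Ω] : Prop :=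
  ∃ g : G, (orderOf g).Prime ∧ ∀ ω : Ω, g • ω ≠ ω

/-- A counterexample. -/
structure Hy (G : Type u) (Ω : Type v) [Group G] [MulAction G Ω] (p q : ℕ) : Prop where
  faith : ∀ g : G, (∀ ω : Ω, g • ω = ω) → g = 1
  trans : ∀ a b : Ω, ∃ g : G, g • a = b
  pp : p.Prime
  qq : q.Prime
  p2 : p ≠ 2
  q2 : q ≠ 2
  ne : p ≠ q
  card : Nat.card Ω = 2 * p * q
  nd : ¬ Der G Ω

/-- abelian of exponent dividing `r` -/
def El (r : ℕ) (A : Subgroup G) : Prop := (∀ a ∈ A, ∀ b ∈ A, a * b = b * a) ∧ ∀ a ∈ A, a ^ r = 1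

/-- All orbits of `A` have length `r`. -/
def Orb (A : Subgroup G) (r : ℕ) : Prop := ∀ ω : Ω, (stabilizer G ω).relIndex A = r

/-- weakly closed -/
def WC (A : Subgroup G) (r : ℕ) : Prop :=
  ∀ (g : G) (S : Subgroup G), IsPGroup r S → A ≤ S → cj g A ≤ S → cj g A = A

/-- The point stabilisers in `A` are conjugate. -/
def ST (A : Subgroup G) : Prop :=
  ∀ a b : Ω, ∃ g : G, cj g (A ⊓ stabilizer G a) = A ⊓ stabilizer G b

/-- The point stabilisers in `A` are conjugate in the normaliser. -/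
def SN (A : Subgroup G) : Prop := ∀ a b : Ω, ∃ g ∈ normalizer (A : Set G),
  cj g (A ⊓ stabilizer G a) = A ⊓ stabilizer G b

/-- The set of point stabilisers in `A`. -/
def Ys (A : Subgroup G) : Set (Subgroup G) := Set.range fun ω : Ω => A ⊓ stabilizer G ω

variable {Ω}

/-- `β` is an orbit of `A`. -/
def IsOr (A : Subgroup G) (β : Set Ω) : Prop := ∀ a ∈ β, ∀ b : Ω, b ∈ β ↔ ∃ g ∈ A, g • a = b

/-- The Sylow subgroup `P` has the orbit `O` of length `p ^ 2`. -/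
structure B1 (p : ℕ) (P A : Subgroup G) (O : Set Ω) : Prop where
  syl : IsSyl p P ⊤
  le : A ≤ P
  idx : A.relIndex P = p
  nor : P ≤ normalizer (A : Set G)
  el : El p A
  cardO : O.ncard = p ^ 2
  ne : Oᶜ.Nonempty
  orb : IsOr P O
  inP : ∀ a ∈ O, P ⊓ stabilizer G a ≤ A
  inO : ∀ a ∈ O, (stabilizer G a).relIndex A = p
  out : ∀ a, a ∉ O → (stabilizer G a).relIndex P = p
  sylo : ∀ a, a ∉ O → IsSyl p (P ⊓ stabilizer G a) (stabilizer G a)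

/-- Large elementary abelian subgroups of `P` lie in `A`. -/
def W (p : ℕ) (P A : Subgroup G) : Prop :=
  ∀ R : Subgroup G, R ≤ P → El p R → Nat.card P ≤ p ^ 2 * Nat.card R → R ≤ A

/-- Case A: `A` fixes the complement of `O`. -/
structure CA (p : ℕ) (P A : Subgroup G) (O : Set Ω) : Prop extends B1 p P A O where
  w : W p P A
  fix : ∀ a : Ω, A ≤ stabilizer G a ↔ a ∉ O
  sylA : ∀ a, a ∉ O → IsSyl p A (stabilizer G a)

/-- Two overlapping cycles. -/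
structure JD (p : ℕ) (A Q : Subgroup G) (β β' : Set Ω) : Prop where
  c1 : β.ncard = p
  c2 : β'.ncard = p
  ne : β ≠ β'
  meet : (β ∩ β').Nonempty
  o1 : IsOr A β
  o2 : IsOr Q β'
  f1 : ∀ a ∈ β', a ∉ β → A ≤ stabilizer G a
  f2 : ∀ a ∈ β, a ∉ β' → Q ≤ stabilizer G a
  ex : ∃ c : G, c ≠ 1 ∧ ∀ a, a ∉ β ∪ β' → c • a = a

/-- `Γ` is a Jordan set. -/
def Jo (G : Type u) [Group G] [MulAction G Ω] (Γ : Set Ω) : Prop :=
  ∀ a ∈ Γ, ∀ b ∈ Γ, ∃ g : G, (∀ c, c ∉ Γ → g • c = c) ∧ g • a = b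

/-- The centraliser of `A`. -/
abbrev Cn (A : Subgroup G) : Subgroup G := centralizer (A : Set G)

/-- The cyclic case; `L` is the pointwise stabiliser of `O`. -/
structure CY (p : ℕ) (P A L : Subgroup G) (O : Set Ω) : Prop extends CA p P A O where
  cardA : Nat.card A = p
  cyc : IsCyclic P
  memL : ∀ g : G, g ∈ L ↔ ∀ a ∈ O, g • a = a
  LC : L ≤ Cn A
  cop : ¬ p ∣ Nat.card L
  cardC : Nat.card (Cn A) = p ^ 2 * Nat.card L
  mv : ∀ c ∈ Cn A, c ∉ L → ∀ a ∈ O, c • a ≠ a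
  tau : ∃ τ : Cn A →* Multiplicative (ZMod (p ^ 2)), Function.Surjective τ ∧
    ∀ c : Cn A, τ c = 1 ↔ (c : G) ∈ L
  ti : ∀ c ∈ Cn A, c ∉ L → A ≤ zpowers c

/-- The linear characters of `C(A)` that are trivial on `L` and not on `A`. -/
def MM (A L : Subgroup G) : Set (Cn A →* ℂˣ) :=
  {μ | (∀ c : Cn A, (c : G) ∈ L → μ c = 1) ∧ ∃ c : Cn A, (c : G) ∈ A ∧ μ c ≠ 1}

/-- conjugate under `N(A)` -/
def Cj (A : Subgroup G) (μ ν : Cn A →* ℂˣ) : Prop := ∃ n ∈ normalizer (A : Set G),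
  ∀ c d : Cn A, (d : G) = n * c * n⁻¹ → ν c = μ d

/-- The induced character. -/
noncomputable def II [Fintype G] (A : Subgroup G) (μ : Cn A →* ℂˣ) : G → ℂ :=
  indFun (Cn A) fun c => (μ c : ℂ)

/-- doubly transitive -/
def T2 (G : Type u) (Ω : Type v) [Group G] [MulAction G Ω] : Prop :=
  ∀ a b c d : Ω, a ≠ b → c ≠ d → ∃ g : G, g • a = c ∧ g • b = d

/-- The doubly transitive configuration. -/
structure FF (p : ℕ) (A : Subgroup G) (O : Set Ω) : Prop where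
  t2 : T2 G Ω
  cardA : Nat.card A = p
  cardO : O.ncard = p ^ 2
  cardD : Oᶜ.ncard = p
  fix : ∀ a : Ω, A ≤ stabilizer G a ↔ a ∉ O
  sylA : ∀ a, a ∉ O → IsSyl p A (stabilizer G a)
  n2 : ∀ a b c d : Ω, a ∉ O → b ∉ O → c ∉ O → d ∉ O → a ≠ b → c ≠ d →
    ∃ g ∈ normalizer (A : Set G), g • a = c ∧ g • b = d
  sharp : ∀ a b : Ω, a ∉ O → b ∉ O → a ≠ b → ∀ g ∈ normalizer (A : Set G),
    g • a = a → g • b = b → g ∈ A

/-- No third fixed point. -/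
def F2 (G : Type u) [Group G] [MulAction G Ω] (O : Set Ω) : Prop :=
  ∀ a b c : Ω, a ∉ O → b ∉ O → c ∉ O → a ≠ b → a ≠ c → b ≠ c →
    ∃ h : G, h • a = a ∧ h • b = b ∧ h • c ≠ c

end Defs

/-- A statement about all finite actions. -/
def All (F : ∀ (G : Type u) (Ω : Type v) [Group G] [MulAction G Ω], Prop) : Prop :=
  ∀ (G : Type u) (Ω : Type v) [Group G] [Finite G] [Finite Ω] [MulAction G Ω], F G Ω

def JobEL : Prop := All.{u, v} fun G Ω _ _ => ∀ (r : ℕ) (A : Subgroup G), r.Prime →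
  (∀ g : G, (∀ ω : Ω, g • ω = ω) → g = 1) → IsPGroup r A →
  (∀ ω : Ω, (stabilizer G ω).relIndex A ≤ r) → El r A

def JobNA1 : Prop := All.{u, v} fun G Ω _ _ => ∀ (r s : ℕ) (A : Subgroup G), Hy G Ω r s →
  El r A → Orb Ω A r → SN Ω A → s ∣ (Ys Ω A).ncard ∧ (Ys Ω A).ncard ≤ 2 * s ∧ ¬ s ∣ r - 1 ∧
    ∀ ω : Ω, {b : Ω | A ⊓ stabilizer G b = A ⊓ stabilizer G ω}.ncard ≤ 2 * r

def JobNA2 : Prop := All.{u, v} fun G Ω _ _ => ∀ (r s : ℕ) (A : Subgroup G), Hy G Ω r s →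
  El r A → Orb Ω A r → ¬ s ∣ r - 1 →
  (∀ ω : Ω, {b : Ω | A ⊓ stabilizer G b = A ⊓ stabilizer G ω}.ncard ≤ 2 * r) →
  ∀ (w : G) (k : ℕ), w ^ s ^ k = 1 → w ∈ normalizer (A : Set G) →
    (∀ U ∈ Ys Ω A, cj w U = U) → w = 1

def JobNA3 : Prop := All.{u, v} fun G Ω _ _ => ∀ (s : ℕ) (A : Subgroup G), s.Prime → s ≠ 2 →
  Nonempty Ω → SN Ω A → s ∣ (Ys Ω A).ncard → (Ys Ω A).ncard ≤ 2 * s →
  ∃ y ∈ normalizer (A : Set G), (∃ k : ℕ, y ^ s ^ k = 1) ∧ (∀ U ∈ Ys Ω A, cj y U ≠ U) ∧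
    ∀ U ∈ Ys Ω A, cj (y ^ s) U = U

def JobSN : Prop := All.{u, v} fun G Ω _ _ => ∀ (r : ℕ) (A : Subgroup G), r.Prime → El r A →
  WC A r → ST Ω A → SN Ω A

/-- The normaliser lemma. -/
def NA : Prop := All.{u, v} fun G Ω _ _ => ∀ (r s : ℕ) (A : Subgroup G), Hy G Ω r s →
  IsPGroup r A → Orb Ω A r → WC A r → ST Ω A → False

def JobNS : Prop := All.{u, v} fun G Ω _ _ => ∀ (r : ℕ) (K A : Subgroup G), r.Prime →
  (∀ a b : Ω, ∃ g : G, g • a = b) → K.Normal → IsSyl r A K →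
  (∀ ω : Ω, r ∣ (stabilizer G ω).relIndex K ∧ (stabilizer G ω).relIndex A < r ^ 2) →
  Orb Ω A r ∧ WC A r ∧ ST Ω A

def JobNN : Prop := NA.{u, v} → JobNS.{u, v} → All.{u, v} fun G Ω _ _ => ∀ (p q : ℕ)
  (M P : Subgroup G), Hy G Ω p q → q < p → M.Normal → M ≠ ⊥ → IsSyl p P ⊤ →
  ∀ a b : Ω, ∃ g ∈ M, g • a = b

def JobB1 : Prop := JobEL.{u, v} → All.{u, v} fun G Ω _ _ => ∀ (p q : ℕ) (P : Subgroup G),
  Hy G Ω p q → q < p → IsSyl p P ⊤ → (∃ ω : Ω, p ^ 2 ≤ (stabilizer G ω).relIndex P) →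
  ∃ (A : Subgroup G) (O : Set Ω), B1 p P A O

def JobD1 : Prop := All.{u, v} fun G Ω _ _ => ∀ (p q : ℕ) (P A : Subgroup G) (O : Set Ω),
  Hy G Ω p q → q < p → B1 p P A O → ∀ x ∈ P, x ∉ A → ∃ b ∈ A, (x * b) ^ p ≠ 1

def JobW0 : Prop := ∀ (G : Type u) [Group G] [Finite G] (p : ℕ) (A : Subgroup G) (x : G),
  p.Prime → 5 ≤ p → El p A → x ∈ normalizer (A : Set G) → x ^ p = 1 →
  (centralizer ({x} : Set G)).relIndex A ≤ p ^ 2 → ∀ b ∈ A, (x * b) ^ p = 1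

def JobW : Prop := JobD1.{u, v} → JobW0.{u} → All.{u, v} fun G Ω _ _ => ∀ (p q : ℕ)
  (P A : Subgroup G) (O : Set Ω), Hy G Ω p q → q < p → B1 p P A O → W p P A

def JobNF : Prop := All.{u, v} fun G Ω _ _ => ∀ (p q : ℕ) (P A : Subgroup G) (O : Set Ω),
  Hy G Ω p q → B1 p P A O → W p P A → (∀ a : Ω, ¬ A ≤ stabilizer G a) →
  Orb Ω A p ∧ WC A p ∧ ST Ω A

def JobCA : Prop := All.{u, v} fun G Ω _ _ => ∀ (p q : ℕ) (P A : Subgroup G) (O : Set Ω),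
  Hy G Ω p q → B1 p P A O → W p P A → (∃ a : Ω, A ≤ stabilizer G a) → CA p P A O

/-- The fixed points of a point stabiliser in `A`. -/
def FX : Prop := All.{u, v} fun G Ω _ _ => ∀ (p q : ℕ) (P A : Subgroup G) (O : Set Ω),
  Hy G Ω p q → CA p P A O → Nat.card A ≠ p → ∀ ω ∈ O, ∀ b ∈ O,
    A ⊓ stabilizer G ω ≤ stabilizer G b → ∃ g ∈ A, g • ω = b

def JobFX : Prop := FX.{u, v}

/-- the orbit of `ω` -/
def Ob {G : Type u} {Ω : Type v} [Group G] [MulAction G Ω] (A : Subgroup G) (ω : Ω) : Set Ω :=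
  {b | ∃ g ∈ A, g • ω = b}

/-- the second cycle -/
def Oc {G : Type u} {Ω : Type v} [Group G] [MulAction G Ω] (A : Subgroup G) (O : Set Ω) (ω : Ω)
    (g : G) : Set Ω := {b | A ⊓ stabilizer G ω ≤ stabilizer G b ∧ g⁻¹ • b ∈ O}

def JobJ2 : Prop := FX.{u, v} → All.{u, v} fun G Ω _ _ => ∀ (p q : ℕ) (P A : Subgroup G)
  (O : Set Ω) (ω : Ω) (g : G), Hy G Ω p q → CA p P A O → Nat.card A ≠ p → ω ∈ O → g⁻¹ • ω ∉ O →
  A ⊓ stabilizer G ω ≤ cj g A →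
  (Ob A ω).ncard = p ∧ (Oc A O ω g).ncard = p ∧ IsOr A (Ob A ω) ∧ IsOr (cj g A) (Oc A O ω g) ∧
    (∀ a ∈ Oc A O ω g, a ∉ Ob A ω → A ≤ stabilizer G a) ∧
    ∀ a ∈ Ob A ω, a ∉ Oc A O ω g → cj g A ≤ stabilizer G a

def JobJ3 : Prop := FX.{u, v} → All.{u, v} fun G Ω _ _ => ∀ (p q : ℕ) (P A : Subgroup G)
  (O : Set Ω) (ω : Ω) (g : G), Hy G Ω p q → CA p P A O → Nat.card A ≠ p → ω ∈ O → g⁻¹ • ω ∉ O →
  A ⊓ stabilizer G ω ≤ cj g A →
  (∀ x ∈ A, ∀ y ∈ cj g A, ∀ a, a ∉ Ob A ω ∪ Oc A O ω g → (x * y) • a = (y * x) • a) ∧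
    ∃ x ∈ A, ∃ y ∈ cj g A, x * y ≠ y * x

def JobJO : Prop := All.{u, v} fun G Ω _ _ => ∀ (p : ℕ) (A Q : Subgroup G) (β β' : Set Ω),
  p.Prime → (∀ g : G, (∀ ω : Ω, g • ω = ω) → g = 1) → JD p A Q β β' → Jo G (β ∪ β')

def JobAL : Prop := All.{u, v} fun G Ω _ _ => ∀ (p q : ℕ) (Γ : Set Ω), Hy G Ω p q →
  (∀ M : Subgroup G, M.Normal → M ≠ ⊥ → ∀ a b : Ω, ∃ g ∈ M, g • a = b) →
  1 < Γ.ncard → Γ.ncard ≤ 2 * p → Jo G Γ → False

def JobCY1 : Prop := All.{u, v} fun G Ω _ _ => ∀ (p q : ℕ) (P A : Subgroup G) (O : Set Ω),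
  Hy G Ω p q → CA p P A O → Nat.card A = p → IsCyclic P ∧ Nat.card P = p ^ 2 ∧ P ≤ Cn A ∧
    ∃ τ : Cn A →* Multiplicative (ZMod (p ^ 2)), Function.Surjective τ ∧ ¬ p ∣ Nat.card τ.ker

def JobCY2 : Prop := JobCY1.{u, v} → All.{u, v} fun G Ω _ _ => ∀ (p q : ℕ) (P A : Subgroup G)
  (O : Set Ω), Hy G Ω p q → CA p P A O → Nat.card A = p → ∃ L : Subgroup G, CY p P A L O

def JobT0 : Prop := All.{u, v} fun G Ω _ _ => ∀ (p q : ℕ) (P A L : Subgroup G) (O : Set Ω),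
  Hy G Ω p q → CY p P A L O → (MM A L).ncard = p ^ 2 - p

def JobT1 : Prop := All.{u, v} fun G Ω _ _ => ∀ [Fintype G] (p q : ℕ) (P A L : Subgroup G)
  (O : Set Ω), Hy G Ω p q → CY p P A L O → ∀ μ ∈ MM A L, ∀ ν ∈ MM A L, ¬ Cj A μ ν →
    classInner (II A μ - II A ν) (II A μ - II A ν) = 2

def JobT2 : Prop := All.{u, v} fun G Ω _ _ => ∀ [Fintype G] (p q : ℕ) (P A L : Subgroup G)
  (O : Set Ω), Hy G Ω p q → CY p P A L O →
    ∀ μ ∈ MM A L, classInner (H30.fixChar G Ω) (II A μ) = 1 ∧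
      classInner (II A μ) (fun _ => 1) = 0 ∧ IsCharacter G (II A μ) ∧
      II A μ 1 = (Cn A).index ∧ ∀ ν, Cj A μ ν → II A μ = II A ν

def JobT3 : Prop := All.{u, v} fun G Ω _ _ => ∀ [Fintype G] (p q : ℕ)
  (P A L : Subgroup G) (O : Set Ω), Hy G Ω p q → CY p P A L O →
  (∀ M : Subgroup G, M.Normal → M ≠ ⊥ → ∀ a b : Ω, ∃ g ∈ M, g • a = b) →
  ∀ χ : IrrCharacter G, classInner (H30.fixChar G Ω) (χ : G → ℂ) ≠ 0 →
    (χ : G → ℂ) ≠ (fun _ => 1) → ∃ μ ∈ MM A L, classInner (II A μ) (χ : G → ℂ) ≠ 0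

def JobT4 : Prop := All.{u, v} fun G Ω _ _ => ∀ (p q : ℕ) (P A L : Subgroup G) (O : Set Ω),
  Hy G Ω p q → CY p P A L O → Equivalence (Cj A) ∧
    ∃ e < p, ∀ μ ∈ MM A L, {ν | ν ∈ MM A L ∧ Cj A μ ν}.ncard = e

/-- The abstract exceptional character count. -/
def JobT5 : Prop := ∀ (G : Type u) [Group G] [Fintype G] (ι : Type u) (M : Set ι) (π : G → ℂ)
  (I : ι → G → ℂ) (r : ι → ι → Prop) (p e n d : ℕ), p.Prime → M.Finite → M.Nonempty →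
  p ∣ M.ncard → e < p → p ∣ n → π 1 = n → IsCharacter G π → classInner π (fun _ => 1) = 1 →
  Equivalence r → (∀ i ∈ M, {j | j ∈ M ∧ r i j}.ncard = e) →
  (∀ i ∈ M, classInner π (I i) = 1 ∧ classInner (I i) (fun _ => 1) = 0 ∧ IsCharacter G (I i) ∧
    I i 1 = d ∧ ∀ j, r i j → I i = I j) →
  (∀ i ∈ M, ∀ j ∈ M, ¬ r i j → classInner (I i - I j) (I i - I j) = 2) →
  (∀ χ : IrrCharacter G, classInner π (χ : G → ℂ) ≠ 0 → (χ : G → ℂ) ≠ (fun _ => 1) →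
    ∃ i ∈ M, classInner (I i) (χ : G → ℂ) ≠ 0) →
  IsIrrCharacter G (π - fun _ => 1)

def JobF0 : Prop := All.{u, v} fun G Ω _ _ => ∀ (p q : ℕ) (P A L : Subgroup G) (O : Set Ω),
  Hy G Ω p q → CY p P A L O → T2 G Ω → L = ⊥ ∧
    ∀ a b c d : Ω, a ∉ O → b ∉ O → c ∉ O → d ∉ O → a ≠ b → c ≠ d →
      ∃ g ∈ normalizer (A : Set G), g • a = c ∧ g • b = d

def JobF1 : Prop := JobF0.{u, v} → All.{u, v} fun G Ω _ _ => ∀ (p q : ℕ) (P A L : Subgroup G)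
  (O : Set Ω), Hy G Ω p q → CY p P A L O → T2 G Ω → FF p A O

def JobF2 : Prop := All.{u, v} fun G Ω _ _ => ∀ (p q : ℕ) (A : Subgroup G) (O : Set Ω),
  Hy G Ω p q → FF p A O → F2 G O

def JobF3 : Prop := All.{u, v} fun G Ω _ _ => ∀ (p q : ℕ) (A : Subgroup G) (O : Set Ω),
  Hy G Ω p q → q < p → FF p A O → F2 G O → ∃ (a b c : Ω) (Γ : Set Ω), a ∉ O ∧ b ∉ O ∧ a ≠ b ∧
    c ∉ O ∧ c ∈ Γ ∧ IsOr (stabilizer G a ⊓ stabilizer G b) Γ ∧ Γ.ncard = p + 1 ∧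
    IsOr A (Γ \ {c})

def JobF4 : Prop := All.{u, v} fun G Ω _ _ => ∀ (p q : ℕ) (A H : Subgroup G) (c : Ω) (Γ : Set Ω),
  p.Prime → q.Prime → q ≠ 2 → p + 1 = 2 * q → Nat.card A = p → IsSyl p A H →
  H ⊓ normalizer (A : Set G) ≤ A → A ≤ stabilizer G c → c ∈ Γ → IsOr H Γ → Γ.ncard = p + 1 →
  IsOr A (Γ \ {c}) → False

/-! ### Kit -/

section Kit

variable {G : Type u} {Ω : Type v} [Group G] [MulAction G Ω] {p q : ℕ}

theorem Hy.symm (h : Hy G Ω p q) : Hy G Ω q p :=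
  ⟨h.faith, h.trans, h.qq, h.pp, h.q2, h.p2, h.ne.symm, by rw [h.card]; ring, h.nd⟩

theorem Hy.three (h : Hy G Ω p q) : 3 ≤ p := by
  have := h.pp.two_le
  have := h.p2
  omega

theorem Hy.five (h : Hy G Ω p q) (hl : q < p) : 5 ≤ p := by
  have h1 := h.symm.three
  have h2 := h.pp.odd_of_ne_two h.p2
  rcases h2 with ⟨k, hk⟩
  omega

theorem Hy.nonempty (h : Hy G Ω p q) : Nonempty Ω := by
  refine (Nat.card_pos_iff.1 ?_).1
  rw [h.card]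
  exact Nat.mul_pos (Nat.mul_pos two_pos h.pp.pos) h.qq.pos

/-- orbit length -/
theorem ncard_Ob (A : Subgroup G) (ω : Ω) : (Ob A ω).ncard = (stabilizer G ω).relIndex A := by
  have h : Ob A ω = orbit A ω := by
    ext b
    exact ⟨fun ⟨g, hg, e⟩ => ⟨⟨g, hg⟩, e⟩, fun ⟨g, e⟩ => ⟨g, g.2, e⟩⟩
  rw [h, ← index_stabilizer]
  rfl

theorem IsOr.eq_Ob {A : Subgroup G} {β : Set Ω} (h : IsOr A β) {a : Ω} (ha : a ∈ β) :
    β = Ob A a := Set.ext fun b => h a ha b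

theorem isOr_Ob (A : Subgroup G) (ω : Ω) : IsOr A (Ob A ω) := by
  rintro _ ⟨g, hg, rfl⟩ b
  refine ⟨fun ⟨k, hk, e⟩ => ⟨k * g⁻¹, mul_mem hk (inv_mem hg), by rw [mul_smul, inv_smul_smul, e]⟩,
    fun ⟨k, hk, e⟩ => ⟨k * g, mul_mem hk hg, by rw [mul_smul, e]⟩⟩

theorem Hy.index (h : Hy G Ω p q) (ω : Ω) : (stabilizer G ω).index = 2 * p * q := by
  have : IsPretransitive G Ω := ⟨h.trans⟩
  rw [index_stabilizer_of_transitive, h.card]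

theorem cj_stab (g : G) (ω : Ω) : cj g (stabilizer G ω) = stabilizer G (g • ω) :=
  (stabilizer_smul_eq_stabilizer_map_conj g ω).symm

theorem El.isPGroup {A : Subgroup G} (h : El p A) : IsPGroup p A :=
  isPGroup_iff_forall.2 fun a ha => ⟨1, by rw [pow_one, h.2 a ha]⟩

theorem El.cj {A : Subgroup G} (h : El p A) (g : G) : El p (cj g A) := by
  constructor
  · rintro _ ⟨a, ha, rfl⟩ _ ⟨b, hb, rfl⟩
    rw [← map_mul, ← map_mul, h.1 a ha b hb]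
  · rintro _ ⟨a, ha, rfl⟩
    rw [← map_pow, h.2 a ha, map_one]

theorem El.mono {A B : Subgroup G} (h : El p A) (hl : B ≤ A) : El p B :=
  ⟨fun a ha b hb => h.1 a (hl ha) b (hl hb), fun a ha => h.2 a (hl ha)⟩

end Kit

end H20.DG
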