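import Cfsg.Agent.H63.A8Wr
import Cfsg.Agent.H95.KFFi
import Cfsg.Agent.S0296

/-! Tower A8S (S3152): slot Fi. -/

set_option autoImplicit false

namespace H20.A8Fi

open Cfsg Subgroup H63.A8 H14 H43.KF H75 H80 H38 H95

universe u

/-- No involution centraliser of `Fi22` has a simple component. -/
theorem core {G : Type*} [Group G] [Finite G] {D : Set G} {θ : ℕ → G} (h : IsFi M22 ord22 D θ)
    {t : G} (ht : orderOf t = 2) {A : Subgroup (C1 t)} (hA : IsComponent A) [IsSimpleGroup A] :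
    False := by
  have k : ¬ IsOfCharacteristicTwo (C1 t) := fun c =>
    (nontrivial_iff_ne_bot A).1 inferInstance (le_bot_iff.1 ((ch2_iff.1 c).1 ▸ comp_le_layer hA))
  obtain ⟨m, h1, h3, hm⟩ := (H38.classes h.tt.1 (noRel22 h.tt.1 ⟨θ, h.real⟩) (by norm_num)
    (by norm_num) (fac22 h (H94.typeM22_fi h)) (tr22_le ⟨θ, h.real⟩) (hexad h.real).1
    (by simp)).1 t ht
  obtain ⟨l, hl, e, rfl⟩ := pm_iff.1 hm
  rcases list_cases3 h1 h3 e with ⟨a, rfl⟩ | ⟨a, b, rfl⟩ | ⟨a, b, c, rfl⟩
  · have ha : [a].prod ∈ D := by rw [List.prod_singleton]; exact cl_one.1 hl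
    have hq : IsQuasisimple (C1 [a].prod) := 
      quasi_of_mulEquiv (h.quasi22 ha) (MulEquiv.subgroupCongr (h.cent _ ha).symm)
    have e := comp_eq_top_of_quasi hq hA
    have : IsSimpleGroup (C1 [a].prod) :=
      ((MulEquiv.subgroupCongr e).trans topEquiv).symm.isSimpleGroup
    have z := (inferInstance : (center (C1 [a].prod)).Normal).eq_bot_or_eq_top.resolve_right
      (quasi_center_ne_top hq)
    have m : (⟨[a].prod, mem_centralizer_singleton_iff.2 rfl⟩ : C1 [a].prod) ∈ center _ :=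
      mem_center_iff.2 fun g => Subtype.ext (mem_centralizer_singleton_iff.1 g.2)
    rw [z, mem_bot] at m
    rw [show [a].prod = 1 from congrArg Subtype.val m, orderOf_one] at ht
    omega
  · exact k (prod2 a b ▸ ch2_pair22 h hl)
  · exact k (prod3 a b c ▸ ch2_three22 h hl)

theorem jobFi : JFi.{u} := by
  rintro G _ _ F₀ A t h F _ _ - ⟨f⟩ ⟨e⟩ ht
  obtain ⟨θ, hF, -⟩ := isFi22_spor
  have : Finite Spor.Fi22 := Finite.of_equiv _ e.toEquiv
  have := Cfsg.Agent.S0296.result (F := F) 4 le_rfl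
  let φ : Spor.Fi22 →* G := F₀.subtype.comp e.symm.toMonoidHom
  have inj : Function.Injective φ := (subtype_injective _).comp e.symm.injective
  have et : φ (e ⟨t, ht⟩) = t := by simp [φ]
  let ψ : C1 (e ⟨t, ht⟩) →* G := φ.comp (Subgroup.subtype _)
  have inj' : Function.Injective ψ := inj.comp (subtype_injective _)
  have le : A ≤ ψ.range := fun a ha =>
    ⟨⟨e ⟨a, h.le ha⟩, mem_centralizer_singleton_iff.2 (by
      rw [← map_mul, ← map_mul]
      exact congrArg e (Subtype.ext (h.tA a ha)))⟩, by simp [ψ, φ]⟩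
  have g : A.comap ψ ≃* A :=
    (equivMapOfInjective _ _ inj').trans (MulEquiv.subgroupCongr (map_comap_eq_self le))
  have : IsSimpleGroup (A.comap ψ) := (g.trans f).isSimpleGroup
  have n : (A.comap ψ).Normal := ⟨fun x hx y => by
    have : ψ y ∈ H64.SG.Cz t := mem_centralizer_singleton_iff.2 (by
      have := congrArg φ (mem_centralizer_singleton_iff.1 y.2)
      rwa [map_mul, map_mul, et] at this)
    rw [mem_comap, map_mul, map_mul, map_inv]
    exact (mem_normalizer_iff.1 (h.ct this) _).1 hx⟩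
  refine core hF (t := e ⟨t, ht⟩) ?_ (A := A.comap ψ) ⟨n.isSubnormal, quasi_of_mulEquiv h.qs g.symm⟩
  rw [← orderOf_injective φ inj, et]
  exact orderOf_eq_prime (by rw [sq]; exact h.inv.1) h.inv.2

end H20.A8Fi
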