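import Cfsg.Agent.H63.A8Wr
import Cfsg.Agent.S0245
import Cfsg.Agent.S0246
import Cfsg.Agent.S0280
import Cfsg.Agent.S0293
import Cfsg.Agent.S0294
import Cfsg.Agent.S1074
import Cfsg.Agent.S2072

/-! Tower A8S (S3152): slots Ti and HSA. -/

set_option autoImplicit false

namespace H20.A8Ti

open Cfsg Subgroup H63.A8

universe u

theorem jobTi : JTi.{u} := by
  refine ⟨?_, by rw [Cfsg.Agent.S1074.result.2.2.2]; decide⟩
  rintro Y _ ⟨F, _, _, ⟨hF, ⟨⟨e⟩⟩ | ⟨⟨e⟩⟩ | ⟨a, b, hab, ⟨e⟩⟩⟩ | ⟨F, _, _, hF, ⟨e⟩⟩⟩ <;>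
    rw [Nat.card_congr e.toEquiv]
  · have h1 := Cfsg.Agent.S0245.result hF 3
    have h2 := Cfsg.Agent.S0246.result hF 3 (by norm_num)
    have h3 := card_eq_card_quotient_mul_card_subgroup (center (Matrix.symplecticGroup (Fin 3) F))
    rw [h1, h2, show Nat.gcd 2 (2 - 1) = 1 by decide, mul_one] at h3
    rw [← h3]
    decide
  · have h1 := Cfsg.Agent.S0293.result hF 4 le_rfl
    norm_num [Finset.prod_range_succ] at h1
    omega
  · have h1 := Cfsg.Agent.S0294.result hF 4 le_rfl a b hab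
    rw [show Nat.gcd 4 (2 ^ 4 + 1) = 1 by decide, one_mul] at h1
    rw [show Nat.card (POmega F (quadFormMinus 3 F a b)) = _ from h1]
    decide
  · have h1 := Cfsg.Agent.S0280.result (q := 2) hF 6 (by norm_num)
    norm_num [Finset.prod_range_succ] at h1
    omega

theorem iso_aut {G : Type*} [Group G] {X : Subgroup G} [X.Normal]
    (hc : centralizer (X : Set G) = ⊥) (ht : X ≠ ⊤) {Y : Type*} [Group Y] (e : X ≃* Y)
    (h2 : Nat.card (Out Y) = 2) : Nonempty (G ≃* MulAut Y) := by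
  let φ : G →* MulAut Y := (MulAut.congr e).toMonoidHom.comp MulAut.conjNormal
  have inj : Function.Injective φ := (MulAut.congr e).injective.comp <|
    (injective_iff_map_eq_one _).2 fun g hg => hc.le (x := g) fun x hx => by
      have := congrArg Subtype.val (DFunLike.congr_fun hg ⟨x, hx⟩)
      exact (mul_inv_eq_iff_eq_mul.1 this).symm
  have k : ∀ x : X, φ x = MulAut.conj (e x) := fun x => by
    ext y
    obtain ⟨y, rfl⟩ := e.surjective y
    have : MulAut.conjNormal (x : G) y = x * y * x⁻¹ := Subtype.ext rfl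
    simp [φ, MulAut.congr, this]
  have le : Inn Y ≤ φ.range := by
    rintro _ ⟨y, rfl⟩
    obtain ⟨x, rfl⟩ := e.surjective y
    exact ⟨x, k x⟩
  obtain ⟨g, hg⟩ : ∃ g, g ∉ X := by_contra fun n => ht (eq_top_iff.2 fun g _ =>
    by_contra fun m => n ⟨g, m⟩)
  have ng : φ g ∉ Inn Y := by
    rintro ⟨y, hy⟩
    obtain ⟨x, rfl⟩ := e.surjective y
    exact hg (inj ((k x).trans hy) ▸ x.2)
  refine ⟨MulEquiv.ofBijective φ ⟨inj, fun a => ?_⟩⟩
  by_cases ha : a ∈ Inn Y
  · exact le ha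
  · have := le ((mul_mem_iff_of_index_two (H := Inn Y) h2).2 (iff_of_false ha ng))
    exact (φ.range.mul_mem_cancel_right ⟨g, rfl⟩).1 this

theorem jobHSA : JHSA.{u} := fun _ _ _ _ _ hc ht ⟨e⟩ =>
  iso_aut hc ht e Cfsg.Agent.S2072.result

end H20.A8Ti
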