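/- AH tower (S4162), slots CCQ, RD, IDX, SN, SUM, T3, MN. -/
import Cfsg.Agent.H91.AHSpec
import Cfsg.Agent.S3863

set_option autoImplicit false
set_option linter.unusedSectionVars false

namespace H20.AH

open H33.Solv Subgroup MulAction H91.AH

variable {G : Type} [Group G]

theorem card_cls (D : Subgroup G) (x : G) :
    Set.ncard {y | ∃ d ∈ D, d * x * d⁻¹ = y} *
      Nat.card (D ⊓ centralizer ({x} : Set G) : Subgroup G) = Nat.card D := by
  let _ : MulAction D G := MulAction.compHom G (MulAut.conj.comp D.subtype)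
  have h1 : orbit D x = {y | ∃ d ∈ D, d * x * d⁻¹ = y} := by
    ext y
    exact ⟨fun ⟨d, e⟩ => ⟨d, d.2, e⟩, fun ⟨d, hd, e⟩ => ⟨⟨d, hd⟩, e⟩⟩
  have h2 : stabilizer D x = (D ⊓ centralizer ({x} : Set G)).subgroupOf D := by
    ext d
    rw [inf_subgroupOf_left, mem_subgroupOf, mem_cent]
    exact mul_inv_eq_iff_eq_mul
  rw [← h1, ← index_stabilizer, ← Nat.card_congr (subgroupOfEquivOfLe
    (inf_le_left : D ⊓ centralizer ({x} : Set G) ≤ D)).toEquiv, ← h2, index_mul_card]

theorem card_cls' (x : G) : Set.ncard {y | IsConj x y} * cc x = Nat.card G := by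
  have := card_cls ⊤ x
  rw [top_inf_eq, card_top] at this
  simpa only [isConj_iff, mem_top, true_and, cc] using this

theorem card_eq_ker [Finite G] {H : Type} [Group H] (φ : G →* H) (hφ : Function.Surjective φ) :
    Nat.card G = Nat.card H * Nat.card φ.ker := by
  rw [← φ.ker.index_mul_card, index_ker, MonoidHom.range_eq_top.2 hφ, card_top]

theorem jobCCQ : JobCCQ := by
  intro G H _ _ _ φ hφ Z x hZ hc cop
  have : Finite H := Finite.of_surjective φ hφ
  set D := (centralizer ({φ x} : Set H)).comap φ with hD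
  have e1 : Nat.card D = cc (φ x) * Nat.card φ.ker := by
    have a := D.index_mul_card
    rw [hD, index_comap_of_surjective _ hφ, card_eq_ker φ hφ,
      ← (centralizer ({φ x} : Set H)).index_mul_card, mul_assoc] at a
    exact Nat.eq_of_mul_eq_mul_left (Nat.pos_of_ne_zero index_ne_zero_of_finite) a
  have e2 := card_cls D x
  rw [inf_eq_right.2 (show centralizer ({x} : Set G) ≤ D from fun g hg =>
    mem_cent.2 ((mem_cent.1 hg).map φ)), e1] at e2
  have e3 : Set.ncard {y | ∃ d ∈ D, d * x * d⁻¹ = y} * Nat.card Z ≤ Nat.card φ.ker := by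
    rw [← Nat.card_coe_set_eq, ← Nat.card_prod]
    refine Nat.card_le_card_of_injective (fun p => ⟨x⁻¹ * p.1 * p.2, mul_mem ?_ (hZ p.2.2)⟩) ?_
    · obtain ⟨d, hd, e⟩ := p.1.2
      rw [← e, MonoidHom.mem_ker]
      simp only [map_mul, map_inv]
      rw [(mem_cent.1 hd).eq]
      group
    · rintro ⟨⟨y, hy⟩, z, hz⟩ ⟨⟨y', hy'⟩, z', hz'⟩ e
      have e' : y' = y * (z * z'⁻¹) := by
        have : x⁻¹ * y * z = x⁻¹ * y' * z' := congrArg Subtype.val e
        rw [mul_assoc, mul_assoc, mul_right_inj] at this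
        rw [← mul_assoc, this, mul_inv_cancel_right]
      have o : ∀ {y}, (∃ d ∈ D, d * x * d⁻¹ = y) → y ^ orderOf x = 1 := by
        rintro _ ⟨d, -, rfl⟩
        rw [conj_pow, pow_orderOf_eq_one, mul_one, mul_inv_cancel]
      have m : z * z'⁻¹ ∈ Z := mul_mem hz (inv_mem hz')
      have o' := o hy'
      rw [e', Commute.mul_pow (mem_center_iff.1 (hc m) y), o hy, one_mul] at o'
      have w : z * z'⁻¹ = 1 := orderOf_eq_one_iff.1 (Nat.eq_one_of_dvd_coprimes cop
        (orderOf_dvd_of_pow_eq_one o') (Z.orderOf_dvd_natCard m))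
      rw [w, mul_one] at e'
      exact Prod.ext (Subtype.ext e'.symm) (Subtype.ext (mul_inv_eq_one.1 w))
  refine Nat.le_of_mul_le_mul_right ?_ (Nat.card_pos (α := φ.ker))
  calc _ = cc (φ x) * Nat.card φ.ker * Nat.card Z := by ring
    _ = _ * Nat.card Z * cc x := by rw [← e2, cc]; ring
    _ ≤ _ := by rw [mul_comm (cc x)]; exact Nat.mul_le_mul_right _ e3

theorem mem_nor_zp [Finite G] {g x : G} (h : g * x * g⁻¹ ∈ zpowers x) :
    g ∈ normalizer (zpowers x : Set G) := mem_normalizer_fintype fun y ⟨k, hk⟩ => by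
  rw [← hk, ← conj_zpow]; exact zpow_mem h k

theorem jobRD : JobRD := by
  intro G _ _ h x
  have e := card_cls (normalizer (zpowers x : Set G)) x
  rw [inf_eq_right.2 (show centralizer ({x} : Set G) ≤ _ from fun g hg => mem_nor_zp (by
    rw [(mem_cent.1 hg).eq, mul_inv_cancel_right]; exact mem_zpowers x))] at e
  have s : {y | ∃ d ∈ normalizer (zpowers x : Set G), d * x * d⁻¹ = y} =
      (x ^ ·) '' ↑((Finset.range (orderOf x)).filter (orderOf x).Coprime) := by
    classical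
    ext y
    simp only [Set.mem_ofPred_eq, Set.mem_image, Finset.coe_filter, Finset.mem_range]
    constructor
    · rintro ⟨d, hd, rfl⟩
      have m := (mem_normalizer_iff.1 hd x).1 (mem_zpowers x)
      rw [mem_zpowers_iff_mem_range_orderOf, Finset.mem_image] at m
      obtain ⟨k, hk, e⟩ := m
      refine ⟨k, ⟨Finset.mem_range.1 hk, ?_⟩, e⟩
      have o := congrArg orderOf e
      rw [orderOf_pow, ← MulAut.conj_apply, MulEquiv.orderOf_eq] at o
      exact (Nat.div_eq_self.1 o).resolve_left (orderOf_pos x).ne'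
    · rintro ⟨k, hk, rfl⟩
      obtain ⟨g, hg⟩ := isConj_iff.1 (h x k hk.2.symm)
      exact ⟨g, mem_nor_zp (hg ▸ pow_mem (mem_zpowers x) k), hg⟩
  rw [s, Set.InjOn.ncard_image (pow_injOn_Iio_orderOf.mono fun k hk => by
    simpa using (Finset.mem_filter.1 hk).1), Set.ncard_coe_finset,
    ← Nat.totient_eq_card_coprime] at e
  rw [mul_comm]
  exact (Nat.mul_dvd_mul_left _ (orderOf_dvd_cc (Commute.refl x))).trans
    (e.dvd.trans (card_subgroup_dvd_card _))

theorem jobIDX : JobIDX := by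
  intro G _ _ _ _ hr
  obtain ⟨K, hK, le⟩ := (eq_top_or_exists_le_coatom (commutator G)).resolve_left
    (Group.IsSolvable.commutator_lt_top_of_nontrivial (G := G)).ne
  have cm : ∀ a b : G, a * b * a⁻¹ * b⁻¹ ∈ K := fun a b =>
    le (commutator_mem_commutator (mem_top a) (mem_top b))
  have : K.Normal := ⟨fun n hn g => by simpa using mul_mem (cm g n) hn⟩
  obtain ⟨x, -, hx⟩ := SetLike.exists_of_lt hK.1.lt_top
  have x1 : QuotientGroup.mk' K x ≠ 1 := mt (QuotientGroup.eq_one_iff _).1 hx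
  have x2 : QuotientGroup.mk' K x ^ 2 = 1 := by
    obtain ⟨g, hg⟩ := isConj_iff.1 (hr x)
    have := inv_mem (cm g x)
    rw [hg, ← mul_inv_rev, inv_inv] at this
    rw [← map_pow, sq]
    exact (QuotientGroup.eq_one_iff _).2 this
  have t := hK.2 ((zpowers (QuotientGroup.mk' K x)).comap (QuotientGroup.mk' K))
    (lt_of_le_of_ne (fun k hk => by
      rw [mem_comap, show QuotientGroup.mk' K k = 1 from (QuotientGroup.eq_one_iff _).2 hk]
      exact one_mem _)
      fun e => hx (e.ge (mem_zpowers _)))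
  have t' : zpowers (QuotientGroup.mk' K x) = ⊤ := eq_top_iff.2 fun y _ => by
    obtain ⟨y, rfl⟩ := QuotientGroup.mk'_surjective K y
    exact t.ge (mem_top y)
  exact ⟨K, by rw [index, ← card_top, ← t', Nat.card_zpowers, orderOf_eq_prime x2 x1]⟩

theorem sn_aux (n : ℕ) : ∀ (G : Type) [Group G] [Finite G], Nat.card G = n → Group.IsSolvable G →
    Real G → ∀ S : Sylow 2 G, normalizer ((S : Subgroup G) : Set G) ≤ (S : Subgroup G) := by
  induction n using Nat.strong_induction_on with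
  | _ n ih =>
  intro G _ _ hn hs hr S g hg
  by_cases h1 : (⊤ : Subgroup G) = ⊥
  · rw [mem_bot.1 (h1.le (mem_top g))]; exact one_mem _
  obtain ⟨M, q, hM, -, ne, qp, -, pq, ex, -, -⟩ := exists_minN ⊤ inferInstance h1
  have sj := QuotientGroup.mk'_surjective M
  have lt : Nat.card (G ⧸ M) < n := by
    rw [← hn, card_eq_card_quotient_mul_card_subgroup M]
    exact lt_mul_of_one_lt_right Nat.card_pos (one_lt_card_iff_ne_bot M |>.2 ne)
  obtain ⟨s, hs', e⟩ := ih _ lt (G ⧸ M) rfl inferInstance (hr.map _ sj) (S.mapSurjective sj)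
    (le_normalizer_map _ (mem_map_of_mem _ hg))
  have m : s⁻¹ * g ∈ M := QuotientGroup.eq.1 e
  have mn : s⁻¹ * g ∈ normalizer ((S : Subgroup G) : Set G) :=
    mul_mem (inv_mem (le_normalizer hs')) hg
  rw [← mul_inv_cancel_left s g]
  refine mul_mem hs' ?_
  generalize s⁻¹ * g = a at m mn
  by_cases h2 : q = 2
  · subst h2
    exact ((pq.inf_normalizer_sylow S).le ⟨m, mn⟩).2
  have := Fact.mk qp
  have d := IsPGroup.disjoint_of_ne q 2 h2 M S pq S.2
  have le : (S : Subgroup G) ≤ centralizer ({a} : Set G) := fun y hy => mem_cent.2 (by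
    have := disjoint_def.1 d (x := a * y * a⁻¹ * y⁻¹)
      (by simpa [mul_assoc] using mul_mem m (hM.conj_mem _ (inv_mem m) y))
      (mul_mem ((mem_normalizer_iff.1 mn y).1 hy) (inv_mem hy))
    rw [mul_inv_eq_one, mul_inv_eq_iff_eq_mul] at this
    exact this.symm)
  have o := (Cfsg.Agent.S3863.result a (hr a)).2.1 (Odd.of_dvd_nat (Nat.odd_iff.2
    (Nat.two_dvd_ne_zero.1 S.not_dvd_index)) (index_dvd_of_le le))
  rw [orderOf_eq_one_iff.1 (Nat.eq_one_of_dvd_coprimes ((Nat.coprime_primes qp Nat.prime_two).2 h2)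
    (orderOf_dvd_of_pow_eq_one (ex a m)) (orderOf_dvd_of_pow_eq_one o))]
  exact one_mem _

theorem jobSN : JobSN := fun G _ _ => sn_aux _ G rfl

theorem jobSUM : JobSUM := by
  refine ⟨fun G _ _ h P _ => ?_, fun G H _ _ _ φ hφ h => ?_⟩
  · have mF : ∀ c, c ∈ FF G ↔ ∃ x : G, cc x = c := fun c => by
      simp only [FF, Finset.mem_filter, Nat.mem_divisors, and_iff_right_iff_imp]
      rintro ⟨x, rfl⟩
      exact ⟨cc_dvd x, Nat.card_pos.ne'⟩
    have := Fintype.ofFinite G
    rw [Nat.card_eq_fintype_card, Fintype.card_subtype, Finset.card_eq_sum_card_fiberwise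
      (f := cc) (t := (FF G).filter P) (fun x hx => Finset.mem_filter.2 ⟨(mF _).2 ⟨x, rfl⟩,
        (Finset.mem_filter.1 hx).2⟩),
      Finset.mul_sum, Nat.cast_sum]
    refine Finset.sum_congr rfl fun c hc => ?_
    obtain ⟨hc, hP⟩ := Finset.mem_filter.1 hc
    obtain ⟨x, rfl⟩ := (mF c).1 hc
    rw [mul_one_div, eq_div_iff (Nat.cast_ne_zero.2 (cc_pos x).ne'), ← Nat.cast_mul, ← card_cls' x,
      ← Set.ncard_coe_finset]
    congr 3
    ext y
    simp only [Finset.coe_filter, Finset.mem_filter, Finset.mem_univ, true_and, Set.mem_ofPred_eq]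
    exact ⟨fun k => h _ _ k.2.symm, fun k => ⟨H91.AH.IsConj.cc k ▸ hP, (H91.AH.IsConj.cc k).symm⟩⟩
  · obtain ⟨s, hs⟩ := hφ.hasRightInverse
    have v : ∀ (a : H) (k : φ.ker), φ (s a * k) = a := fun a k => by
      rw [map_mul, hs, k.2, mul_one]
    have : Nat.card {h : H // 4 ∣ orderOf h} * Nat.card φ.ker ≤ Nat.card {x : G // 4 ∣ cc x} := by
      rw [← Nat.card_prod]
      refine Nat.card_le_card_of_injective (fun p => ⟨s p.1 * p.2, p.1.2.trans ?_⟩) ?_
      · nth_rewrite 1 [← v p.1 p.2]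
        exact (orderOf_map_dvd φ _).trans (orderOf_dvd_cc (Commute.refl _))
      · rintro ⟨a, k⟩ ⟨b, l⟩ e
        have e1 : s a * k = s b * l := congrArg Subtype.val e
        obtain rfl : a = b := Subtype.ext (by rw [← v a k, e1, v])
        exact Prod.ext rfl (Subtype.ext (mul_left_cancel e1))
    rw [card_eq_ker φ hφ]
    nlinarith

variable [Finite G]

theorem zp_eq {x y : G} (hp : (orderOf x).Prime) (h : y ∈ zpowers x) (y1 : y ≠ 1) :
    zpowers y = zpowers x := eq_of_le_of_card_ge (zpowers_le.2 h) (by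
  have := (zpowers x).orderOf_dvd_natCard h
  rw [Nat.card_zpowers] at this
  rw [Nat.card_zpowers, Nat.card_zpowers,
    ((Nat.dvd_prime hp).1 this).resolve_left (mt orderOf_eq_one_iff.1 y1)])

theorem cc_zp {x y : G} (h : zpowers y = zpowers x) : cc y = cc x := cc_congr fun g =>
  ⟨fun e => by obtain ⟨k, rfl⟩ := h.ge (mem_zpowers x); exact e.zpow_right k,
    fun e => by obtain ⟨k, rfl⟩ := h.le (mem_zpowers y); exact e.zpow_right k⟩

theorem cent_eq {x : G} (h : cc x ≤ orderOf x) : centralizer ({x} : Set G) = zpowers x :=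
  (eq_of_le_of_card_ge (zpowers_le.2 (mem_cent.2 (Commute.refl x))) (by
    rwa [Nat.card_zpowers])).symm

theorem syl_le {x : G} (hp : (orderOf x).Prime) (h : cc x ≤ orderOf x) {P : Subgroup G}
    (hP : IsPGroup (orderOf x) P) (hx : x ∈ P) : P ≤ zpowers x := by
  have := Fact.mk hp
  have : Nontrivial P := ⟨⟨x, hx⟩, 1, fun e => hp.ne_one (orderOf_eq_one_iff.2 (congrArg Subtype.val e))⟩
  have := hP.center_nontrivial
  obtain ⟨⟨c, hc⟩, c1⟩ := exists_ne (1 : center P)
  have k : ∀ y ∈ P, Commute y c := fun y hy => congrArg Subtype.val (mem_center_iff.1 hc ⟨y, hy⟩)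
  have e := zp_eq hp ((cent_eq h).le (mem_cent.2 (k x hx).symm))
    fun e => c1 (Subtype.ext (Subtype.ext e))
  intro y hy
  obtain ⟨i, hi⟩ := e.ge (mem_zpowers x)
  exact (cent_eq h).le (mem_cent.2 (hi ▸ (k y hy).zpow_right i))

theorem jobT3 : JobT3 := by
  intro G _ _ _ x hx y hy
  by_cases x1 : x = 1
  · rw [x1, cc_one] at hx
    exact Or.inl (Nat.dvd_antisymm (hx ▸ cc_dvd y) hy)
  by_cases y1 : y = 1
  · exact Or.inr (y1 ▸ cc_one)
  have := Fact.mk Nat.prime_three
  have ox : orderOf x = 3 := ((Nat.dvd_prime Nat.prime_three).1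
    (hx ▸ orderOf_dvd_cc (Commute.refl x))).resolve_left (mt orderOf_eq_one_iff.1 x1)
  obtain ⟨⟨z, hz⟩, oz⟩ := exists_prime_orderOf_dvd_card' (G := centralizer ({y} : Set G)) 3 hy
  rw [orderOf_mk] at oz
  have zp : ∀ {a : G}, orderOf a = 3 → IsPGroup 3 (zpowers a) := fun h =>
    IsPGroup.of_card (n := 1) (by rw [Nat.card_zpowers, h, pow_one])
  obtain ⟨P, hP⟩ := (zp ox).exists_le_sylow
  obtain ⟨Q, hQ⟩ := (zp oz).exists_le_sylow
  obtain ⟨g, rfl⟩ := MulAction.exists_smul_eq G Q P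
  have m : g * z * g⁻¹ ∈ zpowers x := syl_le (ox ▸ Nat.prime_three) (by omega)
    (by rw [ox]; exact (g • Q).2)
    (hP (mem_zpowers x)) (smul_mem_pointwise_smul z (MulAut.conj g) _ (hQ (mem_zpowers z)))
  have c : cc z = 3 := by
    rw [← cc_conj g, cc_zp (zp_eq (ox ▸ Nat.prime_three) m (by
      rw [Ne, conj_eq_one_iff]; rintro rfl; simp at oz)), hx]
  exact Or.inl (by
    rw [cc_zp (zp_eq (oz ▸ Nat.prime_three) ((cent_eq (by omega)).le
      (mem_cent.2 (mem_cent.1 hz).symm)) y1), c])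

theorem mem_zp3 {z y : G} (oz : orderOf z = 3) (h : y ∈ zpowers z) (y1 : y ≠ 1) :
    y = z ∨ y = z ^ 2 := by
  classical
  rw [mem_zpowers_iff_mem_range_orderOf, oz, Finset.mem_image] at h
  obtain ⟨i, hi, rfl⟩ := h
  rw [Finset.mem_range] at hi
  interval_cases i
  exacts [absurd (pow_zero z) y1, Or.inl (pow_one z), Or.inr rfl]

theorem card_le_of_normal {z : G} (oz : orderOf z = 3) (h : (zpowers z).Normal) :
    Nat.card G ≤ 2 * cc z := by
  rw [← card_cls' z]
  refine Nat.mul_le_mul_right _ ((Set.ncard_le_ncard (t := {z, z ^ 2}) fun y hy => ?_).trans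
    ((Set.ncard_insert_le _ _).trans (by rw [Set.ncard_singleton])))
  obtain ⟨g, rfl⟩ := isConj_iff.1 hy
  exact mem_zp3 oz (h.conj_mem _ (mem_zpowers z) g) (by
    rw [Ne, conj_eq_one_iff]; rintro rfl; simp at oz)

theorem jobMN : JobMN := by
  intro D _ _ _ z oz hc fr
  have z1 : z ≠ 1 := by rintro rfl; simp at oz
  obtain ⟨M, q, hM, -, ne, qp, -, pq, ex, cm, -⟩ := exists_minN (⊤ : Subgroup D) inferInstance
    fun e => z1 (mem_bot.1 (e.le (mem_top z)))
  obtain ⟨⟨a, ha⟩, a1⟩ := ne_bot_iff_exists_ne_one.1 ne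
  have a1' : a ≠ 1 := fun e => a1 (Subtype.ext e)
  have := Fact.mk qp
  have p3 : (orderOf z).Prime := oz ▸ Nat.prime_three
  obtain rfl : q = 3 := by
    by_contra h
    obtain ⟨k, hk⟩ := IsPGroup.iff_card.1 pq
    have := fr M ⟨⟨fun a b => Subtype.ext (cm _ a.2 _ b.2)⟩⟩
      (by rw [hk, oz]; exact ((Nat.coprime_primes qp Nat.prime_three).2 h).pow_left k)
      (by rw [normalizer_eq_top]; trivial) a ha
    have o := (zpowers z).orderOf_dvd_natCard ((cent_eq (by omega)).le (mem_cent.2 this.symm))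
    rw [Nat.card_zpowers, oz, orderOf_eq_prime (ex a ha) a1'] at o
    exact h ((Nat.prime_dvd_prime_iff_eq qp Nat.prime_three).1 o)
  have le : M ≤ zpowers z := le_sup_left.trans (syl_le p3 (by omega) (oz ▸ pq.to_sup_of_normal_left
    (IsPGroup.of_card (n := 1) (by rw [Nat.card_zpowers, oz, pow_one])))
    (mem_sup_right (mem_zpowers z)))
  have e : zpowers z = M := le_antisymm ((zp_eq p3 (le ha) a1').ge.trans (zpowers_le.2 ha)) le
  have := card_le_of_normal oz (e ▸ hM)
  omega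

end H20.AH
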