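/- AH tower (S4162), slots KW, CA, KD, K3. -/
import Cfsg.Agent.H20.AH1

set_option autoImplicit false
set_option linter.unusedSectionVars false

namespace H20.AH

open H33.Solv Subgroup MulAction H91.AH

theorem kw (gu : JobGU) {G W : Type} [Group G] [Finite G] [AddCommGroup W] [Finite W]
    [DistribMulAction G W] {x : G} {r e : ℕ} (hr : r.Prime) (h : LW G W r) (hx : cc x = r ^ e) :
    ∃ n a k, a + k ≤ e ∧ n ≤ a * r ^ k ∧
      Nat.card (toPermHom G W).range ∣ ∏ i ∈ Finset.range n, (r ^ n - r ^ i) := by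
  obtain ⟨⟨n, hn, d⟩, g2⟩ := gu G W r hr h.ex
  obtain ⟨k, -, hk⟩ := (Nat.dvd_prime_pow hr).1 (hx ▸ (orderOf_map_dvd (toPermHom G W) x).trans
    (orderOf_dvd_cc (Commute.refl x)))
  obtain ⟨a, -, ha⟩ := (Nat.dvd_prime_pow hr).1 (hn ▸ (fix W x).card_addSubgroup_dvd_card)
  have l := h.link x
  have l2 := g2 x k hk
  rw [ha, hk, hx, ← pow_add, Nat.pow_le_pow_iff_right hr.one_lt] at l
  rw [hn, ha, ← pow_mul, Nat.pow_le_pow_iff_right hr.one_lt] at l2
  exact ⟨n, a, k, l, l2, d⟩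

theorem jobKW : JobKW := by
  intro gu G W _ _ _ _ _ x
  have t : ∀ (r e b : ℕ), (∀ a ≤ e, ∀ k ≤ e, a + k ≤ e → a * r ^ k ≤ b) → ∀ m,
      (∀ n ≤ b, ¬ m ∣ ∏ i ∈ Finset.range n, (r ^ n - r ^ i)) → r.Prime → LW G W r →
      m ∣ Nat.card (toPermHom G W).range → cc x ≠ r ^ e := fun r e b h1 m h2 hr h hm hx => by
    obtain ⟨n, a, k, l, l2, d⟩ := kw gu hr h hx
    exact h2 n (l2.trans (h1 a (by omega) k (by omega) l)) (hm.trans d)
  exact ⟨t 2 3 4 (by decide) 25 (by decide +kernel) Nat.prime_two,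
    t 2 4 8 (by decide) 125 (by decide +kernel) Nat.prime_two, fun h hm =>
      ⟨t 3 2 9 (by decide) 49 (by decide +kernel) Nat.prime_three h hm,
        t 3 3 9 (by decide) 49 (by decide +kernel) Nat.prime_three h hm⟩⟩

theorem zp_two {G : Type} [Group G] {p k : ℕ} {a : G} (h : a ^ p ^ k = 1) : IsPGroup p (zpowers a) :=
  fun ⟨b, i, hi⟩ => ⟨k, Subtype.ext (show b ^ p ^ k = 1 by
    rw [← hi, ← zpow_natCast, ← zpow_mul, mul_comm, zpow_mul, zpow_natCast, h, one_zpow])⟩

theorem conj_odd {G : Type} [Group G] {t u : G} (h : t * u * t⁻¹ = u⁻¹) {m : ℕ} (hm : Odd m) :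
    t ^ m * u * (t ^ m)⁻¹ = u⁻¹ := by
  obtain ⟨k, rfl⟩ := hm
  have c : Commute (t ^ 2) u := mul_inv_eq_iff_eq_mul.1 (by
    calc t ^ 2 * u * (t ^ 2)⁻¹ = t * (t * u * t⁻¹) * t⁻¹ := by rw [sq]; group
      _ = (t * u * t⁻¹)⁻¹ := by nth_rewrite 1 [h]; group
      _ = u := by rw [h, inv_inv])
  rw [pow_succ', pow_mul, mul_assoc t, (c.pow_left k).eq, ← h]
  group

theorem jobCA : JobCA := by
  intro G _ _ _ hr S s a h w ow
  have w4 : w ^ 2 ^ 2 = 1 := by rw [show 2 ^ 2 = orderOf w from ow.symm, pow_orderOf_eq_one]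
  have wD : w ∈ centralizer ({w} : Set G) := mem_cent.2 (Commute.refl w)
  have n8 : ¬ 8 ∣ cc w := fun h8 => by
    obtain ⟨T, hT⟩ := (zp_two (a := (⟨w, wD⟩ : centralizer ({w} : Set G))) (p := 2) (k := 2)
      (Subtype.ext w4)).exists_le_sylow
    obtain ⟨Q, hQ⟩ := (T.2.map (centralizer ({w} : Set G)).subtype).exists_le_sylow
    have cQ : Nat.card Q = 8 := by rw [← h.card]; exact Nat.card_congr (Q.equiv S).toEquiv
    have e := eq_of_le_of_card_ge hQ (by
      rw [card_map_of_injective (subtype_injective _), cQ]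
      exact Nat.le_of_dvd Nat.card_pos (T.pow_dvd_card_of_pow_dvd_card (n := 3) h8))
    have cw : ∀ y ∈ (Q : Subgroup G), Commute y w := fun y hy => by
      obtain ⟨z, -, rfl⟩ := e.ge hy
      exact mem_cent.1 z.2
    have wQ : w ∈ (Q : Subgroup G) := e.le ⟨_, hT (mem_zpowers _), rfl⟩
    have i2 : (zpowers (⟨w, wQ⟩ : (Q : Subgroup G))).index = 2 := by
      have := (zpowers (⟨w, wQ⟩ : (Q : Subgroup G))).index_mul_card
      rw [Nat.card_zpowers, orderOf_mk, ow, cQ] at this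
      omega
    have c1 : ∀ x ∈ zpowers (⟨w, wQ⟩ : (Q : Subgroup G)), ∀ y : (Q : Subgroup G), Commute y x := by
      rintro _ ⟨i, rfl⟩ y
      exact Commute.zpow_right (show Commute y ⟨w, wQ⟩ from Subtype.ext (cw y y.2).eq) i
    have ab : ∀ x y : (Q : Subgroup G), Commute x y := fun x y => by
      by_cases hx : x ∈ zpowers (⟨w, wQ⟩ : (Q : Subgroup G))
      · exact (c1 x hx y).symm
      by_cases hy : y ∈ zpowers (⟨w, wQ⟩ : (Q : Subgroup G))
      · exact c1 y hy x
      have := c1 _ ((mul_mem_iff_of_index_two i2 (a := x) (b := y)).2 (by simp [hx, hy])) x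
      exact mul_left_cancel (a := x) (by rw [this.eq, mul_assoc])
    have sS : s ∈ (S : Subgroup G) := (h.mem s).2 ⟨1, Or.inl (pow_one s).symm⟩
    have aS : a ∈ (S : Subgroup G) := (h.mem a).2 ⟨0, Or.inr (by simp)⟩
    have k : a * s = s * a := congrArg Subtype.val ((S.equiv Q).injective (a₁ := ⟨a, aS⟩ * ⟨s, sS⟩)
      (a₂ := ⟨s, sS⟩ * ⟨a, aS⟩) (by rw [map_mul, map_mul]; exact (ab _ _).eq))
    have := h.inv
    rw [k, mul_inv_cancel_right, eq_inv_iff_mul_eq_one, ← sq, ← orderOf_dvd_iff_pow_eq_one,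
      h.os] at this
    omega
  have d4 : 4 ∣ cc w := ow ▸ orderOf_dvd_cc (Commute.refl w)
  have pw := Nat.eq_prime_pow_of_unique_prime_dvd (p := 2) (cc_pos w).ne' fun {r} rp hd => by
    by_contra r2
    have := Fact.mk rp
    obtain ⟨⟨u, hu⟩, ou⟩ := exists_prime_orderOf_dvd_card' (G := centralizer ({w} : Set G)) r hd
    rw [orderOf_mk] at ou
    obtain ⟨t, t1, t2⟩ := hr.pair_inv (mem_cent.1 hu).symm (by
      rw [ow, ou]; exact ((Nat.coprime_primes Nat.prime_two rp).2 (Ne.symm r2)).pow_left 2)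
    obtain ⟨m, j, m1, m2⟩ := exists_part Nat.prime_two t 1
    have t3 := conj_odd t2 (m := m) (Nat.odd_iff.2 m1)
    have le : zpowers w ⊔ zpowers (t ^ m) ≤ centralizer ({w} : Set G) :=
      sup_le (zpowers_le.2 wD) (zpowers_le.2 (mem_cent.2 (t1.pow_left m)))
    obtain ⟨k, hk⟩ := IsPGroup.iff_card.1 ((zp_two w4).to_sup_of_normal_left' (zp_two m2)
      (zpowers_le.2 (mem_nor_zp (by
        rw [(t1.pow_left m).eq, mul_inv_cancel_right]; exact mem_zpowers w))))
    have k2 : k ≤ 2 := by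
      by_contra k2
      exact n8 ((pow_dvd_pow 2 (show 3 ≤ k by omega)).trans (hk ▸ card_dvd_of_le le))
    have e := eq_of_le_of_card_ge (le_sup_left : zpowers w ≤ zpowers w ⊔ zpowers (t ^ m)) (by
      rw [hk, Nat.card_zpowers, ow]; exact Nat.pow_le_pow_right (by norm_num) k2)
    obtain ⟨i, hi⟩ := e.ge (mem_sup_right (mem_zpowers _))
    rw [← hi, ((mem_cent.1 hu).zpow_right i).symm.eq, mul_inv_cancel_right, eq_inv_iff_mul_eq_one,
      ← sq, ← orderOf_dvd_iff_pow_eq_one, ou] at t3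
    exact r2 ((Nat.prime_dvd_prime_iff_eq rp Nat.prime_two).1 t3)
  generalize (cc w).primeFactorsList.length = k at pw
  rw [pw] at n8 d4 ⊢
  obtain _ | _ | _ | k := k
  · omega
  · omega
  · rfl
  · exact absurd (pow_dvd_pow 2 (show 3 ≤ k + 1 + 1 + 1 by omega)) n8

section
variable {p : ℕ} [Fact p.Prime] {H V : Type} [Group H] [AddCommGroup V] [Module (ZMod p) V]
  [DistribMulAction H V]

theorem eig_one {a : ZMod p} {v : V} (v0 : v ≠ 0) (h : a • v = v) : a = 1 :=
  smul_left_injective (ZMod p) v0 (h.trans (one_smul _ v).symm)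

theorem ord_dvd {g : H} {a : ZMod p} {v : V} (v0 : v ≠ 0) (e : g • v = a • v) {n : ℕ}
    (hn : g ^ n • v = v) : orderOf a ∣ n :=
  orderOf_dvd_of_pow_eq_one (eig_one v0 ((pow_smul_eig e n).symm.trans hn))

end

theorem o25 : orderOf (2 : ZMod 5) = 4 := (orderOf_eq_iff (by norm_num)).2 (by decide)
theorem o37 : orderOf (3 : ZMod 7) = 6 := (orderOf_eq_iff (by norm_num)).2 (by decide)

theorem f5 : (2 : ZMod 5) ≠ 0 := by decide
theorem f7 : (2 : ZMod 7) ≠ 0 ∧ (3 : ZMod 7) ≠ 0 ∧ (2 : ZMod 7) ^ 3 = 1 ∧ (2 : ZMod 7) ≠ 1 ∧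
    (2 * 2 : ZMod 7) ≠ 1 := by decide

theorem jobKD : JobKD := by
  intro rd p _ H V _ _ _ _ _ _ h hp z oz hc hn
  have le := card_le_of_normal oz hn
  have d6 := rd H h.ratH z
  rw [oz, show 3 * Nat.totient 3 = 6 by decide] at d6
  have pos : 0 < Nat.card H := Nat.card_pos
  have := h.nt
  rcases hp with rfl | rfl
  · obtain ⟨v, v0⟩ := exists_ne (0 : V)
    obtain ⟨g, e, -⟩ := h.ep (one_smul H v) (a := 2) f5
    have d := ord_dvd v0 e (n := orderOf g) (by rw [pow_orderOf_eq_one, one_smul])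
    have := rd H h.ratH (g ^ (orderOf g / 4))
    rw [orderOf_pow_orderOf_div (orderOf_pos g).ne' (o25 ▸ d),
      show 4 * Nat.totient 4 = 8 by decide] at this
    omega
  · have k : ∀ v : V, z • v = (2 : ZMod 7) • v ∨ z ^ 2 • v = (2 : ZMod 7) • v := fun v => by
      by_cases v0 : v = 0
      · simp [v0]
      obtain ⟨g, e, -⟩ := h.ep (one_smul H v) (a := 2) f7.1
      obtain ⟨m, j, m1, m2⟩ := exists_part Nat.prime_three g 1
      have e' : g ^ m • v = (2 : ZMod 7) • v := by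
        rw [pow_smul_eig e, ← Nat.div_add_mod m 3, pow_add, pow_mul,
          show m % 3 = 1 from m1, show (2 : ZMod 7) ^ 3 = 1 from f7.2.2.1, one_pow, one_mul, pow_one]
      have := Fact.mk Nat.prime_three
      obtain ⟨k, hk⟩ := IsPGroup.iff_card.1 ((zp_two (a := z) (p := 3) (k := 1)
        (by rw [pow_one, ← oz, pow_orderOf_eq_one])).to_sup_of_normal_left (zp_two m2))
      have k2 : k ≤ 1 := by
        by_contra k2
        have := (pow_dvd_pow 3 (show 2 ≤ k by omega)).trans (hk ▸ card_subgroup_dvd_card _)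
        omega
      have e2 := eq_of_le_of_card_ge (le_sup_left : zpowers z ≤ zpowers z ⊔ zpowers (g ^ m)) (by
        rw [hk, Nat.card_zpowers, oz]; exact Nat.pow_le_pow_right (by norm_num) k2)
      rcases mem_zp3 oz (e2.ge (mem_sup_right (mem_zpowers _))) (fun e3 => by
        rw [e3, one_smul] at e'
        exact absurd (eig_one v0 e'.symm) f7.2.2.2.1) with e3 | e3
      exacts [Or.inl (e3 ▸ e'), Or.inr (e3 ▸ e')]
    have f : ∀ y : H, y ^ 3 = 1 → ¬ ∀ v : V, y • v = (2 : ZMod 7) • v := fun y y3 hy => by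
      obtain ⟨g, hg⟩ := isConj_iff.1 (h.ratH.real y)
      obtain ⟨v, v0⟩ := exists_ne (0 : V)
      have e : y⁻¹ • v = (2 : ZMod 7) • v := by
        rw [← hg, mul_smul, mul_smul, hy, smul_sc, smul_inv_smul]
      rw [inv_smul_eq_iff, smul_sc, hy, smul_smul] at e
      exact absurd (eig_one v0 e.symm) f7.2.2.2.2
    have z3 : z ^ 3 = 1 := by rw [← oz, pow_orderOf_eq_one]
    obtain ⟨v, hv⟩ := not_forall.1 (f z z3)
    obtain ⟨w, hw⟩ := not_forall.1 (f (z ^ 2) (by rw [← pow_mul, mul_comm, pow_mul, z3, one_pow]))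
    rcases k (v + w) with e | e <;> rw [smul_add, smul_add] at e
    · exact hv (add_right_cancel (e.trans (by rw [(k w).resolve_right hw])))
    · exact hw (add_left_cancel (e.trans (by rw [(k v).resolve_left hv])))

theorem jobK3 : JobK3 := by
  intro ccq frb mn p _ E V _ _ _ _ _ _ hs hp cop Z z v hZ tr c3 oz hc f0 v0 ep
  let _ : DistribMulAction (toPermHom E V).range V :=
    { (inferInstance : MulAction (toPermHom E V).range V) with
      smul_zero := by rintro ⟨_, g, rfl⟩; exact smul_zero g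
      smul_add := by rintro ⟨_, g, rfl⟩; exact smul_add g }
  let φ := (toPermHom E V).rangeRestrict
  have sj : Function.Surjective φ := MonoidHom.rangeRestrict_surjective _
  have act : ∀ (g : E) (w : V), φ g • w = g • w := fun _ _ => rfl
  have := Fact.mk Nat.prime_three
  have o3 : orderOf (φ z) = 3 := orderOf_eq_prime (by rw [← map_pow, ← oz, pow_orderOf_eq_one, map_one])
    fun e => v0 (AddSubgroup.mem_bot.1 (f0.le (mem_fix.2 (by rw [← act, e, one_smul]))))
  have c := ccq E _ φ sj Z z (fun g hg => Subtype.ext (Equiv.ext (tr g hg))) hZ (oz ▸ c3.symm)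
  have c' : cc (φ z) ≤ 3 := Nat.le_of_mul_le_mul_right (c.trans hc) Nat.card_pos
  obtain ⟨n, hn⟩ := card_pow (p := p) (⊤ : AddSubgroup V)
  rw [AddSubgroup.card_top] at hn
  have fr := frb (toPermHom E V).range V (by
      rw [hn]
      exact (((Nat.Prime.coprime_iff_not_dvd Fact.out).2 cop).symm.coprime_dvd_left
        (card_range_dvd _)).pow_right n)
    (fun g hg => Subtype.ext (Equiv.ext hg)) (φ z) (o3 ▸ Nat.prime_three) f0
  have le := mn _ (Group.isSolvable_of_surjective sj) (φ z) o3 c' fr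
  have d3 := o3 ▸ orderOf_dvd_natCard (φ z)
  have pos : 0 < Nat.card (toPermHom E V).range := Nat.card_pos
  have od : ∀ {g : E} {a : ZMod p}, g • v = a • v → orderOf a ∣ orderOf (φ g) := fun {g a} e =>
    ord_dvd v0 e (by rw [← act, map_pow, pow_orderOf_eq_one, one_smul])
  rcases hp with rfl | rfl
  · obtain ⟨g, e⟩ := ep 2 f5
    have := (o25 ▸ od e).trans (orderOf_dvd_natCard _)
    omega
  · obtain ⟨g, e⟩ := ep 3 f7.2.1
    have d := Nat.le_of_dvd (orderOf_pos _) (o37 ▸ od e)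
    have t : zpowers (φ g) = ⊤ := eq_of_le_of_card_ge le_top (by
      rw [card_top, Nat.card_zpowers]; omega)
    obtain ⟨i, hi⟩ := t.ge (mem_top (φ z))
    have := Nat.le_of_dvd (cc_pos _) (orderOf_dvd_cc (x := φ z) (y := φ g)
      (hi ▸ (Commute.refl _).zpow_right i))
    omega

end H20.AH
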