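/- C3 tower (row S5227): a Sylow 3-subgroup of the first Conway group in coordinates. -/
import Cfsg.Agent.H90.U5Hall
import Cfsg.Agent.H90.U5Asm

set_option autoImplicit false
set_option linter.unusedSectionVars false
set_option linter.unusedSimpArgs false
set_option linter.unusedVariables false
set_option linter.unnecessarySeqFocus false

open Subgroup H90.RF H90.U5

namespace H20.C3

/-- the field with three elements -/
abbrev F3 : Type := ZMod 3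

/-- Pairs `(X, u)` of a symmetric matrix `X = ((c, e, f), (e, g, h), (f, h, z))` and a lower unitriangular matrix
`u = ((1, 0, 0), (b, 1, 0), (d, a, 1))`, with `(X, u) (Y, w) = (X + u Y uᵀ, u w)`. -/
@[ext] structure Co where
  (a b d c e f g h z : F3)
  deriving DecidableEq

namespace Co

instance instMulCo : Mul Co := ⟨fun u w => {
  a := u.a + w.a
  b := u.b + w.b
  d := u.d + w.d + u.a * w.b
  c := u.c + w.c
  e := u.e + w.e + u.b * w.c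
  f := u.f + w.f + u.a * w.e + u.d * w.c
  g := u.g + w.g + 2 * u.b * w.e + u.b ^ 2 * w.c
  h := u.h + w.h + u.b * w.f + u.a * w.g + u.a * u.b * w.e + u.d * w.e + u.b * u.d * w.c
  z := u.z + w.z + 2 * u.a * w.h + 2 * u.d * w.f + u.a ^ 2 * w.g + 2 * u.a * u.d * w.e + u.d ^ 2 * w.c }⟩

instance instInvCo : Inv Co := ⟨fun u => {
  a := -u.a
  b := -u.b
  d := -u.d + u.a * u.b
  c := -u.c
  e := -u.e + u.b * u.c
  f := -u.f + u.a * u.e + u.c * u.d - u.a * u.b * u.c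
  g := -u.g + 2 * u.b * u.e - u.b ^ 2 * u.c
  h := -u.h + u.a * u.g + u.b * u.f + u.d * u.e - 2 * u.a * u.b * u.e - u.b * u.c * u.d + u.a * u.b ^ 2 * u.c
  z := -u.z + 2 * u.a * u.h + 2 * u.d * u.f - 2 * u.a * u.b * u.f - 2 * u.a * u.d * u.e - u.a ^ 2 * u.g - u.c * u.d ^ 2 +
    2 * u.a * u.b * u.c * u.d + 2 * u.a ^ 2 * u.b * u.e - u.a ^ 2 * u.b ^ 2 * u.c }⟩

instance instOneCo : One Co := ⟨⟨0, 0, 0, 0, 0, 0, 0, 0, 0⟩⟩

@[simp] theorem mul_a (u w : Co) : (u * w).a =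
    u.a + w.a := rfl
@[simp] theorem mul_b (u w : Co) : (u * w).b =
    u.b + w.b := rfl
@[simp] theorem mul_d (u w : Co) : (u * w).d =
    u.d + w.d + u.a * w.b := rfl
@[simp] theorem mul_c (u w : Co) : (u * w).c =
    u.c + w.c := rfl
@[simp] theorem mul_e (u w : Co) : (u * w).e =
    u.e + w.e + u.b * w.c := rfl
@[simp] theorem mul_f (u w : Co) : (u * w).f =
    u.f + w.f + u.a * w.e + u.d * w.c := rfl
@[simp] theorem mul_g (u w : Co) : (u * w).g =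
    u.g + w.g + 2 * u.b * w.e + u.b ^ 2 * w.c := rfl
@[simp] theorem mul_h (u w : Co) : (u * w).h =
    u.h + w.h + u.b * w.f + u.a * w.g + u.a * u.b * w.e + u.d * w.e + u.b * u.d * w.c := rfl
@[simp] theorem mul_z (u w : Co) : (u * w).z =
    u.z + w.z + 2 * u.a * w.h + 2 * u.d * w.f + u.a ^ 2 * w.g + 2 * u.a * u.d * w.e + u.d ^ 2 * w.c := rfl
@[simp] theorem inv_a (u : Co) : u⁻¹.a =
    -u.a := rfl
@[simp] theorem inv_b (u : Co) : u⁻¹.b =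
    -u.b := rfl
@[simp] theorem inv_d (u : Co) : u⁻¹.d =
    -u.d + u.a * u.b := rfl
@[simp] theorem inv_c (u : Co) : u⁻¹.c =
    -u.c := rfl
@[simp] theorem inv_e (u : Co) : u⁻¹.e =
    -u.e + u.b * u.c := rfl
@[simp] theorem inv_f (u : Co) : u⁻¹.f =
    -u.f + u.a * u.e + u.c * u.d - u.a * u.b * u.c := rfl
@[simp] theorem inv_g (u : Co) : u⁻¹.g =
    -u.g + 2 * u.b * u.e - u.b ^ 2 * u.c := rfl
@[simp] theorem inv_h (u : Co) : u⁻¹.h =
    -u.h + u.a * u.g + u.b * u.f + u.d * u.e - 2 * u.a * u.b * u.e - u.b * u.c * u.d + u.a * u.b ^ 2 * u.c := rfl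
@[simp] theorem inv_z (u : Co) : u⁻¹.z =
    -u.z + 2 * u.a * u.h + 2 * u.d * u.f - 2 * u.a * u.b * u.f - 2 * u.a * u.d * u.e - u.a ^ 2 * u.g - u.c * u.d ^ 2 +
    2 * u.a * u.b * u.c * u.d + 2 * u.a ^ 2 * u.b * u.e - u.a ^ 2 * u.b ^ 2 * u.c := rfl
@[simp] theorem one_a : (1 : Co).a = 0 := rfl
@[simp] theorem one_b : (1 : Co).b = 0 := rfl
@[simp] theorem one_d : (1 : Co).d = 0 := rfl
@[simp] theorem one_c : (1 : Co).c = 0 := rfl
@[simp] theorem one_e : (1 : Co).e = 0 := rfl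
@[simp] theorem one_f : (1 : Co).f = 0 := rfl
@[simp] theorem one_g : (1 : Co).g = 0 := rfl
@[simp] theorem one_h : (1 : Co).h = 0 := rfl
@[simp] theorem one_z : (1 : Co).z = 0 := rfl

instance instGroupCo : Group Co := Group.ofLeftAxioms
  (fun u w x => by
    ext <;> simp only [mul_a, mul_b, mul_d, mul_c, mul_e, mul_f, mul_g, mul_h, mul_z] <;> ring)
  (fun u => by ext <;> simp)
  (fun u => by ext <;> simp <;> ring)

/-- the coordinates -/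
def eqv : Co ≃ F3 × F3 × F3 × F3 × F3 × F3 × F3 × F3 × F3 where
  toFun u := (u.a, u.b, u.d, u.c, u.e, u.f, u.g, u.h, u.z)
  invFun x := ⟨x.1, x.2.1, x.2.2.1, x.2.2.2.1, x.2.2.2.2.1, x.2.2.2.2.2.1, x.2.2.2.2.2.2.1,
    x.2.2.2.2.2.2.2.1, x.2.2.2.2.2.2.2.2⟩
  left_inv _ := rfl
  right_inv _ := rfl

instance instFintypeCo : Fintype Co := Fintype.ofEquiv _ eqv.symm

/-- conjugation by `n₁` on `E₁ = {a = 0}` -/
def nu1 (k : F3) (u : Co) : Co := ⟨0, -u.d, u.b, u.c, -u.f, u.e, u.z - k * u.c, -u.h, u.g + k * u.c⟩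

/-- conjugation by `n₂` on `E₂ = {b = 0}` -/
def nu2 (u : Co) : Co := ⟨u.d, 0, -u.a, u.g, -u.e, -u.h, u.c, u.f, u.z⟩

/-- conjugation by `n₃` on `E₃ = {c = 0}` -/
def nu3 (u : Co) : Co :=
  ⟨u.a, u.e, u.f, 0, -u.b, -u.d, u.g + u.b * u.e, u.h - u.d * u.e - u.b * u.f, u.z + u.d * u.f⟩

end Co

theorem card_Co : Nat.card Co = 3 ^ 9 := by
  rw [Nat.card_congr Co.eqv]; simp [Nat.card_prod]

theorem pgroup_Co : IsPGroup 3 Co := IsPGroup.of_card card_Co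

theorem three : (3 : F3) = 0 := rfl
theorem two : (2 : F3) = -1 := rfl
theorem tri (t : F3) : t = 0 ∨ t = 1 ∨ t = -1 := by revert t; decide
theorem sq_one {t : F3} (h : t ≠ 0) : t * t = 1 := by revert t; decide
theorem cube (t : F3) : t ^ 3 = t := by revert t; decide
theorem usq (t : F3ˣ) : (t : F3) * t = 1 := sq_one t.ne_zero
theorem usq' (t : F3ˣ) : (t : F3) ^ 2 = 1 := by rw [sq, usq]
theorem utri (t : F3ˣ) : t = 1 ∨ t = -1 := by revert t; decide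

/-- root element -/
def xa (t : F3) : Co := ⟨t, 0, 0, 0, 0, 0, 0, 0, 0⟩
/-- root element -/
def xb (t : F3) : Co := ⟨0, t, 0, 0, 0, 0, 0, 0, 0⟩
/-- root element -/
def xd (t : F3) : Co := ⟨0, 0, t, 0, 0, 0, 0, 0, 0⟩
/-- root element -/
def xc (t : F3) : Co := ⟨0, 0, 0, t, 0, 0, 0, 0, 0⟩
/-- root element -/
def xe (t : F3) : Co := ⟨0, 0, 0, 0, t, 0, 0, 0, 0⟩
/-- root element -/
def xf (t : F3) : Co := ⟨0, 0, 0, 0, 0, t, 0, 0, 0⟩
/-- root element -/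
def xg (t : F3) : Co := ⟨0, 0, 0, 0, 0, 0, t, 0, 0⟩
/-- root element -/
def xh (t : F3) : Co := ⟨0, 0, 0, 0, 0, 0, 0, t, 0⟩
/-- root element -/
def xz (t : F3) : Co := ⟨0, 0, 0, 0, 0, 0, 0, 0, t⟩
/-- an element of the complement `U` of `A` -/
def uu (a b d : F3) : Co := ⟨a, b, d, 0, 0, 0, 0, 0, 0⟩
/-- an element of `A` -/
def vv (c e f g h z : F3) : Co := ⟨0, 0, 0, c, e, f, g, h, z⟩

/-- the group of signs -/
abbrev DD : Type := F3ˣ × F3ˣ × F3ˣ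

/-- the diagonal automorphisms; the signs on `a`, `b`, `c` -/
def sd (δ : DD) (u : Co) : Co :=
  ⟨δ.1 * u.a, δ.2.1 * u.b, δ.1 * δ.2.1 * u.d, δ.2.2 * u.c, δ.2.1 * δ.2.2 * u.e, δ.1 * δ.2.1 * δ.2.2 * u.f,
    δ.2.2 * u.g, δ.1 * δ.2.2 * u.h, δ.2.2 * u.z⟩

/-- the square of `n₂` -/
def t2 : DD := (-1, 1, 1)
/-- the square of `n₁` and of `n₃` -/
def t1 : DD := (1, -1, 1)
/-- minus one on `A` -/
def t3 : DD := (1, 1, -1)

/-- the central automorphisms `z ↦ z + k c` -/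
def rho (k : F3) (u : Co) : Co := ⟨u.a, u.b, u.d, u.c, u.e, u.f, u.g, u.h, u.z + k * u.c⟩

/-- `Z = Z(S)` -/
def sZ : Subgroup Co where
  carrier := {u | u.a = 0 ∧ u.b = 0 ∧ u.d = 0 ∧ u.c = 0 ∧ u.e = 0 ∧ u.f = 0 ∧ u.g = 0 ∧ u.h = 0}
  one_mem' := by simp
  mul_mem' := fun {u w} hu hw => by simp_all
  inv_mem' := fun {u} hu => by simp_all
theorem mem_sZ {u : Co} : u ∈ sZ ↔ u.a = 0 ∧ u.b = 0 ∧ u.d = 0 ∧ u.c = 0 ∧ u.e = 0 ∧ u.f = 0 ∧ u.g = 0 ∧ u.h = 0 := Iff.rfl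

/-- `Z₂(S)` -/
def sZ2 : Subgroup Co where
  carrier := {u | u.a = 0 ∧ u.b = 0 ∧ u.d = 0 ∧ u.c = 0 ∧ u.e = 0 ∧ u.f = 0 ∧ u.g = 0}
  one_mem' := by simp
  mul_mem' := fun {u w} hu hw => by simp_all
  inv_mem' := fun {u} hu => by simp_all
theorem mem_sZ2 {u : Co} : u ∈ sZ2 ↔ u.a = 0 ∧ u.b = 0 ∧ u.d = 0 ∧ u.c = 0 ∧ u.e = 0 ∧ u.f = 0 ∧ u.g = 0 := Iff.rfl

/-- `W = Z(E₁)` -/
def sW : Subgroup Co where
  carrier := {u | u.a = 0 ∧ u.b = 0 ∧ u.d = 0 ∧ u.c = 0 ∧ u.e = 0 ∧ u.f = 0}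
  one_mem' := by simp
  mul_mem' := fun {u w} hu hw => by simp_all
  inv_mem' := fun {u} hu => by simp_all
theorem mem_sW {u : Co} : u ∈ sW ↔ u.a = 0 ∧ u.b = 0 ∧ u.d = 0 ∧ u.c = 0 ∧ u.e = 0 ∧ u.f = 0 := Iff.rfl

/-- `W' = [E₂, E₂]` -/
def sW2 : Subgroup Co where
  carrier := {u | u.a = 0 ∧ u.b = 0 ∧ u.d = 0 ∧ u.c = 0 ∧ u.e = 0 ∧ u.g = 0}
  one_mem' := by simp
  mul_mem' := fun {u w} hu hw => by simp_all
  inv_mem' := fun {u} hu => by simp_all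
theorem mem_sW2 {u : Co} : u ∈ sW2 ↔ u.a = 0 ∧ u.b = 0 ∧ u.d = 0 ∧ u.c = 0 ∧ u.e = 0 ∧ u.g = 0 := Iff.rfl

/-- `Z₃(S)` -/
def sZ3 : Subgroup Co where
  carrier := {u | u.a = 0 ∧ u.b = 0 ∧ u.d = 0 ∧ u.c = 0 ∧ u.e = 0}
  one_mem' := by simp
  mul_mem' := fun {u w} hu hw => by simp_all
  inv_mem' := fun {u} hu => by simp_all
theorem mem_sZ3 {u : Co} : u ∈ sZ3 ↔ u.a = 0 ∧ u.b = 0 ∧ u.d = 0 ∧ u.c = 0 ∧ u.e = 0 := Iff.rfl

/-- `A₅ = Φ(E₁)` -/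
def sA5 : Subgroup Co where
  carrier := {u | u.a = 0 ∧ u.b = 0 ∧ u.d = 0 ∧ u.c = 0}
  one_mem' := by simp
  mul_mem' := fun {u w} hu hw => by simp_all
  inv_mem' := fun {u} hu => by simp_all
theorem mem_sA5 {u : Co} : u ∈ sA5 ↔ u.a = 0 ∧ u.b = 0 ∧ u.d = 0 ∧ u.c = 0 := Iff.rfl

/-- `A = J(S)` -/
def sA : Subgroup Co where
  carrier := {u | u.a = 0 ∧ u.b = 0 ∧ u.d = 0}
  one_mem' := by simp
  mul_mem' := fun {u w} hu hw => by simp_all
  inv_mem' := fun {u} hu => by simp_all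
theorem mem_sA {u : Co} : u ∈ sA ↔ u.a = 0 ∧ u.b = 0 ∧ u.d = 0 := Iff.rfl

/-- `Z₄(S) = Φ(S)` -/
def sZ4 : Subgroup Co where
  carrier := {u | u.a = 0 ∧ u.b = 0 ∧ u.c = 0}
  one_mem' := by simp
  mul_mem' := fun {u w} hu hw => by simp_all
  inv_mem' := fun {u} hu => by simp_all
theorem mem_sZ4 {u : Co} : u ∈ sZ4 ↔ u.a = 0 ∧ u.b = 0 ∧ u.c = 0 := Iff.rfl

/-- `D = E₁ ∩ E₂` -/
def sD : Subgroup Co where
  carrier := {u | u.a = 0 ∧ u.b = 0}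
  one_mem' := by simp
  mul_mem' := fun {u w} hu hw => by simp_all
  inv_mem' := fun {u} hu => by simp_all
theorem mem_sD {u : Co} : u ∈ sD ↔ u.a = 0 ∧ u.b = 0 := Iff.rfl

/-- `R = E₁ ∩ E₃` -/
def sR : Subgroup Co where
  carrier := {u | u.a = 0 ∧ u.c = 0}
  one_mem' := by simp
  mul_mem' := fun {u w} hu hw => by simp_all
  inv_mem' := fun {u} hu => by simp_all
theorem mem_sR {u : Co} : u ∈ sR ↔ u.a = 0 ∧ u.c = 0 := Iff.rfl

/-- `E₂ ∩ E₃` -/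
def sB : Subgroup Co where
  carrier := {u | u.b = 0 ∧ u.c = 0}
  one_mem' := by simp
  mul_mem' := fun {u w} hu hw => by simp_all
  inv_mem' := fun {u} hu => by simp_all
theorem mem_sB {u : Co} : u ∈ sB ↔ u.b = 0 ∧ u.c = 0 := Iff.rfl

/-- the extraspecial group `Q` -/
def sQ : Subgroup Co where
  carrier := {u | u.b = 0 ∧ u.c = 0 ∧ u.e = 0 ∧ u.g = 0}
  one_mem' := by simp
  mul_mem' := fun {u w} hu hw => by simp_all
  inv_mem' := fun {u} hu => by simp_all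
theorem mem_sQ {u : Co} : u ∈ sQ ↔ u.b = 0 ∧ u.c = 0 ∧ u.e = 0 ∧ u.g = 0 := Iff.rfl

/-- `E₁` -/
def sE1 : Subgroup Co where
  carrier := {u | u.a = 0}
  one_mem' := by simp
  mul_mem' := fun {u w} hu hw => by simp_all
  inv_mem' := fun {u} hu => by simp_all
theorem mem_sE1 {u : Co} : u ∈ sE1 ↔ u.a = 0 := Iff.rfl

/-- `E₂` -/
def sE2 : Subgroup Co where
  carrier := {u | u.b = 0}
  one_mem' := by simp
  mul_mem' := fun {u w} hu hw => by simp_all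
  inv_mem' := fun {u} hu => by simp_all
theorem mem_sE2 {u : Co} : u ∈ sE2 ↔ u.b = 0 := Iff.rfl

/-- `E₃` -/
def sE3 : Subgroup Co where
  carrier := {u | u.c = 0}
  one_mem' := by simp
  mul_mem' := fun {u w} hu hw => by simp_all
  inv_mem' := fun {u} hu => by simp_all
theorem mem_sE3 {u : Co} : u ∈ sE3 ↔ u.c = 0 := Iff.rfl

/-- `Z₃ ⟨d⟩ = Φ(E₃)` -/
def sY : Subgroup Co where
  carrier := {u | u.a = 0 ∧ u.b = 0 ∧ u.c = 0 ∧ u.e = 0}
  one_mem' := by simp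
  mul_mem' := fun {u w} hu hw => by simp_all
  inv_mem' := fun {u} hu => by simp_all
theorem mem_sY {u : Co} : u ∈ sY ↔ u.a = 0 ∧ u.b = 0 ∧ u.c = 0 ∧ u.e = 0 := Iff.rfl

/-- the elementary abelian subgroups `{a = c = 0, e = l b, f = l d}` of order `3⁵` -/
def sE0 (l : F3) : Subgroup Co where
  carrier := {u | u.a = 0 ∧ u.c = 0 ∧ u.e = l * u.b ∧ u.f = l * u.d}
  one_mem' := by simp
  mul_mem' := fun {u w} hu hw => by simp_all [mul_add]
  inv_mem' := fun {u} hu => by simp_all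
theorem mem_sE0 {l : F3} {u : Co} : u ∈ sE0 l ↔ u.a = 0 ∧ u.c = 0 ∧ u.e = l * u.b ∧ u.f = l * u.d := Iff.rfl

/-- the subgroups `A ⟨uu 1 r s⟩` -/
def sE4 (r s : F3) : Subgroup Co where
  carrier := {u | u.b = r * u.a ∧ u.d = s * u.a + r * (u.a - u.a ^ 2)}
  one_mem' := by simp
  mul_mem' := fun {u w} hu hw => by
    simp only [Set.mem_ofPred_eq, Co.mul_a, Co.mul_b, Co.mul_d] at hu hw ⊢
    rw [hu.1, hu.2, hw.1, hw.2]
    exact ⟨by ring, by linear_combination r * u.a * w.a * three⟩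
  inv_mem' := fun {u} hu => by
    simp only [Set.mem_ofPred_eq, Co.inv_a, Co.inv_b, Co.inv_d] at hu ⊢
    rw [hu.1, hu.2]
    exact ⟨by ring, by linear_combination r * u.a ^ 2 * three⟩
theorem mem_sE4 {r s : F3} {u : Co} :
    u ∈ sE4 r s ↔ u.b = r * u.a ∧ u.d = s * u.a + r * (u.a - u.a ^ 2) := Iff.rfl

/-- the normalizers `A ⟨uu 1 r 0, xd 1⟩` of the subgroups `sE4 r s` -/
def sP4 (r : F3) : Subgroup Co where
  carrier := {u | u.b = r * u.a}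
  one_mem' := by simp
  mul_mem' := fun {u w} hu hw => by simp_all [mul_add]
  inv_mem' := fun {u} hu => by simp_all
theorem mem_sP4 {r : F3} {u : Co} : u ∈ sP4 r ↔ u.b = r * u.a := Iff.rfl

/-- the upper central series -/
def zA : ℕ → Subgroup Co
  | 0 => ⊥ | 1 => sZ | 2 => sZ2 | 3 => sZ3 | _ => sZ4

/-- a characteristic series of `S` with factors of order three -/
def z0 : ℕ → Subgroup Co
  | 0 => ⊥ | 1 => sZ | 2 => sZ2 | 3 => sW | 4 => sZ3 | 5 => sA5 | 6 => sZ4 | 7 => sD | 8 => sE1 | _ => ⊤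

/-! ### Commutators -/

@[simp] theorem cm_a (s m : Co) : (cm s m).a = 0 := by simp [cm]
@[simp] theorem cm_b (s m : Co) : (cm s m).b = 0 := by simp [cm]
theorem cm_d (s m : Co) : (cm s m).d =
    -m.a * s.b + m.b * s.a := by
  simp [cm]; ring
@[simp] theorem cm_c (s m : Co) : (cm s m).c = 0 := by simp [cm]
theorem cm_e (s m : Co) : (cm s m).e =
    -m.b * s.c + m.c * s.b := by
  simp [cm]; ring
theorem cm_f (s m : Co) : (cm s m).f =
    -m.a * s.e + m.c * s.d - m.d * s.c + m.e * s.a + m.a * m.b * s.c - m.a * m.c * s.b + m.a * s.b * s.c - m.b * s.a * s.c := by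
  simp [cm]; ring
theorem cm_g (s m : Co) : (cm s m).g =
    -2 * m.b * s.e + 2 * m.e * s.b - 2 * m.b * m.c * s.b + m.b ^ 2 * s.c + m.c * s.b ^ 2 := by
  simp [cm]; ring
theorem cm_h (s m : Co) : (cm s m).h =
    -m.a * s.g - m.b * s.f - m.d * s.e + m.e * s.d + m.f * s.b + m.g * s.a + 2 * m.a * m.b * s.e - 2 * m.a * m.e * s.b +
    m.a * s.b * s.e - m.b * m.c * s.d + m.b * m.d * s.c - m.b * m.e * s.a - m.b * s.a * s.e - m.c * m.d * s.b +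
    m.c * s.b * s.d + m.e * s.a * s.b + 2 * m.a * m.b * m.c * s.b - m.a * m.b ^ 2 * s.c - m.a * m.c * s.b ^ 2 := by
  simp [cm]; ring
theorem cm_z (s m : Co) : (cm s m).z =
    -2 * m.a * s.h - 2 * m.d * s.f + 2 * m.f * s.d + 2 * m.h * s.a + 2 * m.a * m.b * s.f + 2 * m.a * m.d * s.e -
    2 * m.a * m.e * s.d - 2 * m.a * m.f * s.b - 2 * m.a * m.g * s.a + 2 * m.a * s.b * s.f + m.a ^ 2 * s.g - 2 * m.b * s.a * s.f -
    2 * m.c * m.d * s.d + m.c * s.d ^ 2 - 2 * m.d * m.e * s.a + m.d ^ 2 * s.c + 2 * m.e * s.a * s.d + m.g * s.a ^ 2 +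
    2 * m.a * m.b * m.c * s.d - 2 * m.a * m.b * m.d * s.c + 2 * m.a * m.b * m.e * s.a + 2 * m.a * m.c * m.d * s.b -
    2 * m.a * m.c * s.b * s.d - 2 * m.a * m.e * s.a * s.b - 2 * m.a ^ 2 * m.b * s.e + 2 * m.a ^ 2 * m.e * s.b +
    2 * m.a * m.b * s.a * s.b * s.c - 2 * m.a ^ 2 * m.b * m.c * s.b + m.a ^ 2 * m.b ^ 2 * s.c + m.a ^ 2 * m.c * s.b ^ 2 -
    m.a ^ 2 * s.b ^ 2 * s.c - m.b ^ 2 * s.a ^ 2 * s.c := by
  simp [cm]; ring
/-! ### The standard automorphisms -/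

theorem sd_mul (δ : DD) (u w : Co) : sd δ (u * w) = sd δ u * sd δ w := by
  obtain ⟨x, y, m⟩ := δ
  rcases utri x with rfl | rfl <;> rcases utri y with rfl | rfl <;> ext <;> simp [sd] <;> ring

theorem sd_sd (δ δ' : DD) (u : Co) : sd δ (sd δ' u) = sd (δ * δ') u := by
  ext <;> simp [sd] <;> ring

theorem sd_one (u : Co) : sd 1 u = u := by ext <;> simp [sd]

theorem DD_sq (δ : DD) : δ * δ = 1 := by revert δ; decide

theorem sd_sd_self (δ : DD) (u : Co) : sd δ (sd δ u) = u := by rw [sd_sd, DD_sq, sd_one]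

theorem au_sd (δ : DD) : Au ⊤ (sd δ) :=
  Au.of_inj (fun _ _ => trivial) (fun u _ w _ => sd_mul δ u w) fun u _ w _ e => by
    rw [← sd_sd_self δ u, e, sd_sd_self]

/-- the diagonal automorphisms as a homomorphism -/
noncomputable def sdH : DD →* MulAut Co :=
  MonoidHom.mk' (fun δ => (au_sd δ).toTop) fun δ δ' => MulEquiv.ext fun u => (sd_sd δ δ' u).symm

theorem sdH_apply (δ : DD) (u : Co) : sdH δ u = sd δ u := rfl

theorem rho_mul (k : F3) (u w : Co) : rho k (u * w) = rho k u * rho k w := by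
  ext <;> simp [rho] <;> ring

theorem rho_rho (k l : F3) (u : Co) : rho k (rho l u) = rho (k + l) u := by
  ext <;> simp [rho] <;> ring

theorem rho_zero (u : Co) : rho 0 u = u := by ext <;> simp [rho]

theorem au_rho (k : F3) : Au ⊤ (rho k) :=
  Au.of_inj (fun _ _ => trivial) (fun u _ w _ => rho_mul k u w) fun u _ w _ e => by
    rw [← rho_zero u, ← neg_add_cancel k, ← rho_rho, e, rho_rho, neg_add_cancel, rho_zero]

/-- the central automorphism -/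
noncomputable def rhoA (k : F3) : MulAut Co := (au_rho k).toTop

theorem rhoA_apply (k : F3) (u : Co) : rhoA k u = rho k u := rfl

theorem nu1_mul (k : F3) {u w : Co} (hu : u.a = 0) (hw : w.a = 0) : (u * w).nu1 k = u.nu1 k * w.nu1 k := by
  ext <;> simp [Co.nu1, hu, hw] <;> ring

theorem nu1_nu1 (k : F3) {u : Co} (hu : u.a = 0) : (u.nu1 k).nu1 k = sd t1 u := by
  ext <;> simp [Co.nu1, hu, sd, t1]

theorem nu2_mul {u w : Co} (hu : u.b = 0) (hw : w.b = 0) : (u * w).nu2 = u.nu2 * w.nu2 := by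
  ext <;> simp [Co.nu2, hu, hw] <;> ring

theorem nu2_nu2 {u : Co} (hu : u.b = 0) : u.nu2.nu2 = sd t2 u := by
  ext <;> simp [Co.nu2, hu, sd, t2]

theorem nu3_mul {u w : Co} (hu : u.c = 0) (hw : w.c = 0) : (u * w).nu3 = u.nu3 * w.nu3 := by
  ext <;> simp [Co.nu3, hu, hw] <;> grind

theorem nu3_nu3 {u : Co} (hu : u.c = 0) : u.nu3.nu3 = sd t1 u := by
  ext <;> simp [Co.nu3, hu, sd, t1] <;> ring

theorem au_nu1 (k : F3) : Au sE1 (Co.nu1 k) :=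
  Au.of_inj (fun _ _ => rfl) (fun _ hu _ hw => nu1_mul k hu hw) fun u hu w hw e => by
    rw [← sd_sd_self t1 u, ← nu1_nu1 k hu, e, nu1_nu1 k hw, sd_sd_self]

theorem au_nu2 : Au sE2 Co.nu2 :=
  Au.of_inj (fun _ _ => rfl) (fun _ hu _ hw => nu2_mul hu hw) fun u hu w hw e => by
    rw [← sd_sd_self t2 u, ← nu2_nu2 hu, e, nu2_nu2 hw, sd_sd_self]

theorem au_nu3 : Au sE3 Co.nu3 :=
  Au.of_inj (fun _ _ => rfl) (fun _ hu _ hw => nu3_mul hu hw) fun u hu w hw e => by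
    rw [← sd_sd_self t1 u, ← nu3_nu3 hu, e, nu3_nu3 hw, sd_sd_self]

/-- The realizing group: `Co` is a Sylow subgroup of `G`, and `t₁`, `t₂`, `n₁`, `n₂`, `n₃` are induced. -/
structure Rl (k : F3) {G : Type*} [Group G] (ι : Co →* G) : Prop where
  inj : Function.Injective ι
  syl : ∃ S : Sylow 3 G, (S : Subgroup G) = ι.range
  t1 : ∃ g, ∀ u, g * ι u * g⁻¹ = ι (sd t1 u)
  t2 : ∃ g, ∀ u, g * ι u * g⁻¹ = ι (sd t2 u)
  n1 : ∃ g, ∀ u ∈ sE1, g * ι u * g⁻¹ = ι (u.nu1 k)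
  n2 : ∃ g, ∀ u ∈ sE2, g * ι u * g⁻¹ = ι u.nu2
  n3 : ∃ g, ∀ u ∈ sE3, g * ι u * g⁻¹ = ι u.nu3

end H20.C3
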