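/- C3 tower (row S5227): fusion systems on a Sylow 3-subgroup of the first Conway group.
Proofs: blueprints/C3.md. -/
import Cfsg.Agent.H20.C3Co
import Cfsg.Prelude.Def_Spor_Conway

set_option autoImplicit false
set_option linter.unusedSectionVars false

open Subgroup H90.RF H90.U5 Matrix

namespace H20.C3

/-! ### Automizers -/

/-- conjugation -/
def cj (s u : Co) : Co := s * u * s⁻¹

/-- `Y` induces `f` on `X` -/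
def In (X : Subgroup Co) (Y : Subgroup (Equiv.Perm Co)) (f : Co → Co) : Prop := ∃ y ∈ Y, ∀ u ∈ X, y u = f u

/-- `α` normalizes the action of `X` on `A` -/
def Nm (α : Co → Co) (X : Subgroup Co) : Prop :=
  ∀ s ∈ X, ∃ t ∈ X, ∀ u ∈ sA, α (s * u * s⁻¹) = t * α u * t⁻¹

/-- the automizers of `S`, `E₁`, `E₂`, `E₃`, `A` -/
structure Tri (Y0 Y1 Y2 Y3 YA : Subgroup (Equiv.Perm Co)) : Prop where
  l0 : Lg ⊤ Y0
  l1 : Lg sE1 Y1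
  l2 : Lg sE2 Y2
  l3 : Lg sE3 Y3
  lA : Lg sA YA
  inn : ∀ s, In ⊤ Y0 (cj s)
  rad0 : ∀ y ∈ Y0, Cg z0 9 y id → ∃ s, ∀ u, y u = s * u * s⁻¹
  res1 : ∀ y ∈ Y0, In sE1 Y1 y
  res2 : ∀ y ∈ Y0, In sE2 Y2 y
  res3 : ∀ y ∈ Y0, In sE3 Y3 y
  resA : ∀ y ∈ Y0, In sA YA y
  ext1 : ∀ α ∈ Y1, Pr α sD → In sE1 Y0 α
  ext2 : ∀ α ∈ Y2, Pr α sD → In sE2 Y0 α
  ext3 : ∀ α ∈ Y3, Pr α sZ4 → In sE3 Y0 α
  rad1 : ∀ α ∈ Y1, (∀ u ∈ sE1, (α u).b = u.b ∧ (α u).d = u.d) → (∀ u ∈ sA, (α u).c = u.c) →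
    ∃ s ∈ sE1, ∀ u ∈ sE1, α u = s * u * s⁻¹
  rad2 : ∀ α ∈ Y2, (∀ u ∈ sE2, (α u).a = u.a ∧ (α u).d = u.d) → α (xz 1) = xz 1 →
    ∃ s ∈ sE2, ∀ u ∈ sE2, α u = s * u * s⁻¹
  rad3 : ∀ α ∈ Y3, (∀ u ∈ sE3, (α u).a = u.a) → (∀ u ∈ sR, (α u).b = u.b ∧ (α u).e = u.e) →
    ∃ s ∈ sE3, ∀ u ∈ sE3, α u = s * u * s⁻¹
  r1A : ∀ α ∈ Y1, In sA YA α
  r2A : ∀ α ∈ Y2, In sA YA α
  eAD : ∀ α ∈ YA, Nm α sD → In sA Y0 α
  eA1 : ∀ α ∈ YA, Nm α sE1 → In sA Y1 α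
  eA2 : ∀ α ∈ YA, Nm α sE2 → In sA Y2 α
  pelA : ∀ α ∈ YA, α ^ 9 = 1 → α ^ 3 = 1

/-- `A` is characteristic in every overgroup -/
def Ach : Prop := ∀ E : Subgroup Co, sA ≤ E → ∀ β : Co → Co, Au E β → Pr β sA

/-- the automorphisms of `S` -/
def AS : Prop := ∀ θ : Co → Co, Au ⊤ θ →
  (∀ i, Pr θ (z0 i)) ∧ Pr θ sA ∧ Pr θ sE2 ∧ Pr θ sE3 ∧ ∃ δ, Cg z0 9 θ (sd δ)

/-- the automorphisms of `E₁` -/
def A1 : Prop := ∀ β : Co → Co, Au sE1 β → Pr β sA ∧ Pr β sA5 ∧ Pr β sW ∧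
  (Pr β sD → Pr β sZ ∧ Pr β sZ2 ∧ Pr β sZ3) ∧
  ∃ m n r s μ : F3, (∀ u ∈ sE1, (β u).b = m * u.b + n * u.d ∧ (β u).d = r * u.b + s * u.d) ∧
    ∀ u ∈ sA, (β u).c = μ * u.c

/-- the automorphisms of `E₂` -/
def A2 : Prop := ∀ β : Co → Co, Au sE2 β → Pr β sA ∧ Pr β sW2 ∧ Pr β sZ ∧
  (Pr β sD → Pr β sZ2 ∧ Pr β sZ3 ∧ Pr β sA5) ∧
  (∃ m n r s : F3, ∀ u ∈ sE2, (β u).a = m * u.a + n * u.d ∧ (β u).d = r * u.a + s * u.d) ∧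
  ((∀ u ∈ sE2, (β u).a = u.a ∧ (β u).d = u.d) → β (xz 1) = xz 1 →
    ∀ u ∈ sA, (β u).c = u.c ∧ (β u).e = u.e ∧ (β u).g = u.g)

/-- the automorphisms of `E₃` -/
def A3 : Prop := ∀ β : Co → Co, Au sE3 β → Pr β sR ∧ Pr β sY ∧ Pr β sW ∧ Pr β sZ2 ∧ Pr β sZ ∧
  (Pr β sZ4 → Pr β sZ3) ∧
  ∃ m n r s μ : F3, (∀ u ∈ sR, (β u).b = m * u.b + n * u.e ∧ (β u).e = r * u.b + s * u.e) ∧
    ∀ u ∈ sE3, (β u).a = μ * u.a

/-- an automorphism of `A` that normalizes the action of `d` preserves the flag -/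
def AD : Prop := ∀ α : Co → Co, Au sA α → Nm α sD →
  Pr α sZ ∧ Pr α sZ2 ∧ Pr α sW ∧ Pr α sZ3 ∧ Pr α sA5

/-- `Y₁` contains an element congruent to `n₁` -/
def G1 (Y1 : Subgroup (Equiv.Perm Co)) : Prop :=
  ∃ n ∈ Y1, (∀ u ∈ sE1, (n u).b = -u.d ∧ (n u).d = u.b) ∧ ∀ u ∈ sA, (n u).c = u.c
/-- `Y₂` contains an element congruent to `n₂` -/
def G2 (Y2 : Subgroup (Equiv.Perm Co)) : Prop :=
  ∃ n ∈ Y2, (∀ u ∈ sE2, (n u).a = u.d ∧ (n u).d = -u.a) ∧ n (xz 1) = xz 1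
/-- `Y₃` contains an element congruent to `n₃` -/
def G3 (Y3 : Subgroup (Equiv.Perm Co)) : Prop :=
  ∃ n ∈ Y3, (∀ u ∈ sR, (n u).b = u.e ∧ (n u).e = -u.b) ∧ ∀ u ∈ sE3, (n u).a = u.a

/-! ### The subgroup `E₄ = A ⟨x⟩` -/

/-- the element `x` -/
def xx : Co := uu 1 1 0

/-- `c` and `lam` are the coordinates on `A / [A, x]` -/
def lam (u : Co) : F3 := u.g - u.e + u.f

/-- the automorphisms of `A` that normalize the action of `x` -/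
def A4 : Prop := ∀ α : Co → Co, Au sA α → Nm α (sE4 1 0) → ∃ m n r s : F3,
  ∀ u ∈ sA, (α u).c = m * u.c + n * lam u ∧ lam (α u) = r * u.c + s * lam u

/-- the first cohomology of `⟨x⟩` on `A` vanishes -/
def H1 : Prop := ∀ β : Co → Co, Au (sE4 1 0) β → (∀ u ∈ sA, β u = u) →
  ∃ t ∈ sA, ∀ u ∈ sE4 1 0, β u = t * u * t⁻¹

/-- the kernel of the action on `A / [A, x]` -/
def K4 (YA : Subgroup (Equiv.Perm Co)) : Prop :=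
  ∀ α ∈ YA, (∀ u ∈ sA, α (xx * u * xx⁻¹) = xx * α u * xx⁻¹) →
    (∀ u ∈ sA, (α u).c = u.c ∧ lam (α u) = lam u) → ∃ t ∈ sE4 1 0, ∀ u ∈ sA, α u = t * u * t⁻¹

/-- the stabilizer of the flag normalizes the action of `d` -/
def B4 (YA : Subgroup (Equiv.Perm Co)) : Prop := ∀ α ∈ YA, Nm α (sE4 1 0) → Pr α sA5 → Nm α sD

/-- an element that moves the flag -/
def M4 (YA : Subgroup (Equiv.Perm Co)) : Prop := ∃ α ∈ YA, Nm α (sE4 1 0) ∧ ¬ Pr α sA5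

/-- the element of order four -/
structure Q4 (n : Co → Co) : Prop where
  cx : ∀ u ∈ sA, n (xx * u * xx⁻¹) = xx * n u * xx⁻¹
  bar : ∀ u ∈ sA, (n u).c = lam u ∧ lam (n u) = -u.c
  sq : ∀ u ∈ sA, n (n u) = u⁻¹
  cb : ∀ u ∈ sA, n (cj (xd 1)⁻¹ (n (cj (xd 1)⁻¹ (n (cj (xd 1)⁻¹ u))))) = u

/-- the nine candidates -/
def nC (i j : F3) (u : Co) : Co :=
  vv (-u.e + u.f + u.g) (i * u.c + u.e - u.g + u.h) (j * u.c + (1 + i) * u.e - u.g - u.z)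
    ((i - j - 1) * u.c - i * u.e + u.h + u.z) (-(1 + j) * u.c + u.e - i * u.f + (1 - i) * u.g + u.z)
    ((1 + j + i ^ 2) * u.c + (1 - i - j) * u.e + (1 + j) * u.f + (j - i - 1) * u.g + i * u.h - u.z)

/-- what the certificates need -/
structure Ce (YA : Subgroup (Equiv.Perm Co)) : Prop where
  lA : Lg sA YA
  inn : ∀ s, In sA YA (cj s)
  pelA : ∀ α ∈ YA, α ^ 9 = 1 → α ^ 3 = 1

/-! ### Modules -/

/-- the action of `uu a b d` on the coordinates `(c, e, f, g, h, z)` of `A` -/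
def uM (a b d : F3) : Matrix (Fin 6) (Fin 6) F3 :=
  !![1, 0, 0, 0, 0, 0; b, 1, 0, 0, 0, 0; d, a, 1, 0, 0, 0; b ^ 2, 2 * b, 0, 1, 0, 0;
    b * d, a * b + d, b, a, 1, 0; d ^ 2, 2 * a * d, 2 * d, a ^ 2, 2 * a, 1]

/-- the action of `uu a b d` on the coordinates `(e, f, g, h, z)` of `A₅` -/
def uM5 (a b d : F3) : Matrix (Fin 5) (Fin 5) F3 :=
  !![1, 0, 0, 0, 0; a, 1, 0, 0, 0; 2 * b, 0, 1, 0, 0; a * b + d, b, a, 1, 0; 2 * a * d, 2 * d, a ^ 2, 2 * a, 1]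

/-- A finite group `X` of matrices with the Sylow subgroup `{j a b d}` and a strongly embedded subgroup `H`. -/
structure SEm {n : ℕ} (M : F3 → F3 → F3 → Matrix (Fin n) (Fin n) F3) {X : Type} [Group X]
    (ρ : X →* Matrix (Fin n) (Fin n) F3) (j : F3 → F3 → F3 → X) (H : Subgroup X) : Prop where
  inj : Function.Injective ρ
  rj : ∀ a b d, ρ (j a b d) = M a b d
  syl : ¬ 81 ∣ Nat.card X
  ne : H ≠ ⊤
  le : ∀ a b d, j a b d ∈ H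
  ti : ∀ g, g ∉ H → ∀ a b d, g * j a b d * g⁻¹ ∈ H → a = 0 ∧ b = 0 ∧ d = 0

/-- the vector `z` -/
def vz : Fin 6 → F3 := ![0, 0, 0, 0, 0, 1]

/-- the stabilizer of the point `⟨z⟩` lies in `H` -/
def Hz {X : Type} [Group X] (ρ : X →* Matrix (Fin 6) (Fin 6) F3) (H : Subgroup X) : Prop :=
  ∀ g, (ρ g *ᵥ vz = vz ∨ ρ g *ᵥ vz = -vz) → g ∈ H

/-- a statement about all six-dimensional configurations -/
def All6 (f : ∀ (X : Type) [Group X], (X →* Matrix (Fin 6) (Fin 6) F3) → (F3 → F3 → F3 → X) →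
    Subgroup X → Prop) : Prop :=
  ∀ (X : Type) [Group X] [Finite X] (ρ : X →* Matrix (Fin 6) (Fin 6) F3) (j : F3 → F3 → F3 → X)
    (H : Subgroup X), SEm uM ρ j H → f X ρ j H

def JobL5 : Prop := ∀ (X : Type) [Group X] [Finite X] (ρ : X →* Matrix (Fin 5) (Fin 5) F3)
  (j : F3 → F3 → F3 → X) (H : Subgroup X), ¬ SEm uM5 ρ j H

/-- no group on ten points with a regular `3²` on nine points and a reducible two-point stabilizer -/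
def JobPG : Prop := ∀ (G Ω : Type) [Group G] [Finite G] [MulAction G Ω] (o : Ω) (v : F3 → F3 → G),
  Nat.card Ω = 10 → (∀ x y x' y', v x y * v x' y' = v (x + x') (y + y')) → (∀ x y, v x y • o = o) →
  (∀ x y ω, ω ≠ o → v x y • ω = ω → x = 0 ∧ y = 0) → (∃ g : G, g • o ≠ o) → ¬ 27 ∣ Nat.card G →
  (∀ g : G, g • o = o → ∃ x y t, g * v 1 0 * g⁻¹ = v x y ∧ g * v 0 1 * g⁻¹ = v 0 t) → False

/-- the normalizer of `W` normalizes `V₁` -/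
def NW : Prop := All6 fun _ _ ρ j _ => ∀ g,
  (∀ w : Fin 6 → F3, w 0 = 0 → w 1 = 0 → w 2 = 0 → (ρ g *ᵥ w) 0 = 0 ∧ (ρ g *ᵥ w) 1 = 0 ∧ (ρ g *ᵥ w) 2 = 0) →
  ∀ b d, ∃ b' d', g * j 0 b d * g⁻¹ = j 0 b' d'

/-- `d` is conjugate to a noncentral element of `V₁` -/
def Mv1 : Prop := All6 fun _ _ ρ j H => Hz ρ H → ∃ g b d, b ≠ 0 ∧ g * j 0 0 1 * g⁻¹ = j 0 b d

def JobNW : Prop := NW
def JobL6a : Prop := JobPG → NW → Mv1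

/-- the dual configuration -/
def JobDu : Prop := All6 fun X _ ρ j H => ∃ ρ' : X →* Matrix (Fin 6) (Fin 6) F3,
  SEm uM ρ' (fun a b d => j b a (a * b - d)) H ∧
  ∀ g, (ρ g *ᵥ vz = vz ∨ ρ g *ᵥ vz = -vz) → ∀ w : Fin 6 → F3, w 0 = 0 → (ρ' g *ᵥ w) 0 = 0

/-- the stabilizer of the hyperplane lies in `H` -/
def JobHp : Prop := JobL5 → All6 fun _ _ ρ _ H => ∀ g,
  (∀ w : Fin 6 → F3, w 0 = 0 → (ρ g *ᵥ w) 0 = 0) → g ∈ H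

/-- the final count -/
def JobCt : Prop := All6 fun _ _ ρ j H => Hz ρ H → (∃ g b d, b ≠ 0 ∧ g * j 0 0 1 * g⁻¹ = j 0 b d) →
  (∃ g a d, a ≠ 0 ∧ g * j 0 0 1 * g⁻¹ = j a 0 d) → False

/-- no six-dimensional configuration -/
def L6 : Prop := All6 fun _ _ _ _ _ => False

/-- a statement about all saturated systems -/
def AllF (f : Cfsg.FusionSystem (⊤ : Subgroup Co) → Prop) : Prop :=
  ∀ F : Cfsg.FusionSystem (⊤ : Subgroup Co), F.IsSaturated 3 → f F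

def JobNA : Prop := L6 → AllF fun F => ¬ F.IsEssential 3 sA
def JobN0 : Prop := JobL5 → AllF fun F => ∀ l, ¬ F.IsEssential 3 (sE0 l)

/-! ### The essential subgroups -/

def JobL0a : Prop := ∀ E M, Bq 3 zA 0 E M → M ≤ sA → E = sE1 ∨ E = sA ∨ ∃ r s, r ≠ 0 ∧ E = sE4 r s
def JobL0b : Prop := ∀ E M, Bq 3 zA 0 E M → M ≤ sE1
def JobL0c : Prop := ∀ E M, Bq 3 zA 0 E M → M ≤ sE1 → ¬ M ≤ sA → ∃ l, E = sE0 l
def JobL1a : Prop := Ach → ∀ E M, Bq 3 zA 1 E M → (M ≤ sA → E = sE2 ∨ E = sA) ∧ M ≤ sD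
def JobL1b : Prop := ∀ E M, Bq 3 zA 1 E M → M ≤ sD → M ≤ sA
def JobL2 : Prop := (∀ E M, Bq 3 zA 2 E M → E = sE3) ∧ ∀ E M, Bq 3 zA 3 E M → E = sE2

/-! ### Automorphisms -/

def JobA12 : Prop := Ach ∧ A1 ∧ A2 ∧ AD
def JobA3S : Prop := Ach → A3 ∧ AS
def JobTri : Prop := Ach → AS → A1 → A2 → A3 → AD →
  AllF fun F => Tri (aY F ⊤) (aY F sE1) (aY F sE2) (aY F sE3) (aY F sA)

/-- a statement about all automizers -/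
def AllT (f : (_ _ _ _ _ : Subgroup (Equiv.Perm Co)) → Prop) : Prop :=
  ∀ Y0 Y1 Y2 Y3 YA, Tri Y0 Y1 Y2 Y3 YA → f Y0 Y1 Y2 Y3 YA

def JobG : Prop := A1 → A2 → A3 → AllT fun _ Y1 Y2 Y3 _ =>
  ((∃ α ∈ Y1, ¬ Pr α sD) → G1 Y1) ∧ ((∃ α ∈ Y2, ¬ Pr α sD) → G2 Y2) ∧ ((∃ α ∈ Y3, ¬ Pr α sZ4) → G3 Y3)

def JobN1 : Prop := A1 → AllT fun Y0 Y1 _ _ _ => In ⊤ Y0 (sd t1) → In ⊤ Y0 (sd t2) → G1 Y1 →
  ∃ k, In sE1 Y1 (Co.nu1 k)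
def JobN2 : Prop := A2 → AllT fun Y0 _ Y2 _ _ => In ⊤ Y0 (sd t1) → In ⊤ Y0 (sd t2) → G2 Y2 →
  ∃ k, In sE2 Y2 fun u => rho k (rho (-k) u).nu2
def JobN3 : Prop := A3 → AllT fun Y0 _ _ Y3 _ => In ⊤ Y0 (sd t1) → In ⊤ Y0 (sd t2) → G3 Y3 →
  In sE3 Y3 Co.nu3

/-! ### The subgroup `E₄` -/

def JobA4 : Prop := A4 ∧ H1 ∧ ∀ YA, Ce YA → K4 YA → B4 YA
def JobK4 : Prop := Ach → AllF fun F => F.IsEssential 3 (sE4 1 0) → K4 (aY F sA)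
def JobD4 : Prop := Ach → H1 → AllF fun F =>
  (∀ α ∈ aY F (sE4 1 0), In sA (aY F sA) α ∧ Nm α (sE4 1 0)) ∧
  ∀ α : Equiv.Perm Co, Au (sE4 1 0) α → In sA (aY F sA) α → In (sE4 1 0) (aY F (sE4 1 0)) α
def JobQ8 : Prop := A4 → ∀ YA, Ce YA → K4 YA → M4 YA → ∃ n ∈ YA, Q4 n
def JobCand : Prop := ∀ n : Co → Co, Au sA n → Q4 n → ∃ i j, ∀ u ∈ sA, n u = nC i j u
def JobCert : Prop := ∀ YA, Ce YA →
  (∀ i j, In sA YA (nC i j) → i = 0) ∧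
  (∀ j, In sA YA (nC 0 j) → (∃ α ∈ YA, Nm α sE1 ∧ ¬ Nm α sD) ∧ ∃ α ∈ YA, Nm α sE2 ∧ ¬ Nm α sD) ∧
  ∀ k, In sA YA (Co.nu1 k) → In sA YA Co.nu2 → k ≠ 2 ∧ (∀ j, In sA YA (nC 0 j) → j = 1 ∧ k = 1) ∧
    (k = 1 → In sA YA (nC 0 1) ∧ In sA YA fun u => u⁻¹)

/-! ### The models -/

def JobM0 : Prop := ∃ (G : Type) (_ : Group G) (_ : Finite G) (ι : Co →* G), Rl 0 ι ∧
  ∀ g, g * ι (xz 1) * g⁻¹ ≠ (ι (xz 1))⁻¹
def JobM0d : Prop := ∃ (G : Type) (_ : Group G) (_ : Finite G) (ι : Co →* G), Rl 0 ι ∧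
  ∃ g, ∀ u, g * ι u * g⁻¹ = ι (sd t3 u)
def JobM1 : Prop := ∃ (G : Type) (_ : Group G) (_ : Finite G) (ι : Co →* G), Rl 1 ι
def JobSyl : Prop := ∀ T : Sylow 3 Cfsg.Spor.Co1, Nonempty ((T : Subgroup Cfsg.Spor.Co1) ≃* Co)

/-- `Y₀` is standard as soon as it contains `t₁` and `t₂` -/
def JobSt : Prop := AS → AllT fun Y0 _ _ _ _ => In ⊤ Y0 (sd t1) → In ⊤ Y0 (sd t2) →
  ∀ y ∈ Y0, Cg z0 9 y (sd t3) → In ⊤ Y0 (sd t3)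

end H20.C3
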