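import Cfsg.Agent.H56.CySpec
import Cfsg.Agent.H23.Frobenius

/-! Slot FR of tower CY: the Frobenius count in the outer coset. -/

set_option autoImplicit false

namespace H20.CyFR

universe u

theorem job : H56.CY.JobFR.{u} := by
  intro H _ _ S k hi hk
  have : S.Normal := Subgroup.normal_of_index_eq_two hi
  obtain ⟨y, hy⟩ : ∃ y : H, y ∉ S := by
    by_contra h
    push Not at h
    rw [(Subgroup.eq_top_iff' S).2 h, Subgroup.index_top] at hi
    exact absurd hi (by decide)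
  have h0 : Nat.card H ≠ 0 := Nat.card_pos.ne'
  have hN : ∀ (g : H) (n : ℕ), g ^ 2 ^ n = 1 → g ^ 2 ^ (Nat.card H).factorization 2 = 1 := by
    intro g n hg
    obtain ⟨j, -, hj⟩ := (Nat.dvd_prime_pow Nat.prime_two).1 (orderOf_dvd_of_pow_eq_one hg)
    refine orderOf_dvd_iff_pow_eq_one.1 ?_
    rw [hj]
    exact pow_dvd_pow 2 ((Nat.prime_two.pow_dvd_iff_le_factorization h0).1
      (hj ▸ orderOf_dvd_natCard g))
  have h1 := H23.gcd_dvd_card_pow_eq_one_coset S (2 ^ (Nat.card H).factorization 2) y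
  have h2 : 2 ^ k ∣ Nat.gcd (2 ^ (Nat.card H).factorization 2) (Nat.card S) :=
    Nat.dvd_gcd (pow_dvd_pow 2 ((Nat.prime_two.pow_dvd_iff_le_factorization h0).1
      (hk.trans S.card_subgroup_dvd_card))) hk
  refine (h2.trans h1).trans (dvd_of_eq (Nat.card_congr (Equiv.subtypeEquivRight fun g => ?_)))
  have h3 : y⁻¹ * g ∈ S ↔ g ∉ S := by
    rw [Subgroup.mul_mem_iff_of_index_two hi, inv_mem_iff]
    exact ⟨fun h hg => hy (h.2 hg), fun h => ⟨fun h' => absurd h' hy, fun h' => absurd h' h⟩⟩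
  rw [h3]
  exact and_congr_right fun _ => ⟨fun h => ⟨_, h⟩, fun ⟨n, h⟩ => hN g n h⟩

end H20.CyFR
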