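import Cfsg.Agent.H20.DGSpec
import Cfsg.Agent.H9.PBasic
import Cfsg.Agent.H7.SylowIn

/-! Tower DG (S3579): small jobs and the assembly. -/

set_option autoImplicit false

namespace H20.DG

open Subgroup MulAction Cfsg H98

universe u v

theorem jobEL : JobEL.{u, v} := by
  intro G Ω _ _ _ _ r A hr hf hA h
  have := Fact.mk hr
  have key : ∀ ω : Ω, ((stabilizer G ω).subgroupOf A).Normal ∧
      ((stabilizer G ω).subgroupOf A).index ∣ r := by
    intro ω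
    obtain ⟨k, hk⟩ := hA.index ((stabilizer G ω).subgroupOf A)
    have h1 : r ^ k ≤ r ^ 1 := by rw [pow_one, ← hk]; exact h ω
    have h2 := (Nat.pow_le_pow_iff_right hr.one_lt).1 h1
    interval_cases k
    · rw [pow_zero, index_eq_one] at hk
      rw [hk, index_top]
      exact ⟨inferInstance, one_dvd _⟩
    · rw [pow_one] at hk
      exact ⟨H9.normal_of_index_eq hA hk, hk.dvd⟩
  refine ⟨fun a ha b hb => ?_, fun a ha => hf _ fun ω => ?_⟩
  · rw [← mul_inv_eq_one]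
    refine hf _ fun ω => ?_
    obtain ⟨hn, hd⟩ := key ω
    have hc := isCyclic_of_card_dvd_prime (α := A ⧸ (stabilizer G ω).subgroupOf A) hd
    have h1 := hc.isMulCommutative.is_comm.comm
      (QuotientGroup.mk (⟨a, ha⟩ : A)) (QuotientGroup.mk ⟨b, hb⟩)
    rw [← QuotientGroup.mk_mul, ← QuotientGroup.mk_mul, ← mul_inv_eq_one, ← QuotientGroup.mk_inv,
      ← QuotientGroup.mk_mul, QuotientGroup.eq_one_iff] at h1
    exact h1
  · obtain ⟨hn, c, hc⟩ := key ω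
    have h1 := pow_mem (((stabilizer G ω).subgroupOf A).pow_index_mem (⟨a, ha⟩ : A)) c
    rw [← pow_mul, ← hc] at h1
    exact h1

theorem jobSN : JobSN.{u, v} := by
  intro G Ω _ _ _ _ r A hr hA hW hS a b
  have := Fact.mk hr
  obtain ⟨g, hg⟩ := hS a b
  set U := A ⊓ stabilizer G b with hU
  have h1 : A ≤ centralizer (U : Set G) := fun x hx y hy => hA.1 y hy.1 x hx
  have h2 : cj g A ≤ centralizer (U : Set G) := fun x hx y hy =>
    (hA.cj g).1 y (cj_mono g inf_le_left (hg ▸ hy)) x hx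
  obtain ⟨S, hS, hAS⟩ := exists_isSyl_le hA.isPGroup h1
  obtain ⟨c, hc, hle⟩ := hS.exists_cj_le (hA.cj g).isPGroup h2
  rw [cj_cj] at hle
  refine ⟨c * g, cj_eq_self_iff.1 (hW _ S hS.isPGroup hAS hle), ?_⟩
  rw [← cj_cj, hg]
  exact cj_eq_self (centralizer_le_normalizer _ hc)

theorem jobW : JobW.{u, v} := by
  intro hD hW G Ω _ _ _ _ p q P A O h hl hB R hR hE hc x hx
  by_contra hxA
  obtain ⟨b, hb, hne⟩ := hD G Ω p q P A O h hl hB x (hR hx) hxA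
  refine hne (hW G p A x h.pp (h.five hl) hB.el (hB.nor (hR hx)) (hE.2 x hx) ?_ b hb)
  have h1 : A.relIndex R ≤ p := hB.idx ▸ relIndex_le_of_le_right hR (hB.idx ▸ h.pp.ne_zero)
  have h2 : Nat.card ↥(A ⊓ R) * A.relIndex R = Nat.card R := by
    rw [← inf_relIndex_right, mul_comm]
    exact H7.relIndex_mul_card inf_le_right
  have h3 : Nat.card A * p = Nat.card P := by
    rw [← hB.idx, mul_comm]
    exact H7.relIndex_mul_card hB.le
  have h4 : Nat.card ↥(A ⊓ R) * (A ⊓ R).relIndex A = Nat.card A := by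
    rw [mul_comm]
    exact H7.relIndex_mul_card inf_le_left
  have h5 : (centralizer ({x} : Set G)).relIndex A ≤ (A ⊓ R).relIndex A :=
    relIndex_le_of_le_left (fun y hy => mem_centralizer_singleton_iff.2 (hE.1 y hy.2 x hx))
      (index_ne_zero_of_finite)
  refine h5.trans ?_
  have h6 : 0 < Nat.card ↥(A ⊓ R) * p := Nat.mul_pos Nat.card_pos h.pp.pos
  refine Nat.le_of_mul_le_mul_left ?_ h6
  calc Nat.card ↥(A ⊓ R) * p * (A ⊓ R).relIndex A = Nat.card P := by rw [← h3, ← h4]; ring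
    _ ≤ p ^ 2 * (Nat.card ↥(A ⊓ R) * A.relIndex R) := by rw [h2]; exact hc
    _ ≤ p ^ 2 * (Nat.card ↥(A ⊓ R) * p) := by gcongr
    _ = _ := by ring

theorem na_of (n1 : JobNA1.{u, v}) (n2 : JobNA2.{u, v}) (n3 : JobNA3.{u, v}) : NA.{u, v} := by
  intro G Ω _ _ _ _ r s A h hA hO hW hS
  have hE := jobEL G Ω r A h.pp h.faith hA fun ω => (hO ω).le
  have hN := jobSN G Ω r A h.pp hE hW hS
  obtain ⟨a1, a2, a3, a4⟩ := n1 G Ω r s A h hE hO hN
  obtain ⟨y, hy, ⟨k, hk⟩, hm, hf⟩ := n3 G Ω s A h.qq h.q2 h.nonempty hN a1 a2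
  have h1 : y ^ s = 1 := n2 G Ω r s A h hE hO a3 a4 _ k
    (by rw [← pow_mul, mul_comm, pow_mul, hk, one_pow]) (pow_mem hy s) hf
  have h2 : ∀ ω : Ω, y • ω ≠ ω := fun ω e => hm _ ⟨ω, rfl⟩ (by
    simp only
    rw [cj_inf, cj_stab, e, cj_eq_self hy])
  obtain ⟨ω⟩ := h.nonempty
  have := Fact.mk h.qq
  refine h.nd ⟨y, ?_, h2⟩
  rw [orderOf_eq_prime h1 fun e => h2 ω (by rw [e, one_smul])]
  exact h.qq

theorem jd_of (fx : FX.{u, v}) (j2 : JobJ2.{u, v}) (j3 : JobJ3.{u, v}) {G : Type u} {Ω : Type v}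
    [Group G] [Finite G] [Finite Ω] [MulAction G Ω] {p q : ℕ} {P A : Subgroup G} {O : Set Ω}
    (h : Hy G Ω p q) (hC : CA p P A O) (hA : Nat.card A ≠ p) :
    ∃ (Q : Subgroup G) (β β' : Set Ω), JD p A Q β β' := by
  have := Fact.mk h.pp
  obtain ⟨ω, hω⟩ : O.Nonempty :=
    Set.nonempty_of_ncard_ne_zero (hC.cardO ▸ pow_ne_zero 2 h.pp.ne_zero)
  obtain ⟨d, hd⟩ := hC.ne
  obtain ⟨g0, hg0⟩ := h.trans d ω
  have hs := (hC.sylA d hd).cj g0
  rw [cj_stab, hg0] at hs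
  obtain ⟨k, hk, hle⟩ := hs.exists_le_cj (hC.el.isPGroup.to_le (inf_le_left : A ⊓ stabilizer G ω ≤ A))
    inf_le_right
  rw [cj_cj] at hle
  have hg : (k * g0)⁻¹ • ω ∉ O := by
    rw [mul_inv_rev, mul_smul, show k⁻¹ • ω = ω from inv_mem hk, ← hg0, inv_smul_smul]
    exact hd
  obtain ⟨c1, c2, o1, o2, f1, f2⟩ := j2 fx G Ω p q P A O ω _ h hC hA hω hg hle
  obtain ⟨cm, x, hx, y, hy, hne⟩ := j3 fx G Ω p q P A O ω _ h hC hA hω hg hle
  have hωO : ω ∈ Ob A ω := ⟨1, one_mem _, one_smul _ _⟩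
  refine ⟨_, _, _, c1, c2, fun e => hg (e ▸ hωO : ω ∈ Oc A O ω _).2, ?_, o1, o2, f1, f2,
    (y * x)⁻¹ * (x * y), fun e => hne (inv_mul_eq_one.1 e).symm, fun a ha => ?_⟩
  · by_contra c
    rw [Set.not_nonempty_iff_eq_empty, ← Set.disjoint_iff_inter_eq_empty, Set.disjoint_left] at c
    refine hne (inv_mul_eq_one.1 (h.faith _ fun a => ?_)).symm
    rw [mul_smul, inv_smul_eq_iff]
    by_cases h1 : a ∈ Ob A ω
    · have h2 := (o1 a h1 _).2 ⟨x, hx, rfl⟩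
      rw [mul_smul, mul_smul, f2 a h1 (c h1) hy, f2 _ h2 (c h2) hy]
    by_cases h2 : a ∈ Oc A O ω (k * g0)
    · have h3 := (o2 a h2 _).2 ⟨y, hy, rfl⟩
      rw [mul_smul, mul_smul, f1 a h2 h1 hx, f1 _ h3 (fun e => c e h3) hx]
    · exact cm x hx y hy a fun e => e.elim h1 h2
  · rw [mul_smul, inv_smul_eq_iff]
    exact cm x hx y hy a ha

theorem t2_of (t0 : JobT0.{u, v}) (t1 : JobT1.{u, v}) (t2 : JobT2.{u, v}) (t3 : JobT3.{u, v})
    (t4 : JobT4.{u, v}) (t5 : JobT5.{u}) {G : Type u} {Ω : Type v}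
    [Group G] [Finite G] [Finite Ω] [MulAction G Ω] {p q : ℕ} {P A L : Subgroup G} {O : Set Ω}
    (h : Hy G Ω p q) (hC : CY p P A L O)
    (hq : ∀ M : Subgroup G, M.Normal → M ≠ ⊥ → ∀ a b : Ω, ∃ g ∈ M, g • a = b) : T2 G Ω := by
  have := Fintype.ofFinite G
  have : IsPretransitive G Ω := ⟨h.trans⟩
  have := h.nonempty
  have h3 := h.three
  have h3' := h.symm.three
  have : Nontrivial Ω := Finite.one_lt_card_iff_nontrivial.1 (by rw [h.card]; nlinarith)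
  have hc := t0 G Ω p q P A L O h hC
  have h0 : (MM A L).ncard ≠ 0 := by
    rw [hc]
    have : p < p ^ 2 := by nlinarith
    omega
  obtain ⟨he, e, hep, hcl⟩ := t4 G Ω p q P A L O h hC
  have hI := t5 G _ (MM A L) (H30.fixChar G Ω) (II A) (Cj A) p e (2 * p * q) (Cn A).index h.pp
    (Set.finite_of_ncard_ne_zero h0) (Set.nonempty_of_ncard_ne_zero h0)
    (hc ▸ Nat.dvd_sub (dvd_pow_self p two_ne_zero) dvd_rfl) hep ⟨2 * q, by ring⟩
    (by rw [H30.fixChar_one, h.card]) (H30.isCharacter_fixChar Ω)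
    (H30.classInner_fixChar_one_of_transitive Ω) he hcl (t2 G Ω p q P A L O h hC)
    (t1 G Ω p q P A L O h hC) (t3 G Ω p q P A L O h hC hq)
  have h2 := (H30.isIrr_fixChar_sub_one_iff Ω).1 hI
  intro a b c d hab hcd
  exact (is_two_pretransitive_iff.1 h2) hab hcd

theorem main (n1 : JobNA1.{u, v}) (n2 : JobNA2.{u, v}) (n3 : JobNA3.{u, v}) (ns : JobNS.{u, v})
    (nn : JobNN.{u, v}) (b1 : JobB1.{u, v}) (d1 : JobD1.{u, v}) (w0 : JobW0.{u})
    (nf : JobNF.{u, v}) (ca : JobCA.{u, v}) (fx : JobFX.{u, v}) (j2 : JobJ2.{u, v})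
    (j3 : JobJ3.{u, v}) (jo : JobJO.{u, v}) (al : JobAL.{u, v}) (c1 : JobCY1.{u, v})
    (c2 : JobCY2.{u, v}) (t0 : JobT0.{u, v}) (t1 : JobT1.{u, v}) (t2 : JobT2.{u, v})
    (t3 : JobT3.{u, v}) (t4 : JobT4.{u, v}) (t5 : JobT5.{u}) (f0 : JobF0.{u, v})
    (f1 : JobF1.{u, v}) (f2 : JobF2.{u, v}) (f3 : JobF3.{u, v}) (f4 : JobF4.{u, v})
    {G : Type u} {Ω : Type v} [Group G] [Finite G] [Finite Ω] [MulAction G Ω] {p q : ℕ}
    (h : Hy G Ω p q) : False := by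
  wlog hl : q < p generalizing p q
  · exact this h.symm (lt_of_le_of_ne (not_lt.1 hl) h.ne)
  have := Fact.mk h.pp
  have na := na_of n1 n2 n3
  obtain ⟨P, hP⟩ := exists_isSyl p (⊤ : Subgroup G)
  have hq := fun M hM hM' => nn na ns G Ω p q M P h hl hM hM' hP
  by_cases hb : ∃ ω : Ω, p ^ 2 ≤ (stabilizer G ω).relIndex P
  swap
  · push Not at hb
    obtain ⟨a1, a2, a3⟩ := ns G Ω p ⊤ P h.pp h.trans inferInstance hP fun ω =>
      ⟨by rw [relIndex_top_right, h.index]; exact ⟨2 * q, by ring⟩, hb ω⟩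
    exact na G Ω p q P h hP.isPGroup a1 a2 a3
  obtain ⟨A, O, hB⟩ := b1 jobEL G Ω p q P h hl hP hb
  have hW := jobW d1 w0 G Ω p q P A O h hl hB
  by_cases hf : ∃ a : Ω, A ≤ stabilizer G a
  swap
  · push Not at hf
    obtain ⟨a1, a2, a3⟩ := nf G Ω p q P A O h hB hW hf
    exact na G Ω p q A h hB.el.isPGroup a1 a2 a3
  have hC := ca G Ω p q P A O h hB hW hf
  by_cases hA : Nat.card A = p
  swap
  · obtain ⟨Q, β, β', hJ⟩ := jd_of fx j2 j3 h hC hA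
    refine al G Ω p q (β ∪ β') h hq ?_ ?_ (jo G Ω p A Q β β' h.pp h.faith hJ)
    · exact h.pp.one_lt.trans_le (hJ.c1 ▸ Set.ncard_le_ncard Set.subset_union_left)
    · have := Set.ncard_union_le β β'
      rw [hJ.c1, hJ.c2] at this
      omega
  obtain ⟨L, hY⟩ := c2 c1 G Ω p q P A O h hC hA
  have hF := f1 f0 G Ω p q P A L O h hY (t2_of t0 t1 t2 t3 t4 t5 h hY hq)
  obtain ⟨a, b, c, Γ, ha, hb, hab, hc, hcΓ, o1, o2, o3⟩ :=
    f3 G Ω p q A O h hl hF (f2 G Ω p q A O h hF)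
  have hn : p + 1 = 2 * q := by
    have h1 := Set.ncard_add_ncard_compl O
    rw [hF.cardO, hF.cardD, h.card] at h1
    exact Nat.eq_of_mul_eq_mul_left h.pp.pos (by linarith)
  exact f4 G Ω p q A _ c Γ h.pp h.qq h.q2 hn hA
    ((hF.sylA a ha).of_le (le_inf ((hF.fix a).2 ha) ((hF.fix b).2 hb)) inf_le_left)
    (fun g hg => hF.sharp a b ha hb hab g hg.2 hg.1.1 hg.1.2) ((hF.fix c).2 hc) hcΓ o1 o2 o3

end H20.DG
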