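import Cfsg.Agent.H26.DP0ASpec
import Cfsg.Agent.H29.DPFs
import Cfsg.Agent.S0120

/-! S3275, section A: the case without components. -/

set_option autoImplicit false

namespace H20.DP0NC

open Subgroup Cfsg H98 H48.DP H57.DPC H48.DP2 H26.DA
open scoped commutatorElement

universe u

theorem cen_of_omega {G : Type u} [Group G] [Finite G] {U : Subgroup G} (hU : IsPGroup 3 U) {x : G}
    {k : ℕ} (hk : x ^ 2 ^ k = 1) (hx : x ∈ No U) (h : ∀ w ∈ U, w ^ 3 = 1 → x * w = w * x) :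
    ∀ w ∈ U, x * w = w * x := by
  have : Fact (Nat.Prime 3) := ⟨Nat.prime_three⟩
  have h1 := Cfsg.Agent.S0120.result (p := 3) (by norm_num) hU (U.normalizerMonoidHom ⟨x, hx⟩) (by
    have h2 : (U.normalizerMonoidHom ⟨x, hx⟩) ^ 2 ^ k = 1 := by
      rw [← map_pow, show (⟨x, hx⟩ : No U) ^ 2 ^ k = 1 from Subtype.ext hk, map_one]
    exact Nat.Coprime.coprime_dvd_left (orderOf_dvd_of_pow_eq_one h2)
      (Nat.Coprime.pow_left k (by norm_num))) (fun w hw => Subtype.ext (by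
    change x * w * x⁻¹ = w
    rw [h w w.2 (congrArg Subtype.val hw), mul_inv_cancel_right]))
  intro w hw
  have h4 : (U.normalizerMonoidHom ⟨x, hx⟩) ⟨w, hw⟩ = ⟨w, hw⟩ := by rw [h1]; rfl
  have h3 : x * w * x⁻¹ = w := congrArg Subtype.val h4
  rw [mul_inv_eq_iff_eq_mul] at h3
  exact h3

theorem jobNC : JobNC.{u} := by
  intro hN G _ _ P X y z h hK hX hy hz
  have : Fact (Nat.Prime 3) := ⟨Nat.prime_three⟩
  have : Fact (Nat.Prime 2) := ⟨Nat.prime_two⟩
  set R := pCoreOf 3 (⊤ : Subgroup G) with hR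
  have hR3 : IsPGroup 3 R := isPGroup_pCoreOf _
  have hRP : R ≤ P := h.syl.pCoreOf_le
  have hRn : ∀ g : G, g ∈ No R := fun g => self_le_normalizer_pCoreOf _ (mem_top g)
  have y3 : y ^ 3 = 1 := by rw [← h.y3, pow_orderOf_eq_one]
  have fs : ∀ Y : Subgroup G, IsPGroup 2 Y → Y ≤ Ce R → Y = ⊥ := fun Y h2 hc =>
    H29.DPF.jobFs G h.str.nd ⊤ Y h.str.o2 le_top h2 hc fun K hk => absurd hk (hK K)
  have hXR : X ⊓ R = ⊥ :=
    (IsPGroup.disjoint_of_ne 2 3 (by norm_num) X R hX hR3).eq_bot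
  have s1 : ∀ w ∈ R ⊓ C1 y, w ^ 3 = 1 → w ∈ Ce X := by
    intro w hw w3 x hx
    have hE := h.st w w3 (mem_centralizer_singleton_iff.1 hw.2)
      (mem_centralizer_singleton_iff.1 (h.cz (hRP hw.1)))
    have hn : w ∈ No X := sup_le ((zpowers_le (G := G)).2 hy) ((zpowers_le (G := G)).2 hz) hE
    have h1 : x * w * x⁻¹ * w⁻¹ ∈ X ⊓ R := by
      refine mem_inf.2 ⟨?_, R.mul_mem (conj_mem_of_mem_normalizer (hRn x) hw.1) (R.inv_mem hw.1)⟩
      have := mul_mem hx (conj_mem_of_mem_normalizer hn (inv_mem hx))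
      simpa only [mul_assoc] using this
    rw [hXR, mem_bot, mul_inv_eq_one, mul_inv_eq_iff_eq_mul] at h1
    exact h1
  have cz : ∀ g : G, g ∈ centralizer (zpowers y : Set G) ↔ g ∈ C1 y := fun g => by
    rw [mem_centralizer_singleton_iff]
    refine ⟨fun hg => (hg y (mem_zpowers y)).symm, fun hg a ha => ?_⟩
    obtain ⟨k, rfl⟩ := mem_zpowers_iff.1 ha
    exact ((show Commute g y from hg).symm.zpow_left k).eq
  have s2 : X ⊓ C1 y = ⊥ := by
    have hX0 : IsPGroup 2 ↥(X ⊓ C1 y) := hX.to_le inf_le_left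
    refine fs _ hX0 (le_centralizer_iff.1 (thompson_AB (p := 3) (A := zpowers y) hR3
      (isPGroup_zpowers (k := 1) (by rwa [pow_one]))
      (res_eq_self_of_isPGroup_prime Nat.prime_two (by norm_num) hX0) (fun g _ => hRn g)
      (fun g _ => hRn g) ?_ ?_))
    · rw [commutator_eq_bot_iff_le_centralizer, le_centralizer_iff]
      exact fun g hg => (cz g).2 hg.2
    · intro w hw x hx
      obtain ⟨k, hk⟩ := isPGroup_iff_forall.1 hX x hx.1
      refine cen_of_omega (U := R ⊓ C1 y) (hR3.to_le inf_le_left) hk ?_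
        (fun v hv v3 => s1 v hv v3 x hx.1) w ⟨hw.1, (cz w).1 hw.2⟩
      exact le_normalizer_inf (H := C1 y) (fun g _ => hRn g) le_normalizer hx.2
  refine fs X hX ?_
  by_contra c
  obtain ⟨n, hn, n3, hn', -⟩ := hN G X R y hX hR3 y3 hy (hRn y) (fun g _ => hRn g) s2 c
  exact hn' (s1 n hn (by rw [← n3, pow_orderOf_eq_one]))

end H20.DP0NC
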