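import Cfsg.Agent.H44.DP0EPSpec

/-! S3275, chapter EP: Sylow subgroups of `M` and the maximal intersection. -/

set_option autoImplicit false

namespace H20.EP01

open Subgroup Cfsg H98 H48.DP H57.DPC H48.DP2

universe u

theorem jobE0 : H44.EP.E0.{u} := by
  intro G _ _ M Q T hu hT
  have : Fact (Nat.Prime 2) := ⟨Nat.prime_two⟩
  have hN : No T ≤ M := hu.nq T hT.isPGroup (hu.o2 ▸ hT.pCoreOf_le) hT.le
  exact ⟨isSyl_of_isSyl_normalizer
    (hT.of_le (le_inf le_top le_normalizer) (inf_le_right.trans hN)), hN⟩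

theorem jobE1 : H44.EP.E1.{u} := by
  intro G _ _ M Q hu
  have : Fact (Nat.Prime 2) := ⟨Nat.prime_two⟩
  have hs := hu.simple
  have hQ : IsPGroup 2 Q := hu.o2 ▸ isPGroup_pCoreOf M
  have hQM : Q ≤ M := hu.o2 ▸ pCoreOf_le M
  have hM : M ≠ ⊤ := fun e => by
    rcases (normal_of_top_le_normalizer (hu.no.trans e).ge).eq_bot_or_eq_top with e' | e'
    · exact hu.nt e'
    · have h3 := isPGroup_top_iff.1 (e' ▸ hQ)
      rcases (inferInstance : (center G).Normal).eq_bot_or_eq_top with e | e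
      · have := h3.center_nontrivial
        rw [e] at this
        exact not_nontrivial _ this
      · exact hu.nc ⟨⟨fun a b => (mem_center_iff.1 (e ▸ mem_top b : b ∈ center G) a)⟩⟩
  have hE : Even (Nat.card M) := by
    rcases hQ.card_eq_or_dvd with h | h
    · exact absurd (card_eq_one.1 h) hu.nt
    · exact even_iff_two_dvd.2 (h.trans (card_dvd_of_le hQM))
  obtain ⟨g, hg, hev⟩ : ∃ g, g ∉ M ∧ ¬ Odd (Nat.card ↥(M ⊓ cj g M)) := by
    by_contra c
    push Not at c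
    exact hu.h1.se M ⟨hM, hE, c⟩
  rw [Nat.not_odd_iff_even, even_iff_two_dvd] at hev
  obtain ⟨x, hx⟩ := exists_prime_orderOf_dvd_card' (G := ↥(M ⊓ cj g M)) 2 hev
  have hx2 : orderOf (x : G) = 2 := by rwa [Subgroup.orderOf_coe]
  let P : Subgroup G → Prop := fun S => S ≤ M ∧ IsPGroup 2 S ∧ S ≠ ⊥ ∧ ∃ g : G, g ∉ M ∧ cj g S ≤ M
  have h0 : P (zpowers (x : G)) := by
    refine ⟨(zpowers_le (G := G)).2 x.2.1, isPGroup_zpowers (k := 1) ?_, fun e => ?_, g⁻¹,
      fun e => hg (by simpa using inv_mem e), le_cj_iff.1 ((zpowers_le (G := G)).2 x.2.2)⟩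
    · rw [pow_one, ← hx2, pow_orderOf_eq_one]
    · rw [zpowers_eq_bot.1 e, orderOf_one] at hx2
      omega
  obtain ⟨S, hS, hmax⟩ := Set.exists_max_image {S | P S} (fun S => Nat.card S) (Set.toFinite _)
    ⟨zpowers (x : G), h0⟩
  refine ⟨S, hS.1, hS.2.1, hS.2.2.1, hS.2.2.2, fun X a hX hXM hlt ha => ?_⟩
  by_contra c
  have hX0 : X ≠ ⊥ := fun e => by
    rw [e, card_bot] at hlt
    have := Nat.card_pos (α := S)
    omega
  exact absurd (hmax X (show P X from ⟨hXM, hX, hX0, a, c, ha⟩)) (not_le.2 hlt)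

end H20.EP01
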