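import Cfsg.Agent.H14.FESpec
import Cfsg.Agent.S1911
import Cfsg.Agent.H82.Hub
import Cfsg.Agent.H99.BenderB

/-! Tower FE: a standard subgroup of a simple group has an edge. -/

set_option autoImplicit false

namespace H20.FENo

open Cfsg Subgroup MulAction H14 H98 H1.Gold H31.S2 H14.GC H14.FE

universe u

theorem odd_of_NI {G : Type u} [Group G] [Finite G] {Y : Subgroup G} (h : NI Y) :
    Odd (Nat.card Y) := by
  rw [← Nat.not_even_iff_odd, even_iff_two_dvd]
  intro h2
  obtain ⟨x, hx⟩ := exists_prime_orderOf_dvd_card' (G := Y) 2 h2
  exact h x x.2 (inv_iff.2 (by rwa [Subgroup.orderOf_coe]))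

theorem jobNo : JobNo.{u} := by
  intro G _ _ K hS _ hF hN
  obtain ⟨hq, hT, -, -⟩ := hF.std
  have hp := hq.1
  have hnt : Nontrivial K := by
    have := hq.2.toNontrivial
    exact (QuotientGroup.mk_surjective (s := center K)).nontrivial
  have hns : ¬ Group.IsSolvable K := Group.IsPerfect.not_isSolvable K
  have hQ : centralizer (K : Set G) ≠ ⊥ := fun e => by
    have := hT.1
    rw [e, card_bot] at this
    exact absurd this (by decide)
  rcases Cfsg.Agent.S1911.result _ hT (fun g hg => odd_of_NI (hN g hg)) with h | h
  · rcases h.eq_bot_or_eq_top with e | e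
    · exact hQ e
    · refine hns (Group.isSolvable_of_comm fun a b => Subtype.ext ?_)
      have : (b : G) ∈ centralizer (K : Set G) := by rw [e]; exact mem_top _
      exact this a a.2
  · have ht : normalClosure (centralizer (K : Set G) : Set G) = ⊤ := by
      refine (normalClosure_normal.eq_bot_or_eq_top).resolve_left fun e => hQ ?_
      exact le_bot_iff.1 (e ▸ le_normalClosure)
    have hs : IsSimpleGroup (normalClosure (centralizer (K : Set G) : Set G)) := by
      rw [ht]
      exact Subgroup.topEquiv.isSimpleGroup
    have hsol : Group.IsSolvable ((normalizer (centralizer (K : Set G) : Set G)).subgroupOf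
        (normalClosure (centralizer (K : Set G) : Set G))) :=
      H99.se_isSolvable H82.hub h (H99.se_twoRank_of_simple h)
    have hK : ∀ x : K, (x : G) ∈ normalizer (centralizer (K : Set G) : Set G) := fun x =>
      centralizer_le_normalizer _ (fun y hy => (hy x x.2).symm)
    let f : K →* ((normalizer (centralizer (K : Set G) : Set G)).subgroupOf
        (normalClosure (centralizer (K : Set G) : Set G))) :=
      { toFun := fun x => ⟨⟨x, by rw [ht]; exact mem_top _⟩, hK x⟩
        map_one' := rfl
        map_mul' := fun _ _ => rfl }
    refine hns (Group.isSolvable_of_isSolvable_injective (f := f) fun a b e => Subtype.ext ?_)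
    exact congrArg (fun x => (x.1.1 : G)) e

end H20.FENo
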