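import Cfsg.Agent.H20.ITST
import Cfsg.Agent.H1.Coprime2
import Cfsg.Agent.H2.MinNormal
import Cfsg.Agent.H98.Core

/-! Tower IT, slot MX2. -/

set_option autoImplicit false

namespace H20.ITMX2

open Cfsg Subgroup H41.IT H20.ITST
open scoped commutatorElement

universe u

variable {X : Type u} [Group X]

/-- The `l`-elements of the centre of `D`. -/
def zp (l : ℕ) (D : Subgroup X) : Subgroup X where
  carrier := {e | e ∈ D ∧ (∀ x ∈ D, Commute x e) ∧ ∃ k : ℕ, e ^ l ^ k = 1}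
  mul_mem' := by
    rintro a b ⟨a1, a2, i, a3⟩ ⟨b1, b2, j, b3⟩
    refine ⟨mul_mem a1 b1, fun x hx => (a2 x hx).mul_right (b2 x hx), i + j, ?_⟩
    rw [(b2 a a1).mul_pow, pow_add, pow_mul, a3, mul_comm, pow_mul, b3, one_pow, one_pow, mul_one]
  one_mem' := ⟨one_mem _, fun x _ => Commute.one_right x, 0, one_pow _⟩
  inv_mem' := by
    rintro a ⟨a1, a2, i, a3⟩
    exact ⟨inv_mem a1, fun x hx => (a2 x hx).inv_right, i, by rw [inv_pow, a3, inv_one]⟩

instance zp_normal (l : ℕ) (D : Subgroup X) [hD : D.Normal] : (zp l D).Normal := ⟨by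
  rintro a ⟨a1, a2, i, a3⟩ g
  refine ⟨hD.conj_mem a a1 g, fun x hx => ?_, i, by rw [conj_pow, a3]; simp⟩
  have := (a2 _ (hD.conj_mem' x hx g)).eq
  change x * (g * a * g⁻¹) = g * a * g⁻¹ * x
  calc x * (g * a * g⁻¹) = g * (g⁻¹ * x * g * a) * g⁻¹ := by group
    _ = _ := by rw [this]; group⟩

instance zp_comm (l : ℕ) (D : Subgroup X) : IsMulCommutative (zp l D) :=
  ⟨⟨fun a b => Subtype.ext (b.2.2.1 a a.2.1).eq⟩⟩

theorem key [Finite X] {l r d : ℕ} (hl : l.Prime) (hr : r.Prime) (ne : l ≠ r)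
    (hd : l * d ∣ Nat.card X) (pri : ∀ g : X, Pri g → c g = Nat.card X ∨ c g = d) {e : X}
    (pe : PE l e) [(C e).Normal] {M : Subgroup X} [M.Normal] (hM : ¬ M ≤ C e)
    (hp : ∀ m ∈ M, ∃ k : ℕ, m ^ r ^ k ∈ C e) : False := by
  have : Fact l.Prime := ⟨hl⟩
  have : Fact r.Prime := ⟨hr⟩
  have pE : IsPGroup l (zp l (C e)) := H98.isPGroup_iff_forall.2 fun _ h => h.2.2
  have eE : e ∈ zp l (C e) := ⟨mem_C.2 (Commute.refl e), fun x hx => (mem_C.1 hx).symm,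
    pe.imp fun k hk => by rw [← hk, pow_orderOf_eq_one]⟩
  obtain ⟨L, hL⟩ := H98.exists_isSyl r M
  have h0 := H1.centralizer_inf_commutator_eq_bot (A := L) (V := zp l (C e))
    le_normalizer_of_normal (IsPGroup.coprime_card_of_ne r l ne.symm _ _ hL.isPGroup pE)
  have h1 : ⁅zp l (C e), M⁆ ≤ ⁅zp l (C e), L⁆ := commutator_le.2 fun a ha m hm => by
    obtain ⟨t, ht, s, hs, rfl⟩ := hL.exists_mul_res hm
    have := (ha.2.1 s (H98.res_le_of_forall_pow hp hs)).inv_right.eq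
    have e2 : ⁅a, t * s⁆ = ⁅a, t⁆ := by
      calc ⁅a, t * s⁆ = a * t * (s * a⁻¹) * s⁻¹ * t⁻¹ := by rw [commutatorElement_def]; group
        _ = _ := by rw [this, commutatorElement_def]; group
    rw [e2]
    exact commutator_mem_commutator ha ht
  have h2 : ⁅zp l (C e), M⁆ ≤ zp l (C e) := commutator_le_left _ _
  have h3 : ⁅zp l (C e), M⁆ ≠ ⊥ := fun k => hM fun m hm =>
    mem_C.2 (commutatorElement_eq_one_iff_commute.1 (mem_bot.1
      (k ▸ commutator_mem_commutator eE hm)))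
  obtain ⟨P⟩ : Nonempty (Sylow l X) := inferInstance
  have h4 : ⁅zp l (C e), M⁆ ≤ P := (pE.to_le h2).le_sylow_of_normal P
  have := P.isPGroup'.isNilpotent
  obtain ⟨⟨v, ⟨hv, hv'⟩, vP⟩, v1⟩ := ne_bot_iff_exists_ne_one.1
    (H2.inf_inf_centralizer_ne_bot (N := ⁅zp l (C e), M⁆) (K := (P : Subgroup X))
      le_normalizer_of_normal (by rwa [inf_eq_left.2 h4]))
  have h5 : (P : Subgroup X) ≤ C v := fun x hx => mem_C.2 (vP x hx).symm
  obtain ⟨k, hk⟩ := (h2 hv).2.2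
  obtain ⟨j, -, hj⟩ := (Nat.dvd_prime_pow hl).1 (orderOf_dvd_of_pow_eq_one hk)
  rcases pri v ⟨l, j, hl, hj⟩ with k | k
  · have h6 : C v = ⊤ := (card_eq_iff_eq_top _).1 k
    refine v1 (Subtype.ext (mem_bot.1 (h0 ▸ ⟨⟨h2 hv, fun x _ => ?_⟩, h1 hv⟩)))
    exact (mem_C.1 (h6 ▸ mem_top x : x ∈ C v)).symm
  · obtain ⟨n, hn⟩ := card_dvd_of_le h5
    change c v = _ at hn
    rw [← k, hn, ← (P : Subgroup X).index_mul_card, mul_comm (Nat.card P), ← mul_assoc] at hd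
    exact P.not_dvd_index ((Dvd.intro _ rfl).trans (Nat.dvd_of_mul_dvd_mul_right Nat.card_pos hd))

theorem jobMX2 : JobMX2.{u} := by
  intro X _ _ sol d q hq q2 hd pri v h pv ph cv e n
  have nt : C v ≠ ⊤ := fun k => by
    have h1 : d = Nat.card X := by rw [← cv, c, k, card_top]
    have h2 := Nat.le_of_dvd Nat.card_pos hd
    have h3 : 0 < Nat.card X := Nat.card_pos
    have := hq.pos
    rw [h1] at h2
    nlinarith
  have : Nontrivial (X ⧸ C v) := QuotientGroup.nontrivial_iff.2 nt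
  obtain ⟨N, hN, N1, mn⟩ := H2.exists_minimal_normal (X ⧸ C v)
  obtain ⟨r, hr, -, -, pN⟩ := H2.exists_elementaryAbelian_of_minimal_normal N1 mn
  have hM : ¬ N.comap (QuotientGroup.mk' (C v)) ≤ C v := fun k => N1 (eq_bot_iff.2 fun x hx => by
    obtain ⟨x, rfl⟩ := QuotientGroup.mk_surjective x
    exact (QuotientGroup.eq_one_iff x).2 (k hx))
  have hp : ∀ m ∈ N.comap (QuotientGroup.mk' (C v)), ∃ k : ℕ, m ^ r ^ k ∈ C v := fun m hm =>
    (H98.isPGroup_iff_forall.1 pN _ hm).imp fun k hk => (QuotientGroup.eq_one_iff _).1 hk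
  by_cases r2 : r = 2
  · have : (C h).Normal := e ▸ n
    exact key hq hr (r2 ▸ q2) (Dvd.dvd.trans ⟨2, by ring⟩ hd) pri ph (e.symm ▸ hM)
      fun m hm => e.symm ▸ hp m hm
  · exact key Nat.prime_two hr (Ne.symm r2) (Dvd.dvd.trans ⟨q, by ring⟩ hd) pri pv hM hp

end H20.ITMX2
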