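import Cfsg.Agent.H41.ItSpec
import Cfsg.Agent.H24.PiPart

/-! Tower IT, slot ST. -/

set_option autoImplicit false

namespace H20.ITST

open Cfsg Subgroup H41.IT

universe u

variable {G : Type u} [Group G] [Finite G]

omit [Finite G] in
theorem mem_C {g x : G} : x ∈ C g ↔ Commute g x := by
  rw [mem_centralizer_singleton_iff]; exact ⟨fun h => h.symm, fun h => h.symm⟩

theorem c_pos (g : G) : 0 < c g := Nat.card_pos

theorem cp {x y : G} (h : Commute x y) (hc : (orderOf x).Coprime (orderOf y)) :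
    C (x * y) = C x ⊓ C y := H24.centralizer_mul_of_coprime h hc

omit [Finite G] in
theorem mul_ne_one {x y : G} (h1 : x ≠ 1) (hc : (orderOf x).Coprime (orderOf y)) : x * y ≠ 1 :=
  fun e => h1 (orderOf_eq_one_iff.1 (by
    rw [eq_inv_of_mul_eq_one_right e, orderOf_inv] at hc
    exact Nat.coprime_self _ |>.1 hc))

omit [Finite G] in
theorem cop_odd {x y : G} (hx : PE 2 x) (hy : Odd (orderOf y)) :
    (orderOf x).Coprime (orderOf y) := by
  obtain ⟨k, hk⟩ := hx
  rw [hk]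
  exact (Nat.coprime_two_left.2 hy).pow_left k

/-- The odd order elements of `D`, when they are central in `D`. -/
def oddPart (D : Subgroup G) (h : ∀ g ∈ D, Odd (orderOf g) → ∀ x ∈ D, Commute g x) :
    Subgroup G where
  carrier := {g | g ∈ D ∧ Odd (orderOf g)}
  mul_mem' := fun {a b} ha hb => ⟨mul_mem ha.1 hb.1,
    (ha.2.mul hb.2).of_dvd_nat (h a ha.1 ha.2 b hb.1).orderOf_mul_dvd_mul_orderOf⟩
  one_mem' := ⟨one_mem _, by simp⟩
  inv_mem' := fun {a} ha => ⟨inv_mem ha.1, by rw [orderOf_inv]; exact ha.2⟩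

theorem odd_card {K : Subgroup G} (h : ∀ g ∈ K, Odd (orderOf g)) : Odd (Nat.card K) := by
  have : Fact (Nat.Prime 2) := ⟨Nat.prime_two⟩
  refine Nat.not_even_iff_odd.1 fun e => ?_
  obtain ⟨x, hx⟩ := exists_prime_orderOf_dvd_card' 2 e.two_dvd
  have := h x x.2
  rw [orderOf_coe, hx] at this
  exact absurd this (by decide)

theorem exists_odd_pow (g : G) : ∃ k : ℕ, Odd (orderOf (g ^ 2 ^ k)) := by
  obtain ⟨k, m, hm, e⟩ := Nat.exists_eq_two_pow_mul_odd (orderOf_pos g).ne'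
  refine ⟨k, hm.of_dvd_nat (orderOf_dvd_of_pow_eq_one ?_)⟩
  rw [← pow_mul, ← e, pow_orderOf_eq_one]

theorem card_oddPart (D : Subgroup G) (h : ∀ g ∈ D, Odd (orderOf g) → ∀ x ∈ D, Commute g x) :
    ∃ m : ℕ, Nat.card D = 2 ^ m * Nat.card (oddPart D h) := by
  have : Fact (Nat.Prime 2) := ⟨Nat.prime_two⟩
  have le : oddPart D h ≤ D := fun _ hg => hg.1
  have hn : ((oddPart D h).subgroupOf D).Normal := ⟨fun n hn g => by
    have : (g : G) * n * (g : G)⁻¹ = n := by
      rw [← (h n n.2 hn.2 g g.2).eq, mul_inv_cancel_right]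
    change (g : G) * n * (g : G)⁻¹ ∈ oddPart D h
    rw [this]; exact hn⟩
  have hp : IsPGroup 2 (D ⧸ (oddPart D h).subgroupOf D) := fun q => by
    obtain ⟨g, rfl⟩ := QuotientGroup.mk_surjective q
    obtain ⟨k, hk⟩ := exists_odd_pow (g : G)
    exact ⟨k, (QuotientGroup.eq_one_iff (g ^ 2 ^ k)).2 ⟨pow_mem g.2 _, hk⟩⟩
  obtain ⟨m, hm⟩ := IsPGroup.iff_card.1 hp
  refine ⟨m, ?_⟩
  rw [← hm, ← Nat.card_congr (subgroupOfEquivOfLe le).toEquiv]
  exact card_eq_card_quotient_mul_card_subgroup _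

theorem jobST : JobST.{u} := by
  intro ni m1 m2 G _ _ d one t t2 sol ty np v v1 pv vt cv
  have dt : d ∣ c t ∧ d < c t := by
    have := c_pos t
    rcases ty with ⟨j, j0, e⟩ | ⟨⟨q, hq, -, m, e⟩, -⟩
    · refine ⟨⟨_, e.trans (mul_comm _ _)⟩, ?_⟩
      have h1 : 1 < 2 ^ j := Nat.one_lt_two_pow j0.ne'
      have h2 : 0 < d := Nat.pos_of_ne_zero fun z => by rw [z] at e; omega
      nlinarith
    · refine ⟨⟨2 * q * m, by rw [e]; ring⟩, ?_⟩
      have h1 := hq.pos
      have h2 : 0 < d := Nat.pos_of_ne_zero fun z => by rw [z] at e; omega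
      have h3 : 0 < m := Nat.pos_of_ne_zero fun z => by rw [z] at e; omega
      have h4 : 0 < q * m := Nat.mul_pos h1 h3
      nlinarith
  have cen : ∀ g ∈ C v, Odd (orderOf g) → ∀ x ∈ C v, Commute g x := fun g hg og x hx => by
    have co := cop_odd pv og
    have e := cp (mem_C.1 hg) co
    have le : C (v * g) ≤ C v := e ▸ inf_le_left
    have dv : c (v * g) ∣ d := cv ▸ card_dvd_of_le le
    have : c (v * g) = d := ((one t t2).1 _ (mul_ne_one v1 co) (dv.trans dt.1)).resolve_left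
      fun k => by
        have := Nat.le_of_dvd (cv ▸ c_pos v) dv
        omega
    have e2 : C (v * g) = C v := eq_of_le_of_card_ge le (cv.trans this.symm).le
    exact mem_C.1 ((e ▸ e2 ▸ hx : x ∈ C v ⊓ C g).2)
  let v' : C t := ⟨v, mem_C.2 vt.symm⟩
  have pv' : PE 2 v' := pv.imp fun k hk => (orderOf_coe v').symm.trans hk
  have down : ∀ x : C t, Commute v' x → (x : G) ∈ C v := fun x hx =>
    mem_C.2 (congrArg Subtype.val hx.eq)
  rcases ty with ⟨j, -, e⟩ | ⟨⟨q, hq, q2, hd⟩, pri⟩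
  · have le : oddPart (C v) cen ≤ C t := fun g hg =>
      mem_C.2 (cen g hg.1 hg.2 t (mem_C.2 vt)).symm
    have ck : Nat.card ((oddPart (C v) cen).subgroupOf (C t)) = Nat.card (oddPart (C v) cen) :=
      Nat.card_congr (subgroupOfEquivOfLe le).toEquiv
    obtain ⟨m, hm⟩ := card_oddPart (C v) cen
    refine np (ni (C t) sol v' ((oddPart (C v) cen).subgroupOf (C t))
      pv' (fun a ha b hb => Subtype.ext (cen a ha.1 ha.2 b hb.1).eq)
      (ck ▸ odd_card fun g hg => hg.2) ⟨j + m, ?_⟩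
      fun w _ hw k hk => Subtype.ext (cen k hk.1 hk.2 w (down w hw)).symm.eq)
    have h1 := ((oddPart (C v) cen).subgroupOf (C t)).index_mul_card
    change _ = c t at h1
    rw [ck, e, ← cv, c, hm, ← mul_assoc, ← pow_add] at h1
    exact Nat.eq_of_mul_eq_mul_right Nat.card_pos h1
  · have cv' : c v' = d := (pri v' ⟨2, pv'.choose, Nat.prime_two, pv'.choose_spec⟩).resolve_left
      fun k => by
        have h1 : C v' = ⊤ := (card_eq_iff_eq_top _).1 k
        have h2 : C t ≤ C v := fun x hx => down ⟨x, hx⟩ (mem_C.1 (h1 ▸ mem_top _))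
        have := card_le_of_le h2
        change c t ≤ c v at this
        omega
    obtain ⟨n, h, ph, e⟩ := m1 (C t) sol d q hq q2
      (Dvd.dvd.trans ⟨2, by ring⟩ hd) pri v' pv' cv' fun g hg og x hx =>
        Subtype.ext (cen g (down g (mem_C.1 hg)) ((orderOf_coe g).symm ▸ og) x
          (down x (mem_C.1 hx))).eq
    exact m2 (C t) sol d q hq q2 hd pri v' h pv' ph cv' e n

end H20.ITST
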