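import Cfsg.Agent.H53.KUSpec

/-! Tower KU, slots Mk and Dc. -/

set_option autoImplicit false

namespace H20.KUMk

open Cfsg H53.KU H53.WU

section Mk

variable {S : HS} {m : ℕ} {Φ Ψ : Fr S m} {g t : S.G} {a : Fin m → S.Fˣ}

theorem ev_sm (h : Ψ.Sm Φ) (e : Ψ.Ev g a) : Φ.Ev g a := fun i => by
  have k : Ψ.W (i.1 + 1) ≤ (Ψ.W i.1).comap (g.1.toLinearMap - (a i : S.F) • LinearMap.id) := by
    refine Submodule.span_le.2 ?_
    rintro _ ⟨j, hj, rfl⟩
    change g.1 (Ψ.e j) - (a i : S.F) • Ψ.e j ∈ Ψ.W i.1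
    rcases (Nat.lt_succ_iff.1 hj).eq_or_lt with k | k
    · rw [Fin.ext k]; exact e i
    · exact sub_mem (e.map_W _ (Ψ.e_mem_W k)) (Submodule.smul_mem _ _ (Ψ.e_mem_W k))
  rw [← h]
  exact k (h _ ▸ Φ.e_mem_W (Nat.lt_succ_self _))

theorem ev_sw (h : Ψ.Dg t a) (π : Equiv.Perm (Fin m)) (ε : Fin m → Bool) :
    (Ψ.sw π ε).Ev t (sw S.q π ε a) := fun i => by
  have : t.1 ((Ψ.sw π ε).e i) = (sw S.q π ε a i : S.F) • (Ψ.sw π ε).e i := by
    simp only [Fr.sw, sw_apply, eig]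
    split_ifs
    exacts [h.2.1 _, h.1 _]
  rw [this, sub_self]
  exact zero_mem _

theorem ev_map (h : (Φ.map g).Ev t a) : Φ.Ev (g⁻¹ * t * g) a := fun i => by
  have k : (Φ.map g).W i.1 ≤ (Φ.W i.1).comap (g⁻¹ : S.G).1.toLinearMap := by
    refine Submodule.span_le.2 ?_
    rintro _ ⟨j, hj, rfl⟩
    change g.1.symm (g.1 (Φ.e j)) ∈ Φ.W i.1
    rw [LinearEquiv.symm_apply_apply]
    exact Φ.e_mem_W hj
  have := k (h i)
  change g.1.symm (t.1 (g.1 (Φ.e i)) - (a i : S.F) • g.1 (Φ.e i)) ∈ Φ.W i.1 at this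
  rw [map_sub, map_smul, LinearEquiv.symm_apply_apply] at this
  exact this

theorem jobMk : JobCA → JobDg → JobMk := by
  rintro ca dg S m Φ hm l l' ⟨g, hg⟩
  obtain ⟨Ψ, π, ε, s1, s2⟩ := ca m S Φ (Φ.map g) hm
  refine ⟨π, ε, fun a ha => ?_⟩
  obtain ⟨t, ht⟩ := (dg S m Ψ hm).1 a ha
  have e1 : Φ.Ev t a := ev_sm s1 ht.ev
  have e2 : Φ.Ev (g⁻¹ * t * g) (sw S.q π ε a) := ev_map (ev_sm s2 (ev_sw ht π ε))
  have := hg ⟨_, _, e2⟩ ⟨_, _, e1⟩ rfl
  rwa [MonoidHom.comp_apply, MonoidHom.comp_apply, (Φ.ev_spec ⟨_, _, e1⟩).unique e1,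
    (Φ.ev_spec ⟨_, _, e2⟩).unique e2] at this

end Mk

section Dc

variable {G : Type} [Group G] (K : Subgroup G)

/-- The orbit of the coset of `g`. -/
def ob (g : G) : MulAction.orbitRel.Quotient K (G ⧸ K) := Quotient.mk'' (g : G ⧸ K)

theorem ob_eq {g g' : G} : ob K g = ob K g' ↔ DC K K g g' := by
  rw [ob, ob, eq_comm, Quotient.eq'', MulAction.orbitRel_apply]
  constructor
  · rintro ⟨k, hk⟩
    have : ((k * g : G) : G ⧸ K) = g' := hk
    exact ⟨k, k.2, _, QuotientGroup.eq.1 this, by group⟩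
  · rintro ⟨k, hk, p, hp, rfl⟩
    exact ⟨⟨k, hk⟩, (QuotientGroup.mk_mul_of_mem (k * g) hp).symm⟩

theorem ob_surj : Function.Surjective (ob K) := fun x => by
  obtain ⟨y, rfl⟩ := Quotient.mk''_surjective x
  obtain ⟨g, rfl⟩ := QuotientGroup.mk_surjective y
  exact ⟨g, rfl⟩

theorem jobDc : JobDc := by
  intro G _ _ K
  refine ⟨fun h => ⟨fun g => ?_, fun e => ?_⟩, fun a b c h1 h2 h3 h => ?_⟩
  · by_contra n
    have : Function.Injective fun i => ob K (g i) := fun i j e =>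
      by_contra fun ne => n ⟨i, j, ne, (ob_eq K).1 e⟩
    have := Nat.card_le_card_of_injective _ this
    rw [h, Nat.card_fin] at this
    omega
  · have : Subsingleton (MulAction.orbitRel.Quotient K (G ⧸ K)) := ⟨fun x y => by
      obtain ⟨x, rfl⟩ := ob_surj K x
      obtain ⟨y, rfl⟩ := ob_surj K y
      exact (ob_eq K).2 ⟨1, one_mem _, x⁻¹ * y, e ▸ Subgroup.mem_top _, by group⟩⟩
    have := Finite.card_le_one_iff_subsingleton.2 this
    rw [h] at this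
    omega
  · rw [← ob_eq] at h1 h2 h3
    rw [Rk3, ← Set.ncard_univ, Set.ncard_eq_three]
    refine ⟨_, _, _, h1, h2, h3, (Set.eq_univ_of_forall fun x => ?_).symm⟩
    obtain ⟨x, rfl⟩ := ob_surj K x
    simpa only [Set.mem_insert_iff, Set.mem_singleton_iff, eq_comm (a := ob K x), ob_eq] using h x

end Dc

end H20.KUMk
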