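import Cfsg.Agent.H63.KgvSpec
import Cfsg.Agent.H28.CharKer

/-! # Tower KGV, slot JSQ: passing to the quotient by the kernel -/

set_option autoImplicit false

namespace H20.KgvSQ

open Cfsg H28 H63.Kgv Finset

universe u

theorem job : H63.Kgv.JSQ.{u} := by
  intro hf E _ _ χ q hnil hχ h1 hq hχq
  classical
  have hN : (charKer χ).Normal := hχ.charKer_normal
  obtain ⟨η, hη, e⟩ := hχ.exists_quotient (charKer χ) le_rfl
  let π := QuotientGroup.mk' (charKer χ)
  have hπ : Function.Surjective π := QuotientGroup.mk'_surjective _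
  have e' : ∀ g, η (π g) = χ g := e
  have := Fintype.ofFinite (E ⧸ charKer χ)
  have e1 : η 1 = χ 1 := by rw [← e', map_one]
  obtain ⟨H, hH, r, x, φ, hI, hc⟩ := hf (E ⧸ charKer χ) η q inferInstance hη (by rwa [e1])
    (hq.coprime_dvd_right (Subgroup.card_quotient_dvd_card _))
    (fun y => by obtain ⟨y, rfl⟩ := hπ y; rw [← map_pow, e', e', hχq])
    (fun y hy => by
      obtain ⟨y, rfl⟩ := hπ y
      rw [e', e1] at hy
      exact (QuotientGroup.eq_one_iff y).2 (hχ.mem_charKer.2 hy))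
  obtain ⟨x, rfl⟩ := hπ x
  let f : H.comap π →* H := π.subgroupComap H
  have hfc : ∀ (y : E) (h : H.comap π),
      f (MulAut.conjNormal y h) = MulAut.conjNormal (π y) (f h) := fun y h => Subtype.ext (by
    change π (y * h * y⁻¹) = π y * π h * (π y)⁻¹
    rw [map_mul, map_mul, map_inv])
  refine ⟨H.comap π, inferInstance, r, x, fun h => φ (f h), ⟨hI.pr, ?_, hI.out, hI.ch.comp f,
    fun y hy => ?_, fun h => ?_⟩, ?_⟩
  · rw [Subgroup.index_comap_of_surjective _ hπ, hI.idx]
  · rw [← e', hI.off _ hy]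
  · rw [← e']
    refine (hI.on (f h)).trans (sum_congr rfl fun j _ => ?_)
    rw [hfc, map_pow π]
  · rcases hc with ⟨a, b⟩ | ⟨a, b, c, d, h, g⟩
    · exact Or.inl ⟨a, fun h => by beta_reduce; rw [map_pow, b]⟩
    · refine Or.inr ⟨a, fun s t => by beta_reduce; rw [map_mul, b], by beta_reduce; rw [map_one, c],
        fun h => by beta_reduce; rw [map_pow, d, hfc], ?_⟩
      obtain ⟨y, hy⟩ := hπ h
      have hy' : y ∈ H.comap π := by rw [Subgroup.mem_comap, hy]; exact h.2
      have : f ⟨y, hy'⟩ = h := Subtype.ext hy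
      exact ⟨⟨y, hy'⟩, by beta_reduce; rw [map_pow, this]; exact g⟩

end H20.KgvSQ
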