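import Cfsg.Agent.H20.LD4Spec2
import Cfsg.Agent.H20.LD4Tv
import Cfsg.Agent.H20.LD4Mon
import Cfsg.Agent.H31.GHO6
import Cfsg.Agent.H51.GHMain
import Cfsg.Agent.H49.E16F
import Cfsg.Agent.H13.L4All
import Cfsg.Agent.H10.WBFinal
import Cfsg.Agent.H4.TrA
import Cfsg.Agent.H85.U34
import Cfsg.Agent.S0482
import Cfsg.Agent.S0483
import Cfsg.Agent.S1170
import Cfsg.Agent.S2132

/-! LD4 (blueprints/LD4.md): the classification from the jobs. -/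

set_option autoImplicit false

namespace H20.LD

open Cfsg Cfsg.Geo Matrix
open scoped MatrixGroups commutatorElement

universe u

/-- All jobs. -/
structure Jobs : Prop where
  heis : JobHeis.{u, 0}
  e8 : JobE8.{u, 0}
  wt : JobWT.{u, 0}
  real : JobReal.{u, 0}
  a7 : JobA7.{u, 0}
  u42 : JobU42.{u, 0}
  l34 : JobL34.{u, 0}
  mon : JobMon.{u}
  sr4 : JobSR4.{u, 0}
  rf1 : JobRF1.{u, 0}
  rf2 : JobRF2.{u, 0}
  rf3 : JobRF3.{u, 0}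
  rf4 : JobRF4.{u, 0}
  rf5 : JobRF5.{u, 0}
  rf6 : JobRF6.{u, 0}
  rf7 : JobRF7.{u, 0}
  mlin : JobMLin
  muni : JobMUni
  mexc : JobMExc
  mperm : JobMPerm.{0}
  mev1 : JobMEv1
  mev2 : JobMEv2
  ml2 : JobML2
  ml34 : JobML34
  mu42 : JobMU42
  mjr : JobMJR.{0}
  mj2 : JobMJ2.{0}
  tv0 : JobTV0.{u, 0}
  tvs : JobTVS.{u}
  tvl : JobTVL.{u}
  tvu1 : JobTVU1.{u}
  tvu2 : JobTVU2.{u}
  tvu3 : JobTVU3.{u}
  tvu4 : JobTVU4.{u}
  tvk : JobTVK.{u}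
  tvd : JobTVD.{u}
  tvw : JobTVW.{u}
  tvm : JobTVM.{u}

variable {k : Type u} [Field k] {X : Type u} [Group X] {Γ : Type} [Group Γ] {p : ℕ}
  {ρ : X →* G4 k} {π : X →* Γ}

/-- The list. -/
def Concl (p : ℕ) (ρ : X →* G4 k) (Γ : Type) [Group Γ] : Prop :=
  RE ρ ∨ (∃ n, 0 < n ∧ TF (p ^ n) ρ ∧ oL (p ^ n) ≤ Nat.card X) ∨
  (∃ n, 0 < n ∧ TU (p ^ n) ρ ∧ oU (p ^ n) ≤ Nat.card X) ∨
  (Nonempty (Γ ≃* alternatingGroup (Fin 7)) ∧
    (p % 7 = 0 ∨ p % 7 = 1 ∨ p % 7 = 2 ∨ p % 7 = 4 → TF p ρ) ∧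
    (p % 7 = 0 ∨ p % 7 = 3 ∨ p % 7 = 5 ∨ p % 7 = 6 → TU p ρ)) ∨
  ((∃ (K : Type) (_ : Field K) (_ : Fintype K), Fintype.card K = 3 ∧ Nonempty (Γ ≃* PSp 2 K)) ∧
    p ≠ 2 ∧ p ≠ 3 ∧ (p % 3 = 1 → TF p ρ) ∧ (p % 3 = 2 → TU p ρ)) ∨
  ((∃ (K : Type) (_ : Field K) (_ : Fintype K), Fintype.card K = 4 ∧ Nonempty (Γ ≃* PSL(3, K))) ∧
    p = 3 ∧ TU 3 ρ) ∨
  (p ≠ 2 ∧ p ≠ 7 ∧ Nonempty (Γ ≃* SL(3, ZMod 2)))

theorem concl_cb (B : G4 k) : Concl p (cb ρ B) Γ ↔ Concl p ρ Γ := by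
  simp only [Concl, re_cb, tf_cb, tu_cb]

theorem NoRf.trans (h : NoRf ρ π) {Γ' : Type} [Group Γ'] (e : Γ ≃* Γ') :
    NoRf ρ (e.toMonoidHom.comp π) := fun x h1 h2 =>
  h x (fun a => h1 (by simp [a])) (e.injective (by simpa using h2))

variable [IsAlgClosed k] [Finite X] (J : Jobs.{u}) (h : R4 p ρ π)
include J h

namespace Jobs

theorem a7_case (e : Nonempty (Γ ≃* alternatingGroup (Fin 7))) : Concl p ρ Γ :=
  .inr (.inr (.inr (.inl ⟨e, J.a7 p k X Γ ρ π h e (J.real p k X Γ ρ π h).1⟩)))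

theorem l2_case {K : Type} [Field K] [Fintype K] (ho : Odd (Fintype.card K))
    (h5 : 5 ≤ Fintype.card K) (e : Γ ≃* PSL(2, K)) : Concl p ρ Γ := by
  obtain ⟨r, hr⟩ := CharP.exists K
  obtain ⟨n, pr, hn⟩ := FiniteField.card K r
  obtain ⟨a1, a2, a3, a4, a5⟩ := J.ml2 K r ho h5
  have h' := h.trans e
  obtain ⟨b1, b2, -⟩ := J.real p k X _ ρ _ h'
  by_cases c1 : r = p
  · exact .inl (b2 (b1 a1) (c1 ▸ a2))
  by_cases c2 : Fintype.card K % 4 = 1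
  · exact .inl (b2 (b1 a1) (a3 c2 p))
  rw [Nat.odd_iff] at ho
  by_cases c3 : 11 ≤ Fintype.card K
  · refine absurd (a4 c3) ((J.wt p k X _ ρ _ h').1 r pr ?_ c1)
    rintro rfl
    have : 2 ∣ Fintype.card K := hn ▸ dvd_pow_self 2 n.ne_zero
    omega
  have c4 : Fintype.card K = 7 := by omega
  obtain ⟨e7⟩ := a5 c4
  have c5 : r = 7 := (Nat.prime_dvd_prime_iff_eq pr (by norm_num)).1
    (c4 ▸ hn ▸ dvd_pow_self r n.ne_zero)
  iterate 6 right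
  exact ⟨fun c => ((J.real p k X Γ ρ π h).2.2.2 c).false (e.trans e7), fun c => c1 (c5.trans c.symm),
    ⟨e.trans e7⟩⟩

theorem rl_case (hp : p = 2) {Γ' : Type} [Group Γ'] (e : Γ ≃* Γ') (hr : Rl Γ') : Concl p ρ Γ :=
  .inl ((J.real p k X _ ρ _ (h.trans e)).2.2.1 hp hr)

theorem w5 {Γ' : Type} [Group Γ'] (e : Γ ≃* Γ') {r : ℕ} (hr : r.Prime) (h2 : r ≠ 2)
    (hw : W5 Γ' r) : r = p :=
  by_contra fun c => (J.wt p k X _ ρ _ (h.trans e)).1 r hr h2 c hw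

/-! ### characteristic two, no transvections -/

theorem even_case (hp : p = 2) (hT : NoTv ρ) : Concl p ρ Γ := by
  have := h.finite
  have := h.simple
  have c2 : ∀ {Γ' : Type} [Group Γ'], (Γ ≃* Γ') → ¬ C2 Γ' := fun e =>
    ((J.wt p k X _ ρ _ (h.trans e)).2 hp hT).1
  obtain ⟨w1, w2, w3⟩ := (J.wt p k X Γ ρ π h).2 hp hT
  by_cases hab : H10.W.Ab2 Γ
  · rcases H10.W.walterA' Γ h.nab hab with ⟨n, hn, K, _, _, c, ⟨e⟩⟩ | ⟨q, a, b, K, _, _, c, ⟨e⟩⟩ | c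
    · exact J.rl_case h hp e (J.mev1.1 K (c ▸ (Nat.even_pow.2 ⟨even_two, by omega⟩))).1
    · exact J.l2_case h (Nat.odd_iff.2 (by omega)) (by omega) e
    · exact ((J.mjr Γ c).2.elim w1 w2).elim
  obtain ⟨S, hS⟩ := not_forall.1 hab
  rcases Cfsg.Agent.S1170.result S S ⟨le_rfl, fun _ _ _ => id⟩ hS (w3 S) with
    ⟨K, _, _, c, ⟨e⟩⟩ | ⟨K, _, _, q, a, b, c, ⟨e⟩⟩ | c | ⟨K, _, _, c, ⟨e⟩⟩ | ⟨K, _, _, a, c, ⟨e⟩⟩ | c
  · exact J.l2_case h (Nat.odd_iff.2 (by omega)) (by omega) e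
  · exact absurd ((J.mev2 K (a ▸ (Nat.even_pow.2 ⟨b, two_ne_zero⟩))).2.2.1 q a c) (c2 e)
  · obtain ⟨K, _, _, m, a, b, ⟨e⟩⟩ := H4.Tr.isoSz Γ h.nab (H85.suzuki_not_three_dvd c)
    exact J.rl_case h hp e (J.mev1.2 K m a b).1
  · obtain ⟨n, -, hn⟩ := FiniteField.card K 2
    obtain ⟨a1, -, -, a2⟩ := J.mev2 K (hn ▸ (Nat.even_pow.2 ⟨even_two, n.ne_zero⟩))
    obtain ⟨n, n0⟩ := n
    obtain rfl | rfl | n3 : n = 1 ∨ n = 2 ∨ 3 ≤ n := by omega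
    · exact (((J.real p k X Γ ρ π h).2.2.2 hp).false (e.trans (a2 hn).some)).elim
    · have := J.w5 h e Nat.prime_three (by decide) (J.ml34 K hn).w3
      omega
    · exact absurd (a1 (hn ▸ Nat.pow_le_pow_right (n := 2) (i := 3) two_pos n3)) (c2 e)
  · obtain ⟨n, -, hn⟩ := FiniteField.card K 2
    exact absurd ((J.mev2 K (hn ▸ (Nat.even_pow.2 ⟨even_two, n.ne_zero⟩))).2.1 c) (c2 e)
  · exact J.a7_case h c

/-! ### odd characteristic, no transvections -/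

theorem heisR (hT : NoTv ρ) {Γ' : Type} [Group Γ'] (e : Γ ≃* Γ') : ¬ HeisR Γ' :=
  (J.heis p k X _ ρ _ (h.trans e)).2 hT

theorem e87 (hp : p ≠ 2) {Γ' : Type} [Group Γ'] (e : Γ ≃* Γ') : ¬ E87 Γ' :=
  (J.e8 p k X _ ρ _ (h.trans e) hp).1

theorem not_con (hp : p ≠ 2) (hT : NoTv ρ) : ¬ H13.L4.Con Γ := by
  rintro (⟨K, _, _, c, ⟨e⟩⟩ | ⟨K, _, _, q, a, b, ⟨e⟩⟩ | ⟨⟨e⟩⟩ | ⟨⟨e⟩⟩ | ⟨⟨e⟩⟩ | ⟨⟨e⟩⟩ | ⟨⟨e⟩⟩)
  · exact J.heisR h hT e (J.mlin K c).2.1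
  · exact J.heisR h hT e (J.muni K q a b).2.1
  · exact J.e87 h hp e (J.mperm.1 10 (by decide))
  · exact J.e87 h hp e (J.mperm.1 11 (by decide))
  · exact J.e87 h hp e J.mperm.2.1
  · exact J.e87 h hp e J.mperm.2.2.1
  · obtain ⟨t, a, b⟩ := Cfsg.Agent.S2132.result.2
    have := h.finite
    have : Finite Spor.McL := Finite.of_equiv Γ e.toEquiv
    exact J.e87 h hp e (J.mperm.2.2.2.2.2 _ t 8 le_rfl a b)

theorem noRf (hp : p ≠ 2) (hT : NoTv ρ) {S : Sylow 2 Γ} (hS : MS ρ π S) : NoRf ρ π := by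
  by_contra hn
  have := h.finite
  have := h.simple
  have a1 := J.rf1 p k X Γ ρ π h hp S hS hn
  obtain ⟨i, a3⟩ := J.rf3 p k X Γ ρ π h hp S a1 (J.rf2 p k X Γ ρ π h hp S a1)
  obtain ⟨B, a5⟩ := J.rf5 p k X Γ ρ π h hp S i a3 (J.rf4 p k X Γ ρ π h hp S i a3)
  obtain ⟨S', n, a6⟩ := J.rf6 p k X Γ _ π (h.cb B) hp i a5
  obtain ⟨τ, x, t, δ, a7⟩ := J.rf7 p k X Γ _ π (h.cb B) hp S' n a6
  exact J.not_con h hp hT (a7.con H13.L4.jobC3 H13.L4.jobPost H49.E16.jobMat)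

theorem odd_case (hp : p ≠ 2) (hT : NoTv ρ) {S : Sylow 2 Γ} (hS : MS ρ π S) : Concl p ρ Γ := by
  have := h.finite
  have := h.simple
  have hR := J.noRf h hp hT hS
  have y5 : ∀ {K : Type} [Field K] [Fintype K], Fintype.card K = 16 → IsEmpty (Γ ≃* PSU 3 K 4) :=
    fun {K} _ _ c => ⟨fun e => ((J.e8 p k X _ ρ _ (h.trans e) hp).2.2 (hR.trans e)).2
      ((J.mev1.1 K (c ▸ by decide)).2.2.2 c)⟩
  have alt : ∀ n, 8 ≤ n → IsEmpty (Γ ≃* alternatingGroup (Fin n)) := fun n hn =>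
    ⟨fun e => J.e87 h hp e (J.mperm.1 n hn)⟩
  rcases H31.GHO.hyp_of h.nab (J.sr4 p k X Γ ρ π h hp S hS hR) S with c | c | c
  · rcases Cfsg.Agent.S0482.result h.nab c with ⟨K, _, _, a, b, ⟨e⟩⟩ | ⟨K, _, _, a, ⟨e⟩⟩ |
      ⟨K, _, _, q, a, b, ⟨e⟩⟩ | ⟨K, _, _, a, ⟨e⟩⟩ | c | c
    · exact J.l2_case h a b e
    · exact (J.heisR h hT e (J.mlin K a).1).elim
    · exact (J.heisR h hT e (J.muni K q a b).1).elim
    · exact ((y5 a).false e).elim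
    · exact J.a7_case h c
    · obtain ⟨a, b⟩ := J.mperm.2.2.2.2.1 Γ c
      have := J.w5 h (MulEquiv.refl Γ) (by norm_num) (by decide) a
      have := J.w5 h (MulEquiv.refl Γ) Nat.prime_three (by decide) b
      omega
  · exfalso
    rcases c with ⟨K, _, _, a, ⟨e⟩⟩ | ⟨K, _, _, a, ⟨e⟩⟩ | ⟨K, _, _, a, ⟨e⟩⟩ | ⟨K, _, _, a, ⟨e⟩⟩ | c
    · exact J.e87 h hp e ((J.mev1.1 K (a ▸ by decide)).2.1 a)
    · exact (J.e8 p k X _ ρ _ (h.trans e) hp).2.1 ((J.mev1.1 K (a ▸ by decide)).2.2.1 a)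
    · exact J.e87 h hp e ((J.mev1.2 K 1 le_rfl a).2 rfl)
    · exact (y5 a).false e
    · exact J.e87 h hp (MulEquiv.refl Γ) (J.mjr Γ c).1
  rcases H51.GK.main Γ S c with ⟨n, τ, x, t, d⟩ | ⟨n, r, a, s, d⟩ | ⟨n, r, a, s, d⟩ |
    ⟨W, d, x, y, v, b, d⟩ | d | d | d | d | ⟨D₁, D₂, d, d₁, d₂⟩
  · rcases H31.GHO.pm_simple h.nab d with ⟨K, _, _, a, ⟨e⟩⟩ | ⟨⟨e⟩⟩ | ⟨⟨e⟩⟩
    · by_cases c3 : Fintype.card K = 3
      · obtain ⟨z, hz⟩ := J.mu42 K c3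
        obtain ⟨a, b, h1, h2⟩ := hz.heis
        obtain ⟨h3, h4⟩ := (J.heis p k X _ ρ _ (h.trans e)).1 3 a b Nat.prime_three (by decide) h1
        have h5 : 3 ≠ p := fun c => h3 c hT
        obtain ⟨-, x, ω, h6, h7, h8⟩ := h4 h5
        exact .inr (.inr (.inr (.inr (.inl ⟨⟨K, _, _, c3, ⟨e⟩⟩, hp, h5.symm,
          J.u42 p k X _ ρ _ (h.trans e) z hz x ω (h6.trans h2) h7 h8 h5.symm⟩))))
      · exact (J.heisR h hT e ((J.mlin K a).2.2.2 c3)).elim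
    · exact ((alt 8 (by decide)).false e).elim
    · exact ((alt 9 (by decide)).false e).elim
  · exact (J.not_con h hp hT (H13.L4.con_dw d)).elim
  · rcases H31.GHO.hubSW Γ S n r a s d with ⟨K, _, _, c, ⟨e⟩⟩ | ⟨K, _, _, q, a, b, ⟨e⟩⟩
    · exact (J.heisR h hT e (J.mlin K c).2.2.1).elim
    · exact (J.heisR h hT e (J.muni K q a b).2.2).elim
  · rcases H31.GHO.gs_simple d with ⟨K, _, _, c, ⟨e⟩⟩ | ⟨K, _, _, q, a, -, b, ⟨e⟩⟩ | ⟨⟨e⟩⟩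
    · exact (J.heisR h hT e (J.mexc.1 K c)).elim
    · exact (J.heisR h hT e (J.mexc.2 K q a b)).elim
    · exact (J.heisR h hT e J.mperm.2.2.2.1).elim
  · obtain ⟨K, _, _, a, ⟨e⟩⟩ := H31.GHO.l34_of d c
    have b := (J.w5 h e Nat.prime_three (by decide) (J.ml34 K a).w3).symm
    exact .inr (.inr (.inr (.inr (.inr (.inl ⟨⟨K, _, _, a, ⟨e⟩⟩, b,
      J.l34 p k X _ ρ _ (h.trans e) (J.ml34 K a) b⟩)))))
  · obtain ⟨P, e⟩ := H31.GHO.phi_l45 d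
    have : Fact (Nat.Prime 5) := ⟨by norm_num⟩
    exact (J.not_con h hp hT (H13.L4.con_mat H49.E16.jobMat (by rw [ZMod.card]; decide) S P e)).elim
  · obtain ⟨φ, d⟩ := H31.GHO.exists_md_of d c.syl
    obtain ⟨a, b⟩ := d.cover (H9.Ly.hub_of_jobs H31.GHO.dwJobs) h.nab
    exact (J.e87 h hp (MulEquiv.refl Γ) (J.mperm.2.2.2.2.2 Γ _ 11 (by decide) a b)).elim
  · exact (((J.e8 p k X Γ ρ π h hp).2.2 hR).1 (J.mj2 Γ d)).elim
  · exact (H31.GHO.not_prod c d d₁ d₂).elim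

/-! ### transvections -/

omit J h in
theorem finite_axes (G : Subgroup (G4 k)) [Finite G] {u : V4 k} (hu : u ≠ 0) :
    {χ | TV G u χ}.Finite :=
  Finite.of_injective (fun χ : {χ | TV G u χ} => (⟨_, TV.mem χ.2⟩ : G)) fun a b e => by
    have := congrArg (fun g : G => (g : G4 k).val) e
    simp only [tv_val, add_right_inj] at this
    obtain ⟨i, hi⟩ := Function.ne_iff.1 hu
    exact Subtype.ext (funext fun j => mul_left_cancel₀ hi (congrFun (congrFun this i) j))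

omit J h in
theorem finite_centres (G : Subgroup (G4 k)) [Finite G] {χ : V4 k} (hu : χ ≠ 0) :
    {u | TV G u χ}.Finite :=
  Finite.of_injective (fun u : {u | TV G u χ} => (⟨_, TV.mem u.2⟩ : G)) fun a b e => by
    have := congrArg (fun g : G => (g : G4 k).val) e
    simp only [tv_val, add_right_inj] at this
    obtain ⟨i, hi⟩ := Function.ne_iff.1 hu
    exact Subtype.ext (funext fun j => mul_right_cancel₀ hi (congrFun (congrFun this j) i))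

theorem tv_case (hT : ¬ NoTv ρ) : Concl p ρ Γ := by
  obtain ⟨gen, sw, K, _, ts, hl⟩ := J.tv0 p k X Γ ρ π h hT
  have := h.char
  have := h.simple
  have e1 : X ≃* ρ.range := MonoidHom.ofInjective h.inj
  have : Finite ρ.range := Finite.of_equiv X e1.toEquiv
  have hc : Nat.card ρ.range = Nat.card X := (Nat.card_congr e1.toEquiv).symm
  obtain ⟨n, n0, hn⟩ : ∃ n, 0 < n ∧ Nat.card K = p ^ n := by
    have := Fintype.ofFinite K
    obtain ⟨n, -, hn⟩ := FiniteField.card K p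
    exact ⟨n, n.2, by rw [Nat.card_eq_fintype_card, hn]⟩
  obtain ⟨s1, s2⟩ := J.tvs k ρ.range K gen ts
  by_cases nd : HasND (TV ρ.range)
  swap
  · exact .inl fun x => by simpa only [tr, map_inv] using s1 nd _ ⟨x, rfl⟩
  have e2 : p = 2 → Nonempty (ρ.range ≃* Γ) := fun hp =>
    ⟨e1.symm.trans (MulEquiv.ofBijective π ⟨h.inj_of_two hp, h.surj⟩)⟩
  by_cases lam : Lam K (TV ρ.range)
  · by_cases sy : Sym (TV ρ.range)
    · obtain ⟨-, un⟩ := J.tvu1 k ρ.range K gen ts lam sy (s2 sy nd)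
      obtain ⟨t1, B, uf⟩ := J.tvu2 k ρ.range K gen ts sy nd un
      refine .inr (.inr (.inl ⟨n, n0, fun x => ?_, ?_⟩))
      · simpa only [tr, map_inv, hn] using t1 _ ⟨x, rfl⟩
      rw [← hn, ← hc]
      by_cases h3 : 3 ≤ Nat.card K
      · exact J.tvu3 k ρ.range K gen ts nd B uf h3
      have h2 : Nat.card K = 2 := by have := Finite.one_lt_card (α := K); omega
      have hp : p = 2 := (Nat.prime_dvd_prime_iff_eq h.prime Nat.prime_two).1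
        (h2 ▸ hn ▸ dvd_pow_self p n0.ne')
      obtain ⟨e⟩ := e2 hp
      rw [h2]
      refine J.tvu4 k ρ.range K gen ts (h.two_eq hp) (fun x hx => ?_) e.isSimpleGroup
        (fun c => h.nab ⟨⟨fun a b => e.symm.injective (by rw [map_mul, map_mul, c.1.1])⟩⟩) sy lam
      obtain ⟨y, -, hy⟩ := (Nat.card_eq_two_iff' (0 : K)).1 h2
      by_contra! c
      exact c.2 (congrArg Subtype.val ((hy ⟨x, hx⟩ fun a => c.1 (congrArg Subtype.val a)).trans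
        (hy 1 one_ne_zero).symm))
    · obtain ⟨t1, t2⟩ := J.tvl k ρ.range K gen ts lam sy
      refine .inr (.inl ⟨n, n0, fun x => ?_, by rwa [← hn, ← hc]⟩)
      have := Fintype.ofFinite K
      have := congrArg Subtype.val (FiniteField.pow_card (⟨_, t1 _ ⟨x, rfl⟩⟩ : K))
      rwa [← Nat.card_eq_fintype_card, hn] at this
  obtain ⟨hp, two⟩ := hl.resolve_left lam
  have h2 := h.two_eq hp
  obtain ⟨k1, k2⟩ := J.tvk k K _ h2 two ts (sw hp)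
  obtain ⟨k3, k4⟩ := J.tvk k K _ h2 two ts.swap ((sw hp).swap ts.toTB)
  obtain ⟨e⟩ := e2 hp
  by_cases sy : Sym (TV ρ.range)
  · have nf : NoFat (TV ρ.range) := ⟨k2 (fun u hu => finite_axes _ hu) sy,
      fun u w φ a b c d => k4 (fun u hu => finite_centres _ hu) sy.swap φ u w a b d c⟩
    refine absurd (J.tvm k ρ.range K gen ts h2 two (sw hp) sy nf (s2 sy nd)
      (J.tvw k ρ.range K gen ts h2 two sy nf) ?_) lam
    rw [MonoidHom.range_eq_map, ← Subgroup.map_commutator, ← commutator_def, h.perf]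
  obtain ⟨S, hS⟩ := J.tvd k ρ.range K gen ts h2 two (sw hp) k1 k3 sy lam
  have := e.isSimpleGroup
  have hn : ¬ IsMulCommutative ρ.range :=
    fun c => h.nab ⟨⟨fun a b => e.symm.injective (by rw [map_mul, map_mul, c.1.1])⟩⟩
  have : Group.IsPerfect ρ.range := ⟨H87.commutator_eq_top hn⟩
  have e3 : Γ ≃* ρ.range ⧸ oddCore ρ.range := e.symm.trans
    ((QuotientGroup.quotientMulEquivOfEq (H31.GHO.core_bot hn)).trans QuotientGroup.quotientBot).symm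
  rcases Cfsg.Agent.S0483.result S 4 (by decide) hS with ⟨F, _, _, a, b, ⟨f⟩⟩ | ⟨⟨f⟩⟩
  · exact J.l2_case h a (by rw [Nat.odd_iff] at a; omega) (e3.trans f)
  · exact J.a7_case h ⟨e3.trans f⟩

/-- The classification. -/
theorem core : Concl p ρ Γ := by
  by_cases hT : NoTv ρ
  swap
  · exact J.tv_case h hT
  by_cases hp : p = 2
  · exact J.even_case h hp hT
  have := h.finite
  let S : Sylow 2 Γ := default
  obtain ⟨B, hB⟩ := J.mon k ((S : Subgroup Γ).comap π) (ρ.comp (Subgroup.subtype _)) (h.two_ne hp)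
    (h.isPGroup_comap S.isPGroup')
  exact (concl_cb B).1 (J.odd_case (h.cb B) hp ((noTv_cb B).2 hT) (S := S) fun x hx => hB ⟨x, hx⟩)

end Jobs

end H20.LD
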