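import Cfsg.Agent.H34.R5Spec
import Cfsg.Agent.H7.NormalJ
import Cfsg.Agent.S1242
import Cfsg.Agent.S1458
import Cfsg.Agent.S0205

/-! Tower R5 (S3194): slots M2 and M3. -/

set_option autoImplicit false

namespace H20.R5M
open Cfsg Subgroup

universe u

/-- `Z(J(P))` computed inside an overgroup `X` of `P` -/
theorem zj_subgroupOf {G : Type*} [Group G] (s : ℕ) {P X : Subgroup G} (h : P ≤ X) :
    (centerThompsonOf s P).subgroupOf X = centerThompsonOf s (P.subgroupOf X) := by
  have hJ : (thompsonSubgroupOf s (P.subgroupOf X)).map X.subtype = thompsonSubgroupOf s P := by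
    rw [H12.map_thompsonSubgroupOf _ _ X.subtype_injective, map_subgroupOf_eq_of_le h]
  have hm : ∀ x : X, x ∈ thompsonSubgroupOf s (P.subgroupOf X) ↔
      (x : G) ∈ thompsonSubgroupOf s P := by
    intro x
    rw [← hJ]
    exact (mem_map_iff_mem X.subtype_injective).symm
  ext x
  simp only [centerThompsonOf, mem_subgroupOf, mem_inf, mem_centralizer_iff, SetLike.mem_coe, hm]
  refine and_congr_right fun _ => ⟨fun H y hy => Subtype.ext (H y hy), fun H y hy => ?_⟩
  have hyX : y ∈ X := h (H12.thompsonSubgroupOf_le P hy)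
  exact congrArg Subtype.val (H ⟨y, hyX⟩ hy)

theorem jobM3 : H34.R5.JobM3.{u} := by
  intro G _ _ s _ P
  refine ⟨H7.centerThompsonOf_le _,
    le_normalizer.trans (H7.normalizer_le_normalizer_centerThompsonOf _), fun X hPX hodd hcore => ?_⟩
  have := Cfsg.Agent.S0205.result hodd
  have h1 := Cfsg.Agent.S1458.result hodd s (P.subtype hPX)
  rw [hcore, sup_bot_eq, Sylow.coe_subtype, ← zj_subgroupOf s hPX] at h1
  exact (normal_subgroupOf_iff_le_normalizer ((H7.centerThompsonOf_le _).trans hPX)).1 h1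

/-- an `s`-element of `M` is conjugate in `M` into `P` -/
theorem conj_into {G : Type*} [Group G] [Finite G] {s : ℕ} [Fact s.Prime] (P : Sylow s G)
    {M : Subgroup G} (hPM : (P : Subgroup G) ≤ M) {g : G} (hg : g ∈ M) {k : ℕ}
    (hk : orderOf g = s ^ k) : ∃ m ∈ M, m * g * m⁻¹ ∈ (P : Subgroup G) := by
  have hp : IsPGroup s (zpowers (⟨g, hg⟩ : M)) := by
    refine IsPGroup.of_card (n := k) ?_
    rw [Nat.card_zpowers, ← hk, ← orderOf_coe]
  obtain ⟨Q, hQ⟩ := hp.exists_le_sylow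
  obtain ⟨m, hm⟩ := MulAction.exists_smul_eq M Q (P.subtype hPM)
  refine ⟨m, m.2, ?_⟩
  have h1 : m * (⟨g, hg⟩ : M) * m⁻¹ ∈ ((m • Q : Sylow s M) : Subgroup M) := by
    rw [Sylow.coe_subgroup_smul]
    exact ⟨⟨g, hg⟩, hQ (mem_zpowers _), rfl⟩
  rw [hm, Sylow.coe_subtype, mem_subgroupOf] at h1
  simpa using h1

theorem jobM2 : H34.R5.JobM2.{u} := by
  intro G _ _ s hs P M hG hPM hfus K k hK hidx
  have hi : Nat.Coprime s M.index :=
    (Nat.Prime.coprime_iff_not_dvd hs.1).2 fun h =>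
      P.not_dvd_index (h.trans (index_dvd_of_le hPM))
  have h1 := Cfsg.Agent.S1242.result (p := s) M hi (by
    rintro g hg ⟨j, hj⟩ a ha
    obtain ⟨m, hm, h2⟩ := conj_into P hPM hg hj
    have hj' : orderOf (a * g * a⁻¹) = s ^ j := by
      rw [← hj]
      exact (MulAut.conj a).orderOf_eq g
    obtain ⟨m', hm', h3⟩ := conj_into P hPM ha hj'
    obtain ⟨n, hn, h4⟩ := hfus _ h2 (m' * a * m⁻¹) (by
      have : m' * a * m⁻¹ * (m * g * m⁻¹) * (m' * a * m⁻¹)⁻¹ = m' * (a * g * a⁻¹) * m'⁻¹ := by group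
      rw [this]; exact h3)
    refine ⟨m'⁻¹ * n * m, M.mul_mem (M.mul_mem (M.inv_mem hm') hn) hm, ?_⟩
    calc m'⁻¹ * n * m * g * (m'⁻¹ * n * m)⁻¹ = m'⁻¹ * (n * (m * g * m⁻¹) * n⁻¹) * m' := by group
      _ = a * g * a⁻¹ := by rw [h4]; group)
  rw [hG, sup_top_eq, top_inf_eq] at h1
  have h2 : pResidual s M ⊔ _root_.commutator M = ⊤ := by
    apply map_injective M.subtype_injective
    rw [← h1, ← MonoidHom.range_eq_map, range_subtype]
  have hQ : IsPGroup s (M ⧸ K) := IsPGroup.of_card (n := k) (by rw [← hidx]; rfl)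
  have h3 : pResidual s M ≤ K := by
    rw [pResidual, closure_le]
    intro g hg
    obtain ⟨j, hj⟩ := IsPGroup.iff_orderOf.1 hQ (QuotientGroup.mk' K g)
    have h4 : orderOf (QuotientGroup.mk' K g) ∣ orderOf g := orderOf_map_dvd _ _
    have h5 : orderOf (QuotientGroup.mk' K g) = 1 :=
      Nat.eq_one_of_dvd_coprimes (Nat.Coprime.pow_right j hg) h4 (hj ▸ dvd_rfl)
    exact (QuotientGroup.eq_one_iff g).1 (orderOf_eq_one_iff.1 h5)
  have h4 : _root_.commutator (M ⧸ K) = ⊤ := by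
    have h5 := congrArg (map (QuotientGroup.mk' K)) h2
    rw [Subgroup.map_sup, (Subgroup.map_eq_bot_iff _).2 (by rwa [QuotientGroup.ker_mk']), bot_sup_eq,
      map_top_of_surjective _ (QuotientGroup.mk'_surjective K), _root_.commutator_def,
      map_commutator, map_top_of_surjective _ (QuotientGroup.mk'_surjective K)] at h5
    exact h5
  have := hQ.isNilpotent
  by_contra hne
  have : Nontrivial (M ⧸ K) := QuotientGroup.nontrivial_iff.2 hne
  exact (Group.IsSolvable.commutator_lt_top_of_nontrivial (M ⧸ K)).ne h4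

end H20.R5M
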