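/- S3101, chapter R7, slot A6: automorphisms of `Ω₆(q)` by counting. -/
import Cfsg.Agent.H27.R7Spec
import Cfsg.Agent.H59.OWGA
import Cfsg.Agent.H56.OutStd
import Cfsg.Agent.S0302
import Cfsg.Agent.S0303
import Cfsg.Agent.S2601
import Cfsg.Agent.S2603

set_option autoImplicit false
set_option linter.unusedSectionVars false

namespace H20.R7

open H56 H58 H12.OW H59.OW QuadraticMap Module H27.R7

variable {F V : Type} [Field F] [AddCommGroup V] [Module F V] {Q : QuadraticForm F V}

theorem au_congr {W : Type} [AddCommGroup W] [Module F W] {P : QuadraticForm F W}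
    (g : W ≃ₗ[F] V) (hg : ∀ x, Q (g x) = P x) (h : Au P) : Au Q := fun β => by
  have s := isSemisim_of_linearEquiv (Q := P) (P := Q) g one_ne_zero fun v => by rw [hg, one_mul]
  let c : Om P ≃* Om Q := H55.commutatorCongr s.conj
  have hc : ∀ y : Om P, ((c y : Om Q) : O Q) = s.conj y := fun _ => rfl
  obtain ⟨T, hT⟩ := h ((c.trans β).trans c.symm)
  let T' : Gam Q := ⟨(g.symm.toAddEquiv.trans T.toEquiv).trans g.toAddEquiv, T.σ, T.c,
    fun a v => by
      change g (T (g.symm (a • v))) = T.σ a • g (T (g.symm v))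
      rw [map_smul, T.map_smul, map_smul],
    fun v => by
      change Q (g (T (g.symm v))) = _
      rw [hg, T.map_Q, ← hg, g.apply_symm_apply]⟩
  refine ⟨T', fun x => ?_⟩
  obtain ⟨y, rfl⟩ := c.surjective x
  have e : β (c y) = c (((c.trans β).trans c.symm) y) := by simp
  rw [e, hc, hT, hc]
  refine O.ext fun v => ?_
  change g (T ((y : O P) (T⁻¹ (g.symm v)))) =
    g (T (g.symm (g ((y : O P) (g.symm (g (T⁻¹ (g.symm v))))))))
  rw [g.symm_apply_apply, g.symm_apply_apply]

variable [Finite F] [FiniteDimensional F V]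

theorem au_of_surj (hQ : Q.polarBilin.Nondegenerate) (h2 : (2 : F) ≠ 0) (h5 : 5 ≤ finrank F V)
    (hs : Function.Surjective (rho Q)) : Au Q := fun β => by
  obtain ⟨p, hp⟩ := CharP.exists F
  have := Fact.mk (CharP.char_is_prime F p)
  obtain ⟨T, hT⟩ := hs (H55.quotCenterCongr β)
  have hE : ¬ IsExc Q := not_isExc_of_finrank (by omega)
  let K : Subgroup (commutator (O Q)) := ((commutator (O Q)).subtype.comp β.toMonoidHom).eqLocus
    ((Gam.conjO Q T).toMonoidHom.comp (commutator (O Q)).subtype)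
  have hK : EG Q ≤ K.map (commutator (O Q)).subtype := EG_le fun a b _ _ _ => by
    let x : commutator (O Q) := ⟨_, eich_mem_commutator hQ hE a b⟩
    have px : x ^ p = 1 := Subtype.ext (eich_pow_char p a b)
    refine ⟨x, eq_of_pow_char p (k := 1) ?_ ?_ ?_, rfl⟩
    · rw [pow_one, ← map_pow, px, map_one]
    · rw [pow_one, ← map_pow, px, map_one]
    · have e := (MulEquiv.congr_fun hT (QuotientGroup.mk x)).symm
      rw [rho_mk] at e
      simp only [inv_mul_eq_iff_eq_mul, mul_one]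
      exact (pOm_mk_eq_iff hQ (by omega) (β x) _).1 e
  refine ⟨T, fun x => ?_⟩
  obtain ⟨y, hy, e⟩ := hK ((commutator_eq_EG_fin hQ hE (by omega)).le x.2)
  obtain rfl : y = x := Subtype.ext e
  exact hy

theorem surj_of_card (hQ : Q.polarBilin.Nondegenerate) (h5 : 5 ≤ finrank F V)
    (hc : Nat.card (Cfsg.Out (POm Q)) ≤ Nat.card (GN Q)) : Function.Surjective (rho Q) := fun α => by
  have : Finite V := Module.finite_of_finite F
  have : Finite (MulAut (POm Q)) := Finite.of_injective _ (DFunLike.coe_injective (F := MulAut (POm Q)))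
  have : Finite (Cfsg.Out (POm Q)) := Finite.of_surjective _ QuotientGroup.mk_surjective
  obtain ⟨x, hx⟩ := ((outHom_injective hQ h5).bijective_of_nat_card_le hc).2 (QuotientGroup.mk α)
  obtain ⟨T, rfl⟩ := QuotientGroup.mk_surjective x
  rw [outHom_mk] at hx
  obtain ⟨g, hg⟩ := QuotientGroup.eq.1 hx
  obtain ⟨g, rfl⟩ := QuotientGroup.mk_surjective g
  exact ⟨T * Gam.ofO Q g, by rw [map_mul, rho_ofO, hg, mul_inv_cancel_left]⟩

theorem card_le8 {X A : Type*} [Group X] [Group A] (φ : X →* A) (hφ : Function.Surjective φ)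
    {f n : ℕ} (hA : Nat.card A = 2 * f) (hk : Nat.card φ.ker = Nat.gcd 4 n) : Nat.card X ≤ 8 * f := by
  rw [card_eq_ker_mul φ hφ, hA, hk]
  have := Nat.gcd_le_left n (show 0 < 4 by norm_num)
  nlinarith

theorem jobA6 : JobA6 := by
  intro F _ _ h2 V _ _ _ Q hQ h6 hN
  have := Fintype.ofFinite F
  obtain ⟨p, hp⟩ := CharP.exists F
  have := Fact.mk (CharP.char_is_prime F p)
  obtain ⟨⟨f, f0⟩, -, hF⟩ := FiniteField.card F p
  simp only [PNat.mk_coe] at hF
  have p2 : p ≠ 2 := mt (H56.two_eq_zero_iff_of_card hF).2 h2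
  have hodd := odd_card_of_two_ne_zero h2
  have d8 : Nat.card (DihedralGroup 4 × Multiplicative (ZMod f)) = 8 * f := by
    rw [Nat.card_prod, DihedralGroup.nat_card, Nat.card_congr Multiplicative.toAdd, Nat.card_zmod]
  obtain ⟨a, b, hab⟩ := exists_aniso_pair F
  rcases equiv_plus_or_minus_succ hQ (m := 2) h6 hab with ⟨g, hg⟩ | ⟨g, hg⟩
  · have s := isSemisim_of_linearEquiv (Q := qPlus 3 F) (P := Q) g one_ne_zero fun v => by
      rw [hg, one_mul]
    rw [← s.conj_negOne, s.conj_mem_commutator, negOne_mem_commutator_qPlus hodd,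
      pow_mod_four_eq_one_iff hodd, hF] at hN
    have n5 : 5 ≤ finrank F (Fin 3 ⊕ Fin 3 → F) := by simp
    refine au_congr g hg (au_of_surj (qPlus_nondeg 3 F) h2 n5 (surj_of_card (qPlus_nondeg 3 F) n5 ?_))
    obtain ⟨e⟩ := GN_qPlus_dihedral hF p2 (m := 3) (by norm_num) hN
    obtain ⟨e'⟩ := Cfsg.Agent.S0302.result (F := F)
    obtain ⟨φ, hφ, -, hk⟩ := Cfsg.Agent.S2601.result (n := 4) f0 hF (by norm_num)
    rw [Nat.card_congr e.toEquiv, d8, Nat.card_congr
      (outCongr ((pOmegaEquiv (qPlus 3 F) (coe_qPlus 3 F)).symm.trans e')).toEquiv]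
    exact card_le8 φ hφ (by
      rw [Nat.card_congr Multiplicative.toAdd, Nat.card_prod, Nat.card_zmod, Nat.card_zmod, mul_comm]) hk
  · have s := isSemisim_of_linearEquiv (Q := qMinus 2 F a b) (P := Q) g one_ne_zero fun v => by
      rw [hg, one_mul]
    rw [← s.conj_negOne, s.conj_mem_commutator, negOne_mem_qMinus_iff hF hab p2] at hN
    have n5 : 5 ≤ finrank F ((Fin 2 ⊕ Fin 2) ⊕ Fin 2 → F) := by simp
    refine au_congr g hg (au_of_surj (qMinus_nondeg 2 hab) h2 n5
      (surj_of_card (qMinus_nondeg 2 hab) n5 ?_))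
    obtain ⟨e⟩ := GN_qMinus_dihedral hF hab p2 (m := 2) hN
    have := Fintype.ofFinite (GaloisField p (f * 2))
    have hK : Fintype.card (GaloisField p (f * 2)) = (p ^ f) ^ 2 := by
      rw [← Nat.card_eq_fintype_card, GaloisField.card p _ (by omega), pow_mul]
    obtain ⟨e'⟩ := Cfsg.Agent.S0303.result hF hK a b hab
    obtain ⟨φ, hφ, -, hk⟩ := Cfsg.Agent.S2603.result (n := 4) f0 rfl hK (by norm_num) (by simp)
    rw [Nat.card_congr e.toEquiv, d8, Nat.card_congr
      (outCongr ((pOmegaEquiv (qMinus 2 F a b) (coe_qMinus 2 F a b)).symm.trans e')).toEquiv]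
    exact card_le8 φ hφ (by rw [Nat.card_congr Multiplicative.toAdd, Nat.card_zmod]) hk

end H20.R7
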