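/- S3101, chapter R7, slot IN: the involutions of `Ω₇`. -/
import Cfsg.Agent.H27.R7Spec

set_option autoImplicit false
set_option linter.unusedSectionVars false

namespace H20.R7

open H56 H58 H12.OW H59.OW QuadraticMap Module H27.R7

variable {F V : Type} [Field F] [AddCommGroup V] [Module F V] {Q : QuadraticForm F V}

theorem z2 : ∀ x a : ZMod 2, x ≠ 0 → a ≠ 0 → x = a := by decide

theorem side (hQ : Q.polarBilin.Nondegenerate) {ι : Type} (b : Basis ι F V) {η : ι → ZMod 2}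
    {o : O Q} (ho : IsDg Q b η o) (a : ZMod 2) {z : V}
    (hz : ∀ j, η j = a → polar Q (b j) z = 0) : o z = if a = 0 then -z else z := by
  rw [← sub_eq_zero]
  refine eq_zero_of_basis hQ b fun j => ?_
  have h := o.map_polar (b j) z
  rw [ho j] at h
  rw [polar_sub_right]
  by_cases h1 : η j = 0 <;> by_cases h2 : a = 0
  · rw [if_pos h1] at h
    rw [if_pos h2, polar_neg_right, h, hz j (h1.trans h2.symm)]; ring
  · rw [if_pos h1] at h
    rw [if_neg h2, h, sub_self]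
  · rw [if_neg h1, polar_neg_left] at h
    rw [if_pos h2, polar_neg_right, ← h]; ring
  · rw [if_neg h1, polar_neg_left, hz j (z2 _ _ h1 h2), neg_eq_zero] at h
    rw [if_neg h2, h, hz j (z2 _ _ h1 h2), sub_self]

theorem dg_mul {ι : Type} {b : Basis ι F V} {η η' : ι → ZMod 2} {o o' : O Q} (h : IsDg Q b η o)
    (h' : IsDg Q b η' o') : IsDg Q b (η + η') (o * o') := fun j => by
  rw [O.mul_apply, h' j, Pi.add_apply]
  have hj := h j
  by_cases h1 : η j = 0 <;> by_cases h2 : η' j = 0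
  · simp [h1, h2, hj]
  · simp [h1, h2, hj]
  · simp [h1, h2, hj]
  · have e : η j + η' j = 0 := by
      rw [z2 _ _ h1 h2]; exact CharTwo.add_self_eq_zero _
    simp [h1, h2, hj, e]

theorem dg_refl (h2 : (2 : F) ≠ 0) {ι : Type} [DecidableEq ι] {b : Basis ι F V} (hb : OB Q b)
    (i : ι) (hi : Q (b i) ≠ 0) : IsDg Q b (fun j => if j = i then 1 else 0) (refl Q (b i)) :=
  fun j => by
  by_cases h : j = i
  · subst h
    simp [refl_apply_self hi]
  · simp [h, refl_apply, hb i j (Ne.symm h)]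

variable [Finite F] [FiniteDimensional F V]

theorem conj_dg (hQ : Q.polarBilin.Nondegenerate) (h2 : (2 : F) ≠ 0) {ι ι' : Type}
    {b : Basis ι F V} {b' : Basis ι' F V} (hb : OB Q b) (hb' : OB Q b') {η : ι → ZMod 2}
    {η' : ι' → ZMod 2} {o o' : O Q} (ho : IsDg Q b η o) (ho' : IsDg Q b' η' o') (a : ZMod 2)
    {k : ℕ} (f : Fin k → ι) (f' : Fin k → ι') (hf : Function.Injective f)
    (hf' : Function.Injective f') (r : ∀ j, η j = a ↔ j ∈ Set.range f)
    (r' : ∀ j, η' j = a ↔ j ∈ Set.range f')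
    (q : ∀ i, sqcl (Q (b (f i))) = sqcl (Q (b' (f' i)))) (hk : k + 2 ≤ finrank F V) :
    ∃ g ∈ Om Q, g * o * g⁻¹ = o' := by
  have n := (gd hQ h2).ne _ b hb
  have n' := (gd hQ h2).ne _ b' hb'
  choose s s0 hs using fun i => (sqcl_eq_iff (n (f i)) (n' (f' i))).1 (q i)
  have qx : ∀ i, Q (b' (f' i)) = Q (s i • b (f i)) := fun i => by
    rw [QuadraticMap.map_smul, hs i, smul_eq_mul]
  obtain ⟨g, hg, e⟩ := (gt hQ h2).trf k (fun i => s i • b (f i)) (fun i => b' (f' i)) hk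
    (fun i => qx i ▸ n' _) qx
    (fun i j h => by simp [hb _ _ (hf.ne h)]) fun i j h => hb' _ _ (hf'.ne h)
  refine ⟨g, hg, ext_basis b' fun j => ?_⟩
  rw [O.mul_apply, O.mul_apply, ho' j]
  by_cases hj : η' j = a
  · obtain ⟨i, rfl⟩ := (r' j).1 hj
    have h1 : g⁻¹ (b' (f' i)) = s i • b (f i) := by rw [O.inv_apply_eq]; exact (e i).symm
    have h3 : η (f i) = a := (r _).2 ⟨i, rfl⟩
    rw [h1, map_smul, ho, h3, hj, ← e i]
    split_ifs <;> simp
  · have h1 : o (g⁻¹ (b' j)) = if a = 0 then -(g⁻¹ (b' j)) else g⁻¹ (b' j) := by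
      refine side hQ b ho a fun l hl => ?_
      obtain ⟨i, rfl⟩ := (r l).1 hl
      have h4 := g.map_polar (s i • b (f i)) (g⁻¹ (b' j))
      rw [e i, ← O.mul_apply, mul_inv_cancel, O.one_apply,
        hb' _ _ (fun h => hj ((r' j).2 ⟨i, h⟩)), polar_smul_left, smul_eq_mul] at h4
      exact (mul_eq_zero.1 h4.symm).resolve_left (s0 i)
    have h5 : g (g⁻¹ (b' j)) = b' j := by rw [← O.mul_apply, mul_inv_cancel, O.one_apply]
    rw [h1]
    by_cases h6 : a = 0
    · rw [if_pos h6, if_neg (h6 ▸ hj), map_neg, h5]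
    · rw [if_neg h6, h5, if_pos]
      by_contra h7
      exact hj (z2 _ _ h7 h6)

theorem jobIn : JobIn := by
  intro F _ _ V _ _ _ Q c ε fr x hx hxx hx1
  classical
  have hQ := fr.nd
  have h2 := fr.two
  have n : ∀ i, Q (ε i) ≠ 0 := fun i => fr.norm i ▸ fr.ne
  let e : Basis (Fin 7) F V := Basis.mk (ind_of_orth h2 n fr.orth)
    (Submodule.eq_top_of_finrank_eq ((finrank_span_eq_card (ind_of_orth h2 n fr.orth)).trans
      (by rw [fr.dim]; rfl))).ge
  have he : ∀ i, e i = ε i := fun i => by simp [e]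
  have ob : OB Q e := fun j k h => by rw [he, he]; exact fr.orth j k h
  have dr : ∀ i, IsDg Q e (fun j => if j = i then 1 else 0) (refl Q (ε i)) := fun i => by
    rw [← he]; exact dg_refl h2 ob i (by rw [he]; exact n i)
  have ev : Even x.rk := (dickson_eq_one_iff hQ x).1 (commutator_le_ker_dickson hQ hx)
  have sp : spinor hQ x = 1 := commutator_le_ker_spinor hQ hx
  have r0 : x.rk ≠ 0 := fun h => hx1 ((gt hQ h2).rk_zero x h)
  have r7 : x.rk ≤ 7 := by
    have := (gt hQ h2).rk_neg x hxx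
    rw [fr.dim] at this; omega
  have kk : ∀ m : ℕ, Even m → sqcl c ^ m = 1 := by
    rintro m ⟨l, rfl⟩
    rw [pow_add, SqCl.mul_self]
  have sn : spinor hQ (O.negOne Q) = sqcl c := by
    have h := (gd hQ h2).ab_dg _ e ob (fun _ => 1) (O.negOne Q) (fun j => by simp)
    have h' := congrArg Prod.snd h
    simp only [he, fr.norm] at h'
    simp only [ab, MonoidHom.prod_apply, ne_eq, one_ne_zero, not_false_eq_true,
      Finset.filter_true, Finset.prod_const, Finset.card_univ, Fintype.card_fin,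
      Prod.pow_snd] at h'
    rw [h', show 7 = 6 + 1 from rfl, pow_succ, kk 6 (by decide), one_mul]
  obtain ⟨a, ha⟩ := FiniteField.exists_nonsquare (ringChar_ne_two_of_two_ne h2)
  obtain ⟨b, S, hb, dx, cS, f1, f2⟩ := (gd hQ h2).frx x hxx (sqcl c) (sqcl a) 0 0
    (by rwa [Ne, sqcl_eq_one_iff']) (Nat.zero_le _) (by rw [fr.dim]; omega)
    (by rw [sp, kk _ ev, pow_zero, one_mul])
    (by
      obtain ⟨l, hl⟩ := ev
      rw [map_mul, sp, sn, fr.dim, show 7 - x.rk = (6 - x.rk) + 1 by omega, pow_succ,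
        kk _ ⟨3 - l, by omega⟩, pow_zero, one_mul])
  have qb : ∀ j, sqcl (Q (b j)) = sqcl c := fun j => by
    by_contra h
    by_cases hj : j ∈ S
    · exact Finset.notMem_empty j (Finset.card_eq_zero.1 f1 ▸ Finset.mem_filter.2 ⟨hj, h⟩)
    · exact Finset.notMem_empty j (Finset.card_eq_zero.1 f2 ▸
        Finset.mem_filter.2 ⟨Finset.mem_compl.2 hj, h⟩)
  have q : ∀ j i, sqcl (Q (b j)) = sqcl (Q (e i)) := fun j i => by rw [qb, he, fr.norm]
  have rS : ∀ {k : ℕ} (h : S.card = k) (j : Fin (finrank F V)),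
      (if j ∈ S then (1 : ZMod 2) else 0) = 1 ↔ j ∈ Set.range (S.orderEmbOfFin h) := fun h j => by
    rw [Finset.range_orderEmbOfFin]
    by_cases hj : j ∈ S <;> simp [hj]
  have h246 : x.rk = 2 ∨ x.rk = 4 ∨ x.rk = 6 := by obtain ⟨l, hl⟩ := ev; omega
  rcases h246 with h | h | h
  · obtain ⟨g, hg, e⟩ := conj_dg hQ h2 hb ob dx (dg_mul (dr 1) (dr 2)) 1
      (S.orderEmbOfFin (cS.trans h)) ![1, 2] (S.orderEmbOfFin _).injective (by decide) (rS _)
      (by decide) (fun _ => q _ _) (by rw [fr.dim]; omega)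
    exact ⟨g, hg, Or.inl e⟩
  · obtain ⟨g, hg, e⟩ := conj_dg hQ h2 hb ob dx
      (dg_mul (dg_mul (dr 1) (dr 2)) (dg_mul (dr 3) (dr 4))) 1
      (S.orderEmbOfFin (cS.trans h)) ![1, 2, 3, 4] (S.orderEmbOfFin _).injective (by decide) (rS _)
      (by decide) (fun _ => q _ _) (by rw [fr.dim]; omega)
    exact ⟨g, hg, Or.inr (Or.inl e)⟩
  · have c1 : Sᶜ.card = 1 := by
      rw [Finset.card_compl, cS, h, Fintype.card_fin, fr.dim]
    obtain ⟨g, hg, e⟩ := conj_dg hQ h2 hb ob dx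
      (dg_mul (dg_mul (dg_mul (dr 1) (dr 2)) (dg_mul (dr 3) (dr 4))) (dg_mul (dr 5) (dr 6))) 0
      (Sᶜ.orderEmbOfFin c1) ![0] (Sᶜ.orderEmbOfFin _).injective (by decide)
      (fun j => by
        rw [Finset.range_orderEmbOfFin]
        by_cases hj : j ∈ S <;> simp [hj])
      (by decide) (fun _ => q _ _) (by rw [fr.dim]; omega)
    exact ⟨g, hg, Or.inr (Or.inr e)⟩

end H20.R7
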