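import Cfsg.Agent.H96.SPGCA
import Cfsg.Agent.H84.SpBD
import Cfsg.Agent.H9.SPGBN
import Cfsg.Agent.H4.SPGBP
import Cfsg.Agent.H4.SPGBC
import Cfsg.Agent.H3.SpBO
import Cfsg.Agent.H1.SPGBA
import Cfsg.Agent.H10.SPGBM
import Cfsg.Agent.H92.SpgDG
import Cfsg.Agent.H89.SPMV

/-! STD-SP type I: the fusion `T ∩ t L = t {1, b₁}` (assembly of part B). -/

set_option autoImplicit false
set_option linter.unusedSectionVars false

namespace H20.SPGDI

open H64.SG (Cz Cs Ns Inv2 IsO2 mem_Cz)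
open H67.UA hiding Par
open H67.SP H86.SPG Subgroup
open H59.SO (Ind B1 B0 CE AutOn)
open H86.SPI (RO)

universe u

theorem gdI : AllA.{u} fun n F _ _ _ _ _ _ _ e t => B0 e t → RO e t → ¬ Fu e t (xa n F) →
    ∀ u, Fu e t u → u = 1 ∨ Lr u := by
  intro n F _ _ _ _ _ _ G _ _ e t b fc h ro nxa
  have bd := H84.SpBD.jobBD n F b
  have bn := H9.SPG.jobBN n F b
  have bp := H4.SPGBP.jobBP n F b
  have bo := H3.SpBO.jobBO n F b bp
  have bc := H4.SPGBC.jobBC n F b bp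
  have bm := H10.SBM.jobBM H92.SpgDG.jobDG n F b bd
  have ca := H96.SPG.jobCA n F G e t b fc bd bn ro
  have cm := h.toB1.comm
  have f1 : Fu e t 1 := by rw [Fu, map_one, mul_one]
  have fsq : ∀ u, Fu e t u → u * u = 1 := fun u hu => by
    obtain ⟨g, hg⟩ := isConj_iff.1 hu
    have h1 : t * e u * (t * e u) = 1 := by rw [← hg, conj_mul, h.inv.1]; simp
    rw [mul_assoc, ← mul_assoc (e u), ← cm, ← mul_assoc, ← mul_assoc, h.inv.1, one_mul,
      ← map_mul] at h1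
    exact h.inj (h1.trans (map_one e).symm)
  have fcj : ∀ u v, IsConj u v → Fu e t u → Fu e t v := fun u v huv hu => by
    obtain ⟨g, rfl⟩ := isConj_iff.1 huv
    refine hu.trans (isConj_iff.2 ⟨e g, ?_⟩)
    rw [← mul_assoc, ← cm, map_mul, map_mul, map_inv]
    simp only [mul_assoc]
  have tsq : ∀ d : Vn n F, TT d * TT d = 1 := fun d => ac_ext fun y => by
    rw [ac_mul, H86.SPI.ac_TT, H86.SPI.ac_TT, hf_add_left, hf_smul_left, H86.SPI.hf_self, mul_zero,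
      add_zero, add_assoc, ← add_smul, CharTwo.add_self_eq_zero, zero_smul, add_zero, ac_one]
  have fd : ∀ u d, u * u = 1 → Dg u d → (Fu e t u ↔ Fu e t (u * TT d)) := fun u d hu hd => by
    obtain ⟨w, w1, w2⟩ := ca u d hu hd
    have cT : TT d * u = u * TT d := mem_Cz.1 ((bd.alt u d hu hd).2.2 (mem_Cz.2 rfl))
    have k : IsConj (t * e (u * TT d)) (t * e u) := isConj_iff.2 ⟨w, by
      rw [← conj_mul, w2, w1, mul_inv_cancel_right, mul_assoc, ← map_mul, ← mul_assoc, cT,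
        mul_assoc u, tsq, mul_one]⟩
    exact ⟨fun a => a.trans k.symm, fun a => a.trans k⟩
  have mv : ∀ z, Lr z → Mv e t z := fun z hz => by
    refine H89.SP.jobMV n F G e t b fc h z (Or.inl hz) ?_
    obtain ⟨v, -, rfl⟩ := hz
    refine (fd _ v (tsq v) fun y => ?_).2 (by rw [tsq]; exact f1)
    rw [H86.SPI.ac_TT, hf_add_left, hf_smul_left, H86.SPI.hf_self, zero_add,
      H86.SPI.hf_comm v y, sq]
  have rkn : ∀ u, u * u = 1 → Alt u → ∃ j, 4 * j ≤ n + 1 ∧ rk u = 2 * j ∧ IsConj (al n F j) u :=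
    fun u hu ha => by
      obtain ⟨j, g, hj, rfl⟩ := bn.nf u hu ha
      have c : IsConj (al n F j) (g * al n F j * g⁻¹) := isConj_iff.2 ⟨g, rfl⟩
      exact ⟨j, hj, ((FW.rkc _ _ (bn.nfa j hj).1.sq hu).1 c).1.symm.trans (bn.nfa j hj).2.1, c⟩
  have claim : ∀ u, u * u = 1 → Alt u → Fu e t u → u = 1 := by
    by_contra hc
    push Not at hc
    have hex : ∃ k, ∃ u, u * u = 1 ∧ Alt u ∧ Fu e t u ∧ u ≠ 1 ∧ rk u = k := by
      obtain ⟨u, h1, h2, h3, h4⟩ := hc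
      exact ⟨_, u, h1, h2, h3, h4, rfl⟩
    classical
    obtain ⟨u, h1, h2, h3, h4, h5⟩ := Nat.find_spec hex
    obtain ⟨j, hj, hr, c⟩ := rkn u h1 h2
    have hmin : ∀ v, v * v = 1 → Alt v → Fu e t v → v = 1 ∨ 2 * j ≤ rk v := fun v k1 k2 k3 => by
      rw [or_iff_not_imp_left]
      intro k4
      rw [← hr, h5]
      exact Nat.find_min' hex ⟨v, k1, k2, k3, k4, rfl⟩
    have fu := fcj _ _ c.symm h3
    have j0 : j ≠ 0 := by
      rintro rfl
      rw [bn.zero] at c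
      exact h4 (isConj_one_right.1 c)
    have j1 : j ≠ 1 := by
      rintro rfl
      rw [bn.one] at fu
      exact nxa fu
    obtain ⟨g, g1, g2⟩ := H1.SPGBA.jobBA n F G e t b fc bd bn bp bo bc h ca mv j (by omega) hj fu hmin
    obtain ⟨nf, rkx, -⟩ := bn.nfa j hj
    have l2 : 2 * (2 * j) ≤ n + 1 := by omega
    obtain ⟨θ, hθ, hg⟩ := H59.SO.exists_autOn h.inj (A := Mk n F (2 * j)) (g := g)
      (mem_normalizer_iff.2 fun a => by
        conv_rhs => rw [← g2]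
        exact H67.SA.conj_mem_cjs.symm)
    have xM : al n F j ∈ Mk n F (2 * j) := (FV.mem_M _ _).2 fun v => (nf.im _).1 ⟨v, rfl⟩
    have sg : ∀ m ∈ Mk n F (2 * j), Fu e t m ↔ Sg (2 * j) m := fun m hm => by
      obtain ⟨m1, -, m3⟩ := bd.mm _ l2 m hm
      obtain ⟨d, hd⟩ := bd.ex m m1
      obtain ⟨alt, sq, -⟩ := bd.alt m d m1 hd
      have hm2 := mul_mem hm (bd.tt _ d (m3 d hd))
      rw [fd m d m1 hd]
      refine ⟨fun a => ⟨d, hd, (hmin _ sq alt a).imp_right fun k =>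
        le_antisymm (bd.mm _ l2 _ hm2).2.1 k⟩, ?_⟩
      rintro ⟨d', hd', k⟩
      obtain rfl := bd.uq m d d' hd hd'
      rcases k with k | k
      · rw [k]; exact f1
      · exact fcj _ _ ((FW.rkc _ _ nf.sq sq).2 ⟨rkx.trans k.symm, iff_of_true nf.alt alt⟩) fu
    refine bm _ _ nf rkx (by omega) l2 θ hθ fun m hm => ?_
    rw [← sg m hm, ← sg _ (mul_mem xM (hθ.bij.mapsTo hm))]
    have k : IsConj (t * e m) (t * e (al n F j * θ m)) := isConj_iff.2 ⟨g, by
      rw [← conj_mul, g1, hg m hm, map_mul, mul_assoc]⟩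
    exact ⟨fun a => a.trans k, fun a => a.trans k.symm⟩
  intro u hu
  have u1 := fsq u hu
  obtain ⟨d, hd⟩ := bd.ex u u1
  obtain ⟨alt, sq, -⟩ := bd.alt u d u1 hd
  have h0 := claim _ sq alt ((fd u d u1 hd).1 hu)
  have h1 : u = TT d := by rw [← mul_one u, ← tsq d, ← mul_assoc, h0, one_mul]
  by_cases d0 : d = 0
  · exact Or.inl (by rw [h1, d0, H86.SPI.TT_zero])
  · exact Or.inr ⟨d, d0, h1⟩

end H20.SPGDI
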