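import Cfsg.Agent.H67.SWDef
import Cfsg.Agent.H37.SPGFQ

/-! STD-SP wreath endgame, slot `TO`: torus elements that move a central element of `U`. -/

set_option autoImplicit false
set_option linter.unusedSectionVars false

namespace H20.SWTO

open H64.SG (Cz Cs Ns)
open H67.UA hiding Par
open H67.SP H67.SW H62.SPFC Subgroup
open H59.SO (AutOn)

variable {n : ℕ} {F : Type} [Field F] [StarRing F] [TrivialStar F] [CharP F 2] [Finite F]
  [p : Par n F] [Base n F]

theorem tor {l m : F} (hl : l ≠ 0) (hm : m ≠ 0) : ∃ h ∈ Ns (UU n F), Odd (orderOf h) ∧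
    ∀ a b : F, h * zu a b * h⁻¹ = zu (l ^ 2 * a) (l * m * b) := by
  have h5 := p.five
  let d : Fin (n + 1) → F := fun i => if i.val = 0 then l else if i.val = 1 then m else
    if i.val = n then l⁻¹ else if i.val = n - 1 then m⁻¹ else 1
  have hd : ∀ i, d i * d i.rev = 1 := fun i => by
    have := i.2
    simp only [d, Fin.val_rev]
    split_ifs <;> first | omega | simp [hl, hm]
  obtain ⟨h, -, h1, h2⟩ := FV.diag d hd
  have d0 : ∀ i, d i ≠ 0 := fun i e => by simpa [e] using hd i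
  have w1 : ∀ j v, Wk j v → Wk j (ac h v) := fun j v hv i hi => by rw [h2, hv i hi, mul_zero]
  have w2 : ∀ j v, Wk j v → Wk j (ac h⁻¹ v) := fun j v hv i hi => by
    have := h2 (ac h⁻¹ v) i
    rw [ac_ac_inv, hv i hi] at this
    exact (mul_eq_zero.1 this.symm).resolve_left (d0 i)
  have he : ∀ i, ac h (ev i) = d i • ev i := fun i => funext fun j => by
    rw [h2, Pi.smul_apply, smul_eq_mul, ev_apply]
    split_ifs with e
    · rw [e]
    · rw [mul_zero, mul_zero]
  have e1 : ((1 : Fin (n + 1)) : ℕ) = 1 := by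
    rw [Fin.val_one']; exact Nat.mod_eq_of_lt (by omega)
  refine ⟨h, H98.mem_normalizer_of_cj_le ?_, h1, fun a b => ?_⟩
  · rintro _ ⟨u, hu, rfl⟩
    refine (FV.mem_U _).2 fun j v hv => ?_
    have := w1 j _ ((FV.mem_U u).1 hu j _ (w2 _ v hv))
    rw [ac_add, ac_ac_inv, ← ac_mul, ← ac_mul] at this
    exact this
  · rw [zE, zE, EE_conj (ok01 a b), ac_smul, he, he, EE_smul, star_trivial, smul_smul, smul_smul]
    have k0 : d 0 = l := by simp [d]
    have k1 : d 1 = m := by simp only [d, e1]; simp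
    rw [k0, k1, nm, star_trivial, ← sq, mul_right_comm]

theorem zu_inj {a b a' b' : F} (h : zu (n := n) a b = zu a' b') : a = a' ∧ b = b' := by
  rw [zE, zE] at h
  obtain ⟨c, h1, h2⟩ := EE_inj (ev_ne 0) (ok01 a b) (ok01 a' b') h
  have := (li01 (n := n) c (b - b') (by linear_combination (norm := module) -h1)).2
  exact ⟨by rw [h2, tr, star_trivial, CharTwo.add_self_eq_zero, add_zero], sub_eq_zero.1 this⟩

omit p [Base n F] in
theorem onto {U R : Subgroup (XU n F)} [Finite (XU n F)] (hR : R ≤ U) (c : Ch U R) {θ : XU n F → XU n F}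
    (a : AutOn U θ) : ∀ r ∈ R, ∃ s ∈ R, θ s = r := fun r hr => by
  have h := (Set.Finite.injOn_iff_bijOn_of_mapsTo (Set.toFinite (R : Set (XU n F)))
    (f := θ) fun u hu => c θ a u hu).1 (a.bij.injOn.mono hR)
  exact h.surjOn hr

omit p [Base n F] in
theorem jobTO : JobTO := by
  intro n F _ _ _ _ _ p b _ _ c2 hF z hz z1
  have : Finite (XU n F) := inferInstance
  obtain ⟨l, l0, l1⟩ : ∃ l : F, l ≠ 0 ∧ l ≠ 1 := by
    by_contra! k
    exact hF ((Nat.card_eq_two_iff' (0 : F)).2 ⟨1, one_ne_zero, k⟩)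
  have zu' : ZL n F ⊔ ZS n F ≤ UU n F := fun g hg => by
    obtain ⟨a, b, rfl⟩ := (FV.mem_ZU g).1 hg
    have h5 := p.five
    have e1 : ((1 : Fin (n + 1)) : ℕ) = 1 := by
      rw [Fin.val_one']; exact Nat.mod_eq_of_lt (by omega)
    refine (FV.mem_U _).2 fun j v hv i hi => ?_
    rw [zE, ac_EE (ok01 a b), hfs, hf_ev_right, hf_ev_right]
    simp only [Pi.add_apply, Pi.smul_apply, smul_eq_mul, ev_apply]
    by_cases hj : 2 ≤ j
    · rw [if_neg (fun e => by rw [e] at hi; simp at hi; omega),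
        if_neg (fun e => by rw [e, e1] at hi; omega)]
      simp [CharTwo.add_self_eq_zero]
    · rw [hv (Fin.rev 1) (by rw [Fin.val_rev, e1]; omega), hv (Fin.rev 0) (by simp; omega)]
      simp [CharTwo.add_self_eq_zero]
  obtain ⟨a, b, rfl⟩ := (FV.mem_ZU z).1 (FR.zU.le hz.2)
  by_cases ha : a = 0
  · obtain ⟨h, h1, h2, h3⟩ := tor (n := n) (one_ne_zero (α := F)) l0
    refine ⟨h, h1, h2, fun e => ?_, fun θ hθ β hβ => FA.lin β (ev 0) (ev_ne 0) fun c => ?_⟩
    · have := (zu_inj ((h3 a b).symm.trans (mul_inv_eq_iff_eq_mul.2 e))).2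
      rw [one_mul] at this
      refine z1 ?_
      rw [ha, (mul_left_eq_self₀.1 this).resolve_left l1]
      simp [zu]
    obtain ⟨s, hs, e⟩ := onto (le_sup_left.trans zu') c2.1 hθ _ ((FV.mem_Zl _ _).2 ⟨c, rfl⟩)
    rw [← e]
    refine hβ s ⟨zu' (mem_sup_left hs), FR.zU.ge (mem_sup_left hs)⟩ ?_
    obtain ⟨c', rfl⟩ := (FV.mem_Zl _ _).1 hs
    have := h3 c' 0
    rw [one_pow, one_mul, mul_zero, mul_inv_eq_iff_eq_mul] at this
    simpa [zu] using this
  · obtain ⟨h, h1, h2, h3⟩ := tor (n := n) l0 (inv_ne_zero l0)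
    refine ⟨h, h1, h2, fun e => ?_, fun θ hθ β hβ => H37.SPGFQ.lin2 β fun x hx => ?_⟩
    · have := (zu_inj ((h3 a b).symm.trans (mul_inv_eq_iff_eq_mul.2 e))).1
      have h4 : (l + 1) ^ 2 = 0 := by
        rw [CharTwo.add_sq, (mul_left_eq_self₀.1 this).resolve_right ha, one_pow,
          CharTwo.add_self_eq_zero]
      exact l1 (CharTwo.add_eq_zero.1 (pow_eq_zero_iff two_ne_zero |>.1 h4))
    obtain ⟨s, hs, e⟩ := onto (le_sup_right.trans zu') c2.2.1 hθ _ hx
    rw [← e]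
    refine hβ s ⟨zu' (mem_sup_right hs), FR.zU.ge (mem_sup_right hs)⟩ ?_
    obtain ⟨c', rfl⟩ := (FV.mem_Zs _ _ h01 _).1 hs
    have := h3 0 c'
    rw [mul_zero, mul_inv_cancel₀ l0, one_mul, mul_inv_eq_iff_eq_mul] at this
    simpa [zu] using this

end H20.SWTO
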