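import Cfsg.Agent.H20.TWB1

/-! Tower TW, dihedral case (job B), part 2: transfer. -/

set_option autoImplicit false
set_option linter.unusedSectionVars false

namespace H20.TWB

open Cfsg Subgroup H14 H98 H1.Gold H31.S2 H85.TW

universe u

variable {G : Type u} [Group G] [Finite G]

theorem no3 {a b x : G} (f : Fg a b) (hx : E2 x) (h1 : x * a * x⁻¹ = b)
    (h2 : x * b * x⁻¹ = a * b) : False := by
  obtain ⟨j, hj⟩ := hx
  have h3 : x ^ 3 ∈ cen1 a := mem_cen1.2 (mul_inv_eq_iff_eq_mul.1 (by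
    calc x ^ 3 * a * (x ^ 3)⁻¹ = x * (x * (x * a * x⁻¹) * x⁻¹) * x⁻¹ := by
          simp only [pow_succ, pow_zero, one_mul, mul_inv_rev, mul_assoc]
      _ = a := by rw [h1, h2, ← conj_mul, h1, h2, ← mul_assoc, ← f.ab, cancel' f.bb]))
  have h4 : x ∈ cen1 a := by
    have hc : Nat.Coprime 3 (orderOf x) :=
      Nat.Coprime.coprime_dvd_right (orderOf_dvd_of_pow_eq_one hj)
        (Nat.Coprime.pow_right _ (by norm_num))
    obtain ⟨m, hm⟩ := exists_pow_eq_self_of_coprime hc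
    exact hm ▸ pow_mem h3 m
  rw [mem_cen1.1 h4, mul_inv_cancel_right] at h1
  exact f.ne h1

/-- the involution `τ` -/
structure Tau (L P : Subgroup G) (ι : F4 → G) (τ : G) : Prop where
  mem : τ ∈ L
  sq : τ * τ = 1
  nor : τ ∈ nor P
  one : τ * ι 1 * τ⁻¹ = ι 1
  om : τ * ι om * τ⁻¹ = ι 1 * ι om

section top

variable {t τ : G} {V W Y P L : Subgroup G} {ι : F4 → G} {k : ℕ} {c : G → F4}
  (H : Hy t V ι) (T : Top t V ι W k c Y P) (B : Bs t L) (VL : V ≤ L) (A : Tau L P ι τ)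
include H T B VL

theorem alt0 (hk : k = 0) (x : F4) : ∃ y ∈ Y, c (dl t y) = x := by
  refine T.alt.resolve_left (fun e => ?_) x
  obtain ⟨p, hp, h⟩ := exists_move H T B VL
  have := mem_cen_iff.1 H.cen
  rcases T.idx p hp with h1 | h1
  · exact h (this _ (W_eq H T hk (e ▸ h1))).symm
  · have h2 := this _ (W_eq H T hk (e ▸ h1))
    rw [mul_assoc] at h2
    exact h (mul_left_cancel h2).symm

include A

omit B VL in
theorem lin_om : lin ι τ om = 1 + om := H.lin_eq (by rw [A.om, H.add])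

omit B VL in
theorem lin_one : lin ι τ 1 = 1 := H.lin_eq A.one

omit B VL in
theorem lin_fix {x : F4} (h : x + lin ι τ x = 0) : x = 0 ∨ x = 1 := by
  rcases f4_cases x with rfl | rfl | rfl | rfl
  · exact .inl rfl
  · exact .inr rfl
  · rw [lin_om H T A] at h
    exact absurd h (by decide)
  · rw [H.lin_add (norV H T A.nor), lin_om H T A, lin_one H T A] at h
    exact absurd h (by decide)

theorem noA {u : G} (hu : u * τ ∈ P)
    (h : ∀ r ∈ P, r * u * r⁻¹ * u⁻¹ = 1 ∨ r * u * r⁻¹ * u⁻¹ = ι 1) : False := by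
  have un : u ∈ nor P := by
    rw [← cancel' A.sq u]; exact mul_mem (le_normalizer hu) A.nor
  have lu : lin ι u om = 1 + om := by
    rw [← cancel' A.sq u, H.lin_mul (norV H T (le_normalizer hu)) (norV H T A.nor),
      H.lin_cen (T.cenV hu), lin_om H T A]
  obtain ⟨w, hw, e⟩ := T.surj om
  have h1 : c (w * u * w⁻¹ * u⁻¹) = 1 := by
    rw [mul_assoc, mul_assoc, ← mul_assoc u, T.toTw.c_mul H.toCo hw
      (conj_mem_of_mem_normalizer (T.nrm u un).1 (inv_mem hw)),
      T.toTw.c_conj H.toCo (T.nrm u un).1 (inv_mem hw), T.toTw.c_inv H.toCo hw, e, lu]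
    decide
  have hk : k = 0 := by
    rcases h w (WP H T hw) with e' | e'
    · rw [e', T.toTw.c_one H.toCo] at h1
      exact absurd h1 (by decide)
    · rw [e'] at h1
      have := T.pow _ (T.le (H.ι_mem 1))
      rw [h1] at this
      by_contra hk
      obtain ⟨j, rfl⟩ := Nat.exists_eq_succ_of_ne_zero hk
      rw [pow_succ', pow_mul, pow_two, (co_fg H.toCo).aa, one_pow] at this
      exact (co_fg H.toCo).a1 this
  obtain ⟨y, hy, e⟩ := alt0 H T B VL hk om
  have yP := T.YP hy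
  have h2 : c (dl t (y * u * y⁻¹ * u⁻¹)) = 1 := by
    rw [mul_assoc, mul_assoc, ← mul_assoc u, d_mulP H T yP
      (le_normalizer (conj_mem_of_mem_normalizer un (inv_mem yP))), d_conj H T un (inv_mem yP),
      d_inv H T yP, e, lu]
    decide
  rw [d_W H T ((h y yP).elim (fun e => e ▸ one_mem W) fun e => e ▸ T.le (H.ι_mem 1))] at h2
  exact absurd h2 (by decide)

theorem central {x : G} (hx : E2 x) (h1 : ∀ p ∈ P, x * p = p * x) (h2 : x * τ = τ * x) :
    x = 1 ∨ x = ι 1 := by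
  have f := co_fg H.toCo
  rcases H.syl t (IsConj.refl t) H.cen x (mem_cen_iff.2 fun v hv => h1 v (VP H T hv)) (h1 t T.tP)
    hx with e | e
  · have h3 : τ * x * τ⁻¹ = x := by rw [← h2, mul_inv_cancel_right]
    rcases (co_mem H.toCo).1 e with e | e | e | e
    · exact .inl e
    · exact .inr e
    · rw [e, A.om] at h3
      exact absurd (by simpa using h3) f.a1
    · rw [e, ← conj_mul, A.one, A.om, cancel f.aa] at h3
      exact absurd (by simpa using h3) f.a1
  · obtain ⟨p, hp, h⟩ := exists_move H T B VL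
    have h3 := mem_cen_iff.1 (T.cenV hp) _ e
    rw [mul_assoc, h1 p hp, ← mul_assoc, ← mul_assoc] at h3
    exact (h (mul_right_cancel h3)).elim

omit B VL in
theorem exists_Y : ∃ Y' : Subgroup G, W ≤ Y' ∧ Y' ≤ P ∧ t ∉ Y' ∧ (∀ p ∈ P, t * p ∈ Y' ∨ p ∈ Y') ∧
    (∀ y ∈ Y', c (dl t y) = 0 → y ∈ W) ∧ τ ∈ nor Y' ∧
    ∀ y ∈ Y', c (dl t y) ≠ 0 → ∃ y₀ ∈ Y', c (dl t y₀) = om := by
  classical
  rcases T.alt with rfl | alt
  · exact ⟨Y, le_rfl, T.YP, T.tY, fun p hp => (T.idx p hp).symm, fun y hy _ => hy,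
      (T.nrm τ A.nor).1, fun y hy h => (h (d_W H T hy)).elim⟩
  obtain ⟨y₀, hy₀, e₀⟩ := alt om
  have p₀ := T.YP hy₀
  have p₁ := conj_mem_of_mem_normalizer A.nor p₀
  have e₁ : c (dl t (τ * y₀ * τ⁻¹)) = 1 + om := by rw [d_conj H T A.nor p₀, e₀, lin_om H T A]
  have i2 : Y.relIndex P = 2 :=
    relIndex_eq_two_iff_exists_notMem_and'.2 ⟨t, T.tP, T.tY, fun p hp => (T.idx p hp).symm⟩
  let e : G → ZMod 2 := fun p => if p ∈ Y then 0 else 1
  have he : ∀ p ∈ P, ∀ q ∈ P, e (p * q) = e p + e q := fun p hp q hq => by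
    have := mul_mem_iff_of_index_two i2 (a := ⟨p, hp⟩) (b := ⟨q, hq⟩)
    simp only [mem_subgroupOf, MulMemClass.mk_mul_mk] at this
    by_cases h1 : p ∈ Y <;> by_cases h2 : q ∈ Y <;> simp_all [e]
    decide
  let l : G → ZMod 2 := fun p => e p + e (τ * y₀ * τ⁻¹) * (c (dl t p)).re
  have hl : ∀ p ∈ P, ∀ q ∈ P, l (p * q) = l p + l q := fun p hp q hq => by
    simp only [l, he p hp q hq, d_mulP H T hp (le_normalizer hq), QuadraticAlgebra.re_add]
    ring
  have lW : ∀ w ∈ W, l w = 0 := fun w hw => by simp [l, e, T.WY hw, d_W H T hw]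
  have lt : l t = 1 := by simp [l, e, T.tY, d_comm H T (rfl : t * t = t * t)]
  let Y' : Subgroup G :=
    { carrier := {p | p ∈ P ∧ l p = 0}
      one_mem' := ⟨one_mem _, lW 1 (one_mem _)⟩
      mul_mem' := fun {a b} ha hb => ⟨mul_mem ha.1 hb.1, by rw [hl a ha.1 b hb.1, ha.2, hb.2, add_zero]⟩
      inv_mem' := fun {a} ha => ⟨inv_mem ha.1, by
        have := hl a ha.1 _ (inv_mem ha.1)
        rwa [mul_inv_cancel, lW 1 (one_mem _), ha.2, zero_add, eq_comm] at this⟩ }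
  have m₀ : y₀ ∈ Y' := ⟨p₀, by simp [l, e, hy₀, e₀]⟩
  have m₁ : τ * y₀ * τ⁻¹ ∈ Y' := ⟨p₁, by
    simp only [l, e₁]
    generalize e (τ * y₀ * τ⁻¹) = r
    revert r; decide⟩
  have WY' : W ≤ Y' := fun w hw => ⟨WP H T hw, lW w hw⟩
  have ker : ∀ y ∈ Y', c (dl t y) = 0 → y ∈ W := fun y hy h0 => T.kerY y (by
    have := hy.2
    by_contra h1
    simp [l, e, h0, h1] at this) h0
  refine ⟨Y', WY', fun p hp => hp.1, fun h => by simpa [lt] using h.2, fun p hp => ?_, ker,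
    mem_normalizer_fintype fun y hy => ?_, fun _ _ _ => ⟨y₀, m₀, e₀⟩⟩
  · have h1 := hl t T.tP p hp
    have : l (t * p) = 0 ∨ l p = 0 := by
      rw [h1, lt]
      generalize l p = r
      revert r; decide
    exact this.imp (fun e => ⟨mul_mem T.tP hp, e⟩) fun e => ⟨hp, e⟩
  · have key : ∀ y' ∈ Y', c (dl t y') = c (dl t y) → τ * y' * τ⁻¹ ∈ Y' → τ * y * τ⁻¹ ∈ Y' :=
      fun y' h1 h2 h3 => by
        have h4 := ker _ (mul_mem (inv_mem h1) hy) (by
          rw [d_mulP H T (inv_mem h1.1) (le_normalizer hy.1), d_inv H T h1.1, h2,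
            CharTwo.add_self_eq_zero])
        have := mul_mem h3 (WY' (conj_mem_of_mem_normalizer (T.nrm τ A.nor).1 h4))
        rwa [conj_mul, mul_inv_cancel_left] at this
    have m₂ : τ * (τ * y₀ * τ⁻¹) * τ⁻¹ ∈ Y' := by
      rwa [inv_of_sq A.sq, ← mul_assoc, ← mul_assoc, A.sq, one_mul, cancel' A.sq]
    rcases f4_cases (c (dl t y)) with h | h | h | h
    · exact key 1 (one_mem _) (by rw [h, d_comm H T (by simp)]) (by simp)
    · refine key _ (mul_mem m₀ m₁) ?_ (by rw [← conj_mul]; exact mul_mem m₁ m₂)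
      rw [h, d_mulP H T p₀ (le_normalizer p₁), e₀, e₁]
      decide
    · exact key _ m₀ (by rw [h, e₀]) m₁
    · exact key _ m₁ (by rw [h, e₁]) m₂

omit B VL in
theorem conj_tau (m : ℕ) : ∀ w ∈ W, w ^ 2 ^ m = 1 → w * τ * (w * τ) = 1 → IsConj τ (w * τ) := by
  have f := co_fg H.toCo
  have nW := (T.nrm τ A.nor).1
  induction m with
  | zero => intro w _ h _; rw [show w = 1 by simpa using h, one_mul]
  | succ m ih =>
    intro w hw h1 h2
    by_cases h0 : w ^ 2 ^ m = 1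
    · exact ih w hw h0 h2
    have h3 : τ * w * τ⁻¹ = w⁻¹ := by
      rw [inv_of_sq A.sq, eq_comm, inv_eq_iff_mul_eq_one, ← h2]
      group
    have h4 : w ^ 2 ^ m * w ^ 2 ^ m = 1 := by rw [← pow_two, ← pow_mul, ← pow_succ, h1]
    have h5 : τ * w ^ 2 ^ m * τ⁻¹ = w ^ 2 ^ m := by
      rw [← conj_pow, h3, inv_pow, inv_of_sq h4]
    have h6 : w ^ 2 ^ m = ι 1 := by
      rcases (co_mem H.toCo).1 (T.om _ (pow_mem hw _) h4) with e | e | e | e
      · exact (h0 e).elim
      · exact e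
      · rw [e, A.om] at h5
        exact absurd (by simpa using h5) f.a1
      · rw [e, ← conj_mul, A.one, A.om, cancel f.aa] at h5
        exact absurd (by simpa using h5) f.a1
    have hm : m ≤ k := by
      by_contra! hm
      obtain ⟨j, rfl⟩ := Nat.exists_eq_add_of_lt hm
      refine h0 ?_
      rw [show 2 ^ (k + j + 1) = 2 ^ k * 2 * 2 ^ j by ring, pow_mul, pow_mul, ← T.pow w hw, pow_two,
        H.sq (H.ι_mem _), one_pow]
    obtain ⟨j, rfl⟩ := Nat.exists_eq_add_of_le hm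
    obtain ⟨u₀, hu₀, e⟩ := T.surj om
    have hu : u₀ ^ 2 ^ j ∈ W := pow_mem hu₀ _
    have e' : (u₀ ^ 2 ^ j) ^ 2 ^ m = ι om := by
      rw [← pow_mul, ← pow_add, add_comm, ← T.pow _ hu₀, e]
    generalize u₀ ^ 2 ^ j = u at hu e'
    have hu' := conj_mem_of_mem_normalizer nW (inv_mem hu)
    have e2 : u * w * (τ * u⁻¹ * τ⁻¹) * τ = u * (w * τ) * u⁻¹ := by group
    refine (ih _ (mul_mem (mul_mem hu hw) hu') ?_ (by rw [e2, sq_conj h2])).trans ?_
    · rw [(show Commute (u * w) _ from T.comm _ (mul_mem hu hw) _ hu').mul_pow,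
        (show Commute u w from T.comm _ hu _ hw).mul_pow, conj_pow, inv_pow, e', h6,
        inv_of_sq f.bb, A.om, mul_assoc, cancel f.aa, f.bb]
    · rw [e2]
      exact isConj_iff.2 ⟨u⁻¹, by group⟩

omit B VL in
theorem actR {r : G} (hr : r ∈ P ⊔ zpowers τ) : r * ι 1 * r⁻¹ = ι 1 ∧
    (r * ι om * r⁻¹ = ι om ∨ r * ι om * r⁻¹ = ι 1 * ι om) := by
  have key : ∀ p ∈ P, ∀ x, p * ι x * p⁻¹ = ι x := fun p hp x => by
    rw [mem_cen_iff.1 (T.cenV hp) _ (H.ι_mem x), mul_inv_cancel_right]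
  rcases (mem_sup_inv A.sq A.nor).1 hr with h | h
  · exact ⟨key r h _, .inl (key r h _)⟩
  · have e : ∀ x, r * x * r⁻¹ = r * τ * (τ * x * τ⁻¹) * (r * τ)⁻¹ := fun x => by
      rw [← mul_assoc, ← mul_assoc, cancel' A.sq, mul_inv_rev, inv_of_sq A.sq, ← mul_assoc,
        cancel' A.sq]
    refine ⟨by rw [e, A.one, key _ h], .inr ?_⟩
    rw [e, A.om, ← conj_mul, key _ h, key _ h]

omit H B VL in
theorem twoR : IsPGroup 2 ↥(P ⊔ zpowers τ) :=
  T.twoP.to_sup_of_normal_left' (isPGroup_zpowers (k := 1) (by rw [pow_one, pow_two, A.sq]))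
    (zpowers_le.2 A.nor)

theorem not_isSyl : ¬ IsSyl 2 (P ⊔ zpowers τ) ⊤ := fun hS => by
  obtain ⟨Y', h1, h2, h3, h4, h5, h6, h7⟩ := exists_Y H T A
  refine transfer B.idx hS (M := Y' ⊔ zpowers τ) H.tt (mem_sup_left T.tP) (fun s hs => ?_)
    fun m hm hD => ?_
  · simp only [mem_sup_inv A.sq h6, mul_assoc]
    rcases (mem_sup_inv A.sq A.nor).1 hs with e | e <;> rcases h4 _ e with e | e <;> simp [e]
  rcases (mem_sup_inv A.sq h6).1 hm with e | e
  · exact notD_Y H T h1 h2 h3 e hD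
  have key : ∀ w ∈ W, IsConj t (w * τ) → False := fun w hw h => by
    obtain ⟨g, hg⟩ := isConj_iff.1 h
    obtain ⟨j, hj⟩ := e2_of_mem T.two hw
    exact B.notD A.mem (h.trans (conj_tau H T A j w hw hj (hg ▸ sq_conj H.tt g)).symm)
  rw [← cancel' A.sq m] at hD
  generalize m * τ = y at e hD
  have yP := h2 e
  have mm : y * (τ * y * τ⁻¹) = 1 := by
    obtain ⟨g, hg⟩ := isConj_iff.1 hD
    rw [inv_of_sq A.sq, ← mul_assoc, ← mul_assoc, mul_assoc, ← hg, sq_conj H.tt]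
  have h8 := d_mulP H T yP (le_normalizer (conj_mem_of_mem_normalizer A.nor yP))
  rw [mm, d_comm H T (by simp), d_conj H T A.nor yP] at h8
  rcases lin_fix H T A h8.symm with e0 | e0
  · exact key y (h5 y e e0) hD
  obtain ⟨y₀, hy₀, e₀⟩ := h7 y e (by rw [e0]; decide)
  have p₀ := h2 hy₀
  refine key (y₀ * y * (τ * y₀⁻¹ * τ⁻¹)) (h5 _ (mul_mem (mul_mem hy₀ e)
    (conj_mem_of_mem_normalizer h6 (inv_mem hy₀))) ?_) ?_
  · rw [d_mulP H T (mul_mem p₀ yP) (le_normalizer (conj_mem_of_mem_normalizer A.nor (inv_mem p₀))),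
      d_mulP H T p₀ (le_normalizer yP), d_conj H T A.nor (inv_mem p₀), d_inv H T p₀, e₀, e0,
      lin_om H T A]
    decide
  · rw [show y₀ * y * (τ * y₀⁻¹ * τ⁻¹) * τ = y₀ * (y * τ) * y₀⁻¹ by group, isConj_conj]
    exact hD

theorem caseN : k = 0 ∧ ∀ y ∈ Y, y * y = 1 := by
  have f := co_fg H.toCo
  by_contra hE
  refine not_isSyl H T B VL A (isSyl_of_isSyl_normalizer ⟨le_inf le_top le_normalizer, twoR T A,
    fun Q hQ h1 h2 => le_antisymm (fun g hg => ?_) h1⟩)
  have gn := (h2 hg).2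
  have R := fun {r} (hr : r ∈ P ⊔ zpowers τ) => actR H T A (conj_mem_of_mem_normalizer' gn hr)
  have zc : ∀ r ∈ P ⊔ zpowers τ, g * ι 1 * g⁻¹ * r = r * (g * ι 1 * g⁻¹) := fun r hr => by
    conv_lhs => rw [← (R hr).1]
    group
  have gz : g * ι 1 * g⁻¹ = ι 1 := (central H T B VL A (e2_of_sq (sq_conj f.aa g))
    (fun p hp => zc p (mem_sup_left hp)) (zc τ (mem_sup_right (mem_zpowers τ)))).resolve_left
      fun e => f.a1 (by simpa using e)
  have hu : ∀ r ∈ P, r * (g * ι om * g⁻¹) * r⁻¹ * (g * ι om * g⁻¹)⁻¹ = 1 ∨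
      r * (g * ι om * g⁻¹) * r⁻¹ * (g * ι om * g⁻¹)⁻¹ = ι 1 := fun r hr => by
    have e : r * (g * ι om * g⁻¹) * r⁻¹ = g * (g⁻¹ * r * g * ι om * (g⁻¹ * r * g)⁻¹) * g⁻¹ := by
      group
    refine (R (mem_sup_left hr)).2.imp (fun e' => ?_) fun e' => ?_
    · rw [e, e', mul_inv_cancel]
    · rw [e, e', ← conj_mul, gz, mul_inv_cancel_right]
  have uu := sq_conj f.bb g
  have uD : ¬ IsConj t (g * ι om * g⁻¹) := by rw [isConj_conj]; exact H.notD _ (H.ι_mem _)
  have uV : g * ι om * g⁻¹ ∈ V := by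
    have uR := conj_mem_of_mem_normalizer gn (mem_sup_left (VP H T (H.ι_mem om)))
    generalize g * ι om * g⁻¹ = u at hu uu uD uR
    have uP := ((mem_sup_inv A.sq A.nor).1 uR).resolve_right fun e => noA H T B VL A e hu
    have kk : ∀ x ∈ W, c x ≠ 0 → (x = 1 ∨ x = ι 1) → k = 0 := fun x hx h0 e => by
      by_contra hk
      obtain ⟨j, rfl⟩ := Nat.exists_eq_succ_of_ne_zero hk
      refine h0 (H.eq_one.1 ?_)
      rw [T.pow x hx, pow_succ', pow_mul, pow_two]
      rcases e with rfl | rfl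
      · simp
      · rw [f.aa, one_pow]
    by_cases h0 : c (dl t u) = 0
    · refine T.om u ((d_ker H T uP h0).resolve_right fun e => ?_) uu
      by_cases hk : k = 0
      · have := H.inD _ (W_eq H T hk e)
        rw [cancel H.tt] at this
        exact uD this
      obtain ⟨j, rfl⟩ := Nat.exists_eq_succ_of_ne_zero hk
      obtain ⟨w, hw, e'⟩ := T.surj om
      have h3 : w * u * w⁻¹ * u⁻¹ = w * w := by
        have h4 := T.inv _ (inv_mem hw)
        rw [← cancel H.tt u]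
        generalize t * u = v at e
        calc _ = w * (t * (v * w⁻¹ * v⁻¹) * t⁻¹) := by group
          _ = _ := by rw [T.comm v e _ (inv_mem hw), mul_inv_cancel_right, h4, inv_inv]
      have h5 := T.pow w hw
      rw [e', pow_succ', pow_mul, pow_two, ← h3] at h5
      rcases hu w (WP H T hw) with e'' | e'' <;> rw [e''] at h5
      · exact f.b1 (by simpa using h5)
      · rcases j with _ | j
        · exact f.ne (by simpa using h5.symm)
        · rw [pow_succ', pow_mul, pow_two, f.aa, one_pow] at h5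
          exact f.b1 h5
    · have hk := kk _ (T.nrm u (le_normalizer uP)).2 h0 (by
        have := hu t T.tP
        rwa [inv_of_sq H.tt, mul_assoc, mul_assoc, ← mul_assoc u] at this)
      exact (hE ⟨hk, T.el hk u (mem_Y H T hk uP uu uD) (fun e => h0 (d_W H T e)) uu⟩).elim
  have key : ∀ x ∈ Q, x ∈ cen V → x ∈ P := fun x hx h => by
    rw [← (isSyl H T).eq_of_le (hQ.to_inf_left (K := cen V)) (le_inf (le_sup_left.trans h1) T.cenV)
      inf_le_right]
    exact ⟨hx, h⟩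
  rw [mem_sup_inv A.sq A.nor]
  rcases (co_mem H.toCo).1 uV with e | e | e | e
  · exact absurd (by simpa using e) f.b1
  · rw [← gz] at e
    exact absurd (by simpa using e.symm) f.ne
  · exact .inl (key g hg (co_cen H.toCo gz e))
  · refine .inr (key _ (mul_mem hg (h1 (mem_sup_right (mem_zpowers τ)))) (co_cen H.toCo ?_ ?_))
    · calc _ = g * (τ * ι 1 * τ⁻¹) * g⁻¹ := by group
        _ = _ := by rw [A.one, gz]
    · calc _ = g * (τ * ι om * τ⁻¹) * g⁻¹ := by group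
        _ = _ := by rw [A.om, ← conj_mul, gz, e, cancel f.aa]

theorem caseE (hk : k = 0) (el : ∀ y ∈ Y, y * y = 1)
    (all : ∀ a ∈ L, ∀ b ∈ L, Fg a b → ∃ P' : Subgroup G, IsSyl 2 P' (cen (closure {a, b})) ∧
      ∀ x ∈ P', ∀ y ∈ P', x * x = 1 → y * y = 1 → ¬ IsConj t x → ¬ IsConj t y → x * y = y * x) :
    False := by
  have f := co_fg H.toCo
  obtain ⟨y, hy, e₀⟩ := alt0 H T B VL hk om
  have yD := fun {y} (hy : y ∈ Y) => notD_Y H T T.WY T.YP T.tY hy
  have hy' : τ * y * τ⁻¹ ∈ Y := mem_Y H T hk (conj_mem_of_mem_normalizer A.nor (T.YP hy))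
    (sq_conj (el y hy) τ) (by rw [isConj_conj]; exact yD hy)
  have eY := mul_mem hy hy'
  have eτ : τ * (y * (τ * y * τ⁻¹)) * τ⁻¹ = y * (τ * y * τ⁻¹) := by
    rw [← conj_mul, T.ab hk _ hy _ hy']
    congr 1
    rw [inv_of_sq A.sq, ← mul_assoc, ← mul_assoc, A.sq, one_mul, cancel' A.sq]
  have de : c (dl t (y * (τ * y * τ⁻¹))) = 1 := by
    rw [d_mulP H T (T.YP hy) (le_normalizer (T.YP hy')), d_conj H T A.nor (T.YP hy), e₀,
      lin_om H T A]
    decide
  generalize y * (τ * y * τ⁻¹) = e at eY eτ de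
  have VY : V ≤ Y := T.le.trans T.WY
  have zY := VY (H.ι_mem 1)
  have bY := VY (H.ι_mem om)
  have te : t * e * t⁻¹ = ι 1 * e := by
    have := T.pow _ (T.nrm e (le_normalizer (T.YP eY))).2
    rw [de, hk, pow_zero, pow_one, dl] at this
    rw [this, inv_of_sq H.tt]
    group
  have tz : t * ι 1 * t⁻¹ = ι 1 := by
    rw [mem_cen_iff.1 H.cen _ (H.ι_mem 1), mul_inv_cancel_right]
  have fe : Fg (ι 1) e := ⟨f.aa, el e eY, T.ab hk _ zY _ eY, f.a1, fun h => by
    rw [h, d_comm H T (by simp)] at de; exact absurd de (by decide), fun h => by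
    rw [← h, d_W H T (T.le (H.ι_mem 1))] at de; exact absurd de (by decide)⟩
  have τR : τ ∈ P ⊔ zpowers τ := mem_sup_right (mem_zpowers τ)
  -- no conjugate of `t` centralizes `Z₀`
  have noD : ∀ s, IsConj t s → s * ι 1 = ι 1 * s → s * e = e * s → False := fun s hs h1 h2 => by
    obtain ⟨g, hg⟩ := isConj_iff.1 hs.symm
    obtain ⟨P', hP', hc⟩ := all _ (B.conjL hg f.aa h1.symm (yD zY)) _
      (B.conjL hg fe.bb h2.symm (yD eY)) (Bs.fg_conj fe g)
    obtain ⟨x, -, hx⟩ := hP'.exists_cj_le (Q := cj g ((P ⊔ zpowers τ) ⊓ (cen1 (ι 1) ⊓ cen1 e)))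
      (isPGroup_cj g (twoR T A).to_inf_left) (cen_comm ((closure_le _).2 (by
        rintro _ (rfl | rfl) <;> refine mem_cen_iff.2 ?_ <;> rintro _ ⟨r, hr, rfl⟩
        · change _ * (g * r * g⁻¹) = g * r * g⁻¹ * _
          rw [conj_mul, conj_mul, mem_cen1.1 hr.2.1]
        · change _ * (g * r * g⁻¹) = g * r * g⁻¹ * _
          rw [conj_mul, conj_mul, mem_cen1.1 hr.2.2])))
    have h3 := hc _ (hx (conj_mem_cj (conj_mem_cj ⟨τR, mem_cen1.2 (mul_inv_eq_iff_eq_mul.1 A.one),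
      mem_cen1.2 (mul_inv_eq_iff_eq_mul.1 eτ)⟩))) _ (hx (conj_mem_cj (conj_mem_cj
        ⟨mem_sup_left (T.YP bY), mem_cen1.2 f.ab.symm, mem_cen1.2 (T.ab hk _ bY _ eY)⟩)))
      (sq_conj (sq_conj A.sq g) x) (sq_conj (sq_conj f.bb g) x)
      (by rw [isConj_conj, isConj_conj]; exact B.notD A.mem)
      (by rw [isConj_conj, isConj_conj]; exact yD bY)
    rw [conj_mul, conj_mul, conj_mul, conj_mul] at h3
    have h4 := A.om
    rw [show τ * ι om = ι om * τ by simpa using h3, mul_inv_cancel_right] at h4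
    exact f.a1 (by simpa using h4)
  have nZ : ∀ g : G, g * ι 1 * g⁻¹ = ι 1 → g * e * g⁻¹ ∈ closure ({ι 1, e} : Set G) →
      g ∈ nor (closure {ι 1, e}) := fun g h1 h2 => mem_normalizer_fintype fun v hv => by
    have hz : ι 1 ∈ closure ({ι 1, e} : Set G) := subset_closure (by simp)
    rcases (fe.mem v).1 hv with rfl | rfl | rfl | rfl
    · simp
    · rwa [h1]
    · exact h2
    · rw [← conj_mul, h1]; exact mul_mem hz h2
  have nY : ∀ y ∈ Y, y ∈ nor (closure {ι 1, e}) := fun y hy =>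
    nZ y (by rw [T.ab hk _ hy _ zY, mul_inv_cancel_right]) (by
      rw [T.ab hk _ hy _ eY, mul_inv_cancel_right, fe.mem]; simp)
  have nt : t ∈ nor (closure {ι 1, e}) := nZ t tz (by rw [te, fe.mem]; simp)
  obtain ⟨S, hS, RS⟩ := exists_isSyl_le (twoR T A) (H := nor (closure {ι 1, e})) (sup_le
    (fun p hp => (T.idx p hp).elim (nY p) fun h => by
      simpa using mul_mem (inv_mem nt) (nY _ h))
    (zpowers_le.2 (nZ τ A.one (by rw [eτ, fe.mem]; simp))))
  have PS : P ≤ S := le_sup_left.trans RS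
  have tS := PS T.tP
  have eZ : e ∈ closure ({ι 1, e} : Set G) := subset_closure (by simp)
  have zZ : ι 1 ∈ closure ({ι 1, e} : Set G) := subset_closure (by simp)
  have Sz : ∀ s ∈ S, s * ι 1 * s⁻¹ = ι 1 := fun s hs => by
    have key : ∀ y, Fg (ι 1) y → y ∈ closure ({ι 1, e} : Set G) →
        (∀ x ∈ closure ({ι 1, e} : Set G), x = 1 ∨ x = ι 1 ∨ x = y ∨ x = ι 1 * y) →
        t * y * t⁻¹ = ι 1 * y → s * ι 1 * s⁻¹ ≠ y := fun y fy yZ hy ty h => by
      rcases hy _ (conj_mem_of_mem_normalizer (hS.le hs) yZ) with h' | h' | h' | h'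
      · exact fy.b1 (by simpa using h')
      · refine no3 fy (e2_of_mem hS.isPGroup (mul_mem hs tS)) ?_ ?_
        · calc _ = s * (t * ι 1 * t⁻¹) * s⁻¹ := by group
            _ = _ := by rw [tz, h]
        · calc _ = s * (t * y * t⁻¹) * s⁻¹ := by group
            _ = _ := by rw [ty, ← conj_mul, h, h', fy.ab]
      · rw [← h] at h'
        nth_rewrite 1 [h] at h'
        exact fy.ne (by simpa using h'.symm)
      · exact no3 fy (e2_of_mem hS.isPGroup hs) h h'
    rcases (fe.mem _).1 (conj_mem_of_mem_normalizer (hS.le hs) zZ) with h | h | h | h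
    · exact absurd (by simpa using h) f.a1
    · exact h
    · exact absurd h (key e fe eZ (fun x hx => (fe.mem x).1 hx) te)
    · refine absurd h (key _ ⟨f.aa, el _ (mul_mem zY eY), by rw [mul_assoc, fe.ab], f.a1,
        fun h => fe.ne (by rw [eq_inv_of_mul_eq_one_left h, inv_of_sq fe.bb]),
        fun h => fe.b1 (by simpa using h.symm)⟩ (mul_mem zZ eZ) (fun x hx => ?_)
        (by rw [← conj_mul, tz, te]))
      rw [cancel f.aa]
      rcases (fe.mem x).1 hx with h | h | h | h <;> simp [h]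
  have Se : ∀ s ∈ S, s * e * s⁻¹ = e ∨ s * e * s⁻¹ = ι 1 * e := fun s hs => by
    rcases (fe.mem _).1 (conj_mem_of_mem_normalizer (hS.le hs) eZ) with h | h | h | h
    · exact absurd (by simpa using h) fe.b1
    · rw [← Sz s hs] at h
      exact absurd (by simpa using h.symm) fe.ne
    · exact .inl h
    · exact .inr h
  refine transfer B.idx (isSyl_top_of_nor hS fun g gn => ?_) (M := cen1 (ι 1) ⊓ cen1 e) H.tt tS
    (fun s hs => ?_) fun m hm hD => noD m hD (mem_cen1.1 hm.1) (mem_cen1.1 hm.2)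
  swap
  · have hz := fun s hs => (mem_cen1.2 (mul_inv_eq_iff_eq_mul.1 (Sz s hs)) : s ∈ cen1 (ι 1))
    refine (Se s hs).symm.imp (fun h => ⟨hz _ (mul_mem tS hs), mem_cen1.2 ?_⟩)
      fun h => ⟨hz s hs, mem_cen1.2 (mul_inv_eq_iff_eq_mul.1 h)⟩
    rw [← mul_inv_eq_iff_eq_mul]
    calc _ = t * (s * e * s⁻¹) * t⁻¹ := by group
      _ = _ := by rw [h, ← conj_mul, tz, te, cancel f.aa]
  have zc : ∀ r ∈ S, g * ι 1 * g⁻¹ * r = r * (g * ι 1 * g⁻¹) := fun r hr => by
    conv_lhs => rw [← Sz _ (conj_mem_of_mem_normalizer' gn hr)]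
    group
  have gz : g * ι 1 * g⁻¹ = ι 1 := (central H T B VL A (e2_of_sq (sq_conj f.aa g))
    (fun p hp => zc p (PS hp)) (zc τ (RS τR))).resolve_left fun e => f.a1 (by simpa using e)
  refine nZ g gz ?_
  have hu : ∀ r ∈ S, r * (g * e * g⁻¹) * r⁻¹ = g * e * g⁻¹ ∨
      r * (g * e * g⁻¹) * r⁻¹ = ι 1 * (g * e * g⁻¹) := fun r hr => by
    have e' : r * (g * e * g⁻¹) * r⁻¹ = g * (g⁻¹ * r * g * e * (g⁻¹ * r * g)⁻¹) * g⁻¹ := by group
    refine (Se _ (conj_mem_of_mem_normalizer' gn hr)).imp (fun h => ?_) fun h => ?_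
    · rw [e', h]
    · rw [e', h, ← conj_mul, gz]
  have noD' : ∀ s, IsConj t s → s * ι 1 * s⁻¹ = ι 1 → s * (g * e * g⁻¹) * s⁻¹ ≠ g * e * g⁻¹ :=
    fun s hs h1 h2 => by
      refine noD (g⁻¹ * s * g⁻¹⁻¹) ((isConj_conj _).2 hs) ?_ ?_ <;> rw [← mul_inv_eq_iff_eq_mul]
      · calc _ = g⁻¹ * (s * (g * ι 1 * g⁻¹) * s⁻¹) * g := by group
          _ = g⁻¹ * (g * ι 1 * g⁻¹) * g := by rw [gz, h1]
          _ = _ := by group
      · calc _ = g⁻¹ * (s * (g * e * g⁻¹) * s⁻¹) * g := by group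
          _ = _ := by rw [h2]; group
  have uS := conj_mem_of_mem_normalizer gn (PS (T.YP eY))
  have uu := sq_conj fe.bb g
  have uD : ¬ IsConj t (g * e * g⁻¹) := by rw [isConj_conj]; exact yD eY
  generalize g * e * g⁻¹ = u at hu noD' uS uu uD
  have tu := (hu t tS).resolve_left (noD' t (IsConj.refl t) tz)
  have uz := mul_inv_eq_iff_eq_mul.1 (Sz u uS)
  have xS := mul_mem uS (PS (T.YP eY))
  have xt : u * e * t = t * (u * e) := by
    rw [eq_comm, ← mul_inv_eq_iff_eq_mul, ← conj_mul, tu, te, ← uz, mul_assoc, cancel f.aa]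
  have xb : u * e * ι om * (u * e)⁻¹ = u * ι om * u⁻¹ := by
    rw [mul_assoc u, T.ab hk _ eY _ bY]; group
  rcases hu _ (PS (T.YP bY)) with h | h
  · have h1 : u * ι om * u⁻¹ = ι om := by
      rw [← mul_inv_eq_iff_eq_mul.1 h, mul_inv_cancel_right]
    rcases H.syl t (IsConj.refl t) H.cen _ (co_cen H.toCo (Sz _ xS) (xb.trans h1)) xt
      (e2_of_mem hS.isPGroup xS) with h2 | h2
    · have h3 : ∀ v, u * e = v → τ * v * τ⁻¹ = ι 1 * v → False := fun v hv h4 => by
        have h5 : u = v * e := by rw [← hv, cancel' fe.bb]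
        refine noD' (t * τ) (B.inD A.mem A.sq) ?_ ?_
        · calc _ = t * (τ * ι 1 * τ⁻¹) * t⁻¹ := by group
            _ = _ := by rw [A.one, tz]
        · calc _ = t * (τ * (v * e) * τ⁻¹) * t⁻¹ := by rw [h5]; group
            _ = _ := by
              rw [← conj_mul (a := v), h4, eτ, mul_assoc (ι 1), ← h5, ← conj_mul, tz, tu,
                cancel f.aa]
      rw [fe.mem]
      rcases (co_mem H.toCo).1 h2 with h4 | h4 | h4 | h4
      · right; right; left
        rw [← cancel' fe.bb u, h4, one_mul]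
      · right; right; right
        rw [← cancel' fe.bb u, h4]
      · exact (h3 _ h4 A.om).elim
      · exact (h3 _ h4 (by rw [← conj_mul, A.one, A.om])).elim
    · have h3 : t * u ∈ Y := by simpa [mul_assoc] using mul_mem (VY h2) (inv_mem eY)
      have h4 : u ∈ Y := mem_Y H T hk (by simpa using mul_mem (inv_mem T.tP) (T.YP h3)) uu uD
      exact (T.tY (by simpa using mul_mem h3 (inv_mem h4))).elim
  · have h1 : u * ι om * u⁻¹ = ι 1 * ι om := by
      rw [inv_of_sq f.bb] at h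
      calc _ = ι om * (ι om * u * ι om) * u⁻¹ := by
            rw [← mul_assoc, ← mul_assoc, f.bb, one_mul]
        _ = _ := by rw [h, f.ab]; group
    have xS' := mul_mem xS (RS τR)
    have h2 := H.syl t (IsConj.refl t) H.cen _ (co_cen H.toCo (Sz _ xS') (by
      calc _ = u * e * (τ * ι om * τ⁻¹) * (u * e)⁻¹ := by group
        _ = _ := by rw [A.om, ← conj_mul, Sz _ xS, xb, h1, cancel f.aa]))
      (by rw [mul_assoc, B.comm A.mem, ← mul_assoc, xt, mul_assoc]) (e2_of_mem hS.isPGroup xS')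
    have h3 : u * e * τ ∈ P := h2.elim (fun e => VP H T e) fun e => by
      simpa using mul_mem (inv_mem T.tP) (VP H T e)
    refine (noA H T B VL A (u := u) ?_ fun r hr => (hu r (PS hr)).imp (fun e => ?_) fun e => ?_).elim
    · have := mul_mem h3 (inv_mem (T.YP eY))
      rwa [mul_assoc u, ← mul_inv_eq_iff_eq_mul.1 eτ, ← mul_assoc, mul_inv_cancel_right] at this
    · rw [e, mul_inv_cancel]
    · rw [e, mul_inv_cancel_right]

end top

theorem jobB : JobB.{u} := by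
  intro hT G _ _ t L h1 h2
  by_contra! hN
  have B : Bs t L := ⟨h1, h2, hN⟩
  have ex : ∀ a ∈ L, ∀ b ∈ L, Fg a b → ∃ (ι : F4 → G) (W : Subgroup G) (k : ℕ) (c : G → F4)
      (Y P : Subgroup G) (τ : G), Hy t (closure {a, b}) ι ∧ Top t (closure {a, b}) ι W k c Y P ∧
        closure {a, b} ≤ L ∧ Tau L P ι τ := fun a ha b hb f => by
    obtain ⟨ι, H⟩ := B.hy ha hb f
    have VL : closure {a, b} ≤ L := (closure_le _).2 (by rintro _ (rfl | rfl) <;> assumption)
    rcases hT G F4 t _ ι H with ⟨W, k, c, Y, P, T⟩ | ⟨W, k, c, E⟩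
    · obtain ⟨τ, t1, t2, t3, t4, t5⟩ := exists_tau H T B VL
      exact ⟨ι, W, k, c, Y, P, τ, H, T, VL, t1, t2, t3, t4, t5⟩
    · obtain ⟨p, -, p2, p3⟩ := E.big
      rw [Nat.card_eq_fintype_card, H55.card_F4] at p3
      exact (p2 (Nat.pow_right_injective le_rfl (p3.symm.trans (by norm_num : 4 = 2 ^ 2)))).elim
  obtain ⟨a, ha, b, hb, f⟩ := h2.ex
  obtain ⟨ι, W, k, c, Y, P, τ, H, T, VL, A⟩ := ex a ha b hb f
  obtain ⟨hk, el⟩ := caseN H T B VL A
  refine caseE H T B VL A hk el fun a ha b hb f => ?_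
  obtain ⟨ι, W, k, c, Y, P, τ, H, T, VL, A⟩ := ex a ha b hb f
  have hk := (caseN H T B VL A).1
  exact ⟨P, isSyl H T, fun x hx y hy xx yy xD yD =>
    T.ab hk _ (mem_Y H T hk hx xx xD) _ (mem_Y H T hk hy yy yD)⟩

end H20.TWB
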