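import Cfsg.Agent.H81.YLSpec

/-! STD-SP endgame, linear models: slot `LD` (`q = 2`). -/

set_option autoImplicit false
set_option linter.unusedSectionVars false

namespace H20.YLLD

open H64.SG (O2 Syl Cz Cs Ns cjs Is2 Inv2 fx)
open Matrix H57 Subgroup H67.UA H64.YE H81.YL
open H67.SA (SLn Au la x gam out Er Ec ZZ QQ mem_Row mem_Col mem_ZZ val_mul x_coe)
open H59.SO (AutOn)

variable {m : ℕ} {F : Type} [Field F] [StarRing F] [TrivialStar F] [CharP F 2] [Finite F]

/-- the `2 × 2` minors of `u - 1` vanish -/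
def R1 (u : SLn m F) : Prop :=
  ∀ i j k l, (u.1 - 1) i j * (u.1 - 1) k l = (u.1 - 1) i l * (u.1 - 1) k j

theorem r1_conj (h0 : (0 : Fin (m + 1)) ≠ la m) {u : SLn m F} (h : IsConj (x 0 (la m) 1) u) :
    R1 u := by
  obtain ⟨g, rfl⟩ := isConj_iff.1 h
  have key : ∀ i j, ((g * x 0 (la m) 1 * g⁻¹).1 - 1) i j = g.1 i 0 * (g⁻¹).1 (la m) j := fun i j => by
    rw [val_mul, val_mul, x_coe h0, mul_add, add_mul, mul_one, H67.SA.val_mul_inv,
      add_sub_cancel_left, mul_apply, Finset.sum_eq_single (la m), mul_single_apply_same, mul_one]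
    · intro b _ hb
      rw [mul_single_apply_of_ne _ _ _ _ _ hb, zero_mul]
    · simp
  intro i j k l
  simp only [key]
  ring

theorem pat (h0 : (0 : Fin (m + 1)) ≠ la m) (u : SLn m F) (h1 : IsConj (x 0 (la m) 1) u)
    (h2 : u * x 0 (la m) 1 = x 0 (la m) 1 * u)
    (h3 : u * x 0 (la m) 1 = 1 ∨ IsConj (x 0 (la m) 1) (u * x 0 (la m) 1)) :
    u ∈ Er m F ∨ u ∈ Ec m F := by
  have r1 := r1_conj h0 h1
  have r2 : R1 (u * x 0 (la m) 1) := by
    rcases h3 with h | h
    · rw [h]; intro i j k l; simp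
    · exact r1_conj h0 h
  unfold R1 at r1 r2
  obtain ⟨N, hN⟩ : ∃ N, N = u.1 - 1 := ⟨_, rfl⟩
  have hu : u.1 = 1 + N := by rw [hN, add_sub_cancel]
  have hc : N * single 0 (la m) 1 = single 0 (la m) 1 * N := by
    have := congrArg Subtype.val h2
    rw [val_mul, val_mul, x_coe h0, hu] at this
    simp only [mul_add, add_mul, mul_one, one_mul, add_assoc, add_right_inj] at this
    rw [← add_assoc, ← add_assoc, add_comm N] at this
    exact add_left_cancel this
  have c1 : ∀ i, i ≠ 0 → N i 0 = 0 := fun i hi => by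
    have := congrFun (congrFun hc i) (la m)
    rwa [mul_single_apply_same, single_mul_apply_of_ne _ _ _ _ _ hi, mul_one] at this
  have c2 : ∀ j, j ≠ la m → N (la m) j = 0 := fun j hj => by
    have := congrFun (congrFun hc 0) j
    rw [mul_single_apply_of_ne _ _ _ _ _ hj, single_mul_apply_same, one_mul] at this
    exact this.symm
  have c3 : N 0 0 = N (la m) (la m) := by
    have := congrFun (congrFun hc 0) (la m)
    rwa [mul_single_apply_same, single_mul_apply_same, mul_one, one_mul] at this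
  rw [← hN] at r1
  have c4 : N 0 0 = 0 := by
    have := r1 0 0 (la m) (la m)
    rw [c1 _ h0.symm, mul_zero, ← c3] at this
    exact mul_self_eq_zero.1 this
  have c0 : ∀ i, N i 0 = 0 := fun i => by
    by_cases hi : i = 0
    · rw [hi, c4]
    · exact c1 i hi
  have hE : N * single 0 (la m) (1 : F) = 0 := by
    ext i j
    by_cases hj : j = la m
    · rw [hj, mul_single_apply_same, c0, zero_mul, Matrix.zero_apply]
    · rw [mul_single_apply_of_ne _ _ _ _ _ hj, Matrix.zero_apply]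
  have hM : (u * x 0 (la m) 1).1 - 1 = N + single 0 (la m) 1 := by
    rw [val_mul, x_coe h0, hu, mul_add, mul_one, add_mul, one_mul, hE]
    abel
  rw [hM] at r2
  have d1 : ∀ i j, i ≠ 0 → j ≠ la m → N i j = 0 ∧ N 0 j * N i (la m) = 0 := fun i j hi hj => by
    have e1 := r1 0 j i (la m)
    have e2 := r2 0 j i (la m)
    simp only [Matrix.add_apply, single_apply, hi.symm, hj.symm, and_false, false_and, if_false, and_self,
      if_true, add_zero] at e2
    have e3 : N i j = 0 := by linear_combination e1 - e2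
    exact ⟨e3, by rw [e1, e3, mul_zero]⟩
  have hd : ∀ a, u.1 a a = 1 := fun a => by
    rw [hu, Matrix.add_apply, one_apply_eq, add_eq_left]
    by_cases ha : a = 0
    · rw [ha, c4]
    by_cases ha' : a = la m
    · rw [ha', ← c3, c4]
    · exact (d1 a a ha ha').1
  have ho : ∀ a b, a ≠ b → u.1 a b = N a b := fun a b hab => by
    rw [hu, Matrix.add_apply, one_apply_ne hab, zero_add]
  by_cases hr : ∀ i, i ≠ 0 → N i (la m) = 0
  · refine Or.inl (mem_Row.2 ⟨hd, fun a b hab ha => ?_⟩)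
    rw [ho a b hab]
    by_cases hb : b = la m
    · rw [hb, hr a ha]
    · exact (d1 a b ha hb).1
  · push Not at hr
    obtain ⟨i, hi, hi'⟩ := hr
    refine Or.inr (mem_Col.2 ⟨hd, fun a b hab hb => ?_⟩)
    rw [ho a b hab]
    by_cases ha : a = 0
    · rw [ha]; exact (mul_eq_zero.1 (d1 i b hi hb).2).resolve_right hi'
    · exact (d1 a b ha hb).1

/-- the first row of `a - 1` -/
def ph (a : SLn m F) : Fin (m + 1) → F := (a.1 - 1) 0

theorem ph_zero {a : SLn m F} (h : a ∈ Er m F) : ph a 0 = 0 := by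
  simp [ph, (mem_Row.1 h).1]

theorem er_val {a : SLn m F} (h : a ∈ Er m F) : a.1 = 1 + vecMulVec (Pi.single 0 1) (ph a) := by
  ext i j
  rw [Matrix.add_apply, vecMulVec_apply]
  by_cases hi : i = 0
  · subst hi; simp [ph]
  rw [Pi.single_eq_of_ne hi, zero_mul, add_zero]
  by_cases hij : i = j
  · rw [hij, (mem_Row.1 h).1, one_apply_eq]
  · rw [(mem_Row.1 h).2 i j hij hi, one_apply_ne hij]

theorem ph_mul {a b : SLn m F} (ha : a ∈ Er m F) (hb : b ∈ Er m F) : ph (a * b) = ph a + ph b := by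
  have : (a * b).1 = 1 + vecMulVec (Pi.single 0 1) (ph a + ph b) := by
    rw [val_mul]
    conv_lhs => rw [er_val ha, er_val hb]
    rw [mul_add, add_mul, add_mul, mul_one, mul_one, one_mul, vecMulVec_mul_vecMulVec,
      dotProduct_single, ph_zero ha, zero_mul, zero_smul, vecMulVec_zero, add_zero,
      vecMulVec_add, add_assoc]
  funext j
  rw [ph, this]
  simp [vecMulVec_apply]

theorem hl (h0 : (0 : Fin (m + 1)) ≠ la m) (hF : ∀ c : F, c = 0 ∨ c = 1) (θ : SLn m F → SLn m F)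
    (hθ : AutOn (Er m F) θ) : ∃ p : SLn m F, ∀ a ∈ Er m F, θ a = p * a * p⁻¹ := by
  classical
  let M : Matrix (Fin (m + 1)) (Fin (m + 1)) F :=
    of fun i => if i = 0 then Pi.single 0 1 else ph (θ (x 0 i 1))
  have hx : ∀ j c, x 0 j c ∈ Er m F := H67.SA.x_mem_Row 0
  have t1 : θ 1 = 1 := by
    have := hθ.mul 1 (one_mem _) 1 (one_mem _)
    rw [mul_one] at this
    exact left_eq_mul.1 this
  have p1 : ph (1 : SLn m F) = 0 := funext fun j => by simp [ph]
  have key : ∀ a ∈ Er m F, ph (θ a) = ph a ᵥ* M := fun a ha => by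
    induction ha using closure_induction with
    | one => rw [t1, p1, zero_vecMul]
    | mem g hg =>
      obtain ⟨i, j, c, rfl, rfl⟩ := hg
      by_cases hj : 0 = j
      · rw [← hj, H67.SA.x_self, t1, p1, zero_vecMul]
      rcases hF c with rfl | rfl
      · rw [H67.SA.x_zero, t1, p1, zero_vecMul]
      have : ph (x 0 j (1 : F)) = Pi.single j 1 := by
        funext k
        simp [ph, x_coe hj, single_apply, Pi.single_apply, eq_comm]
      rw [this, single_one_vecMul]
      exact (if_neg (Ne.symm hj)).symm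
    | mul a b ha hb ih ih' =>
      rw [hθ.mul a ha b hb, ph_mul (hθ.bij.mapsTo ha) (hθ.bij.mapsTo hb), ph_mul ha hb, ih, ih',
        add_vecMul]
    | inv a ha ih => rwa [inv_eq_of_mul_eq_one_right (H67.SA.sq_Row ha)]
  have c0 : M *ᵥ Pi.single 0 1 = Pi.single 0 1 := by
    funext i
    rw [mulVec_single_one, col_apply]
    by_cases hi : i = 0
    · subst hi; simp [M]
    · rw [Pi.single_eq_of_ne hi]
      simp only [M, of_apply, if_neg hi]
      exact ph_zero (hθ.bij.mapsTo (hx i 1))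
  have hd : M.det = 1 := by
    refine (hF _).resolve_left fun hd => ?_
    obtain ⟨v, hv, hv0⟩ := exists_vecMul_eq_zero_iff.2 hd
    have v0 : v 0 = 0 := by
      have : (v ᵥ* M) ⬝ᵥ Pi.single 0 (1 : F) = 0 := by rw [hv0, zero_dotProduct]
      rwa [← dotProduct_mulVec, c0, dotProduct_single, mul_one] at this
    obtain ⟨a, ha, e⟩ := H67.SA.exists_Pat (H67.SA.uni_Row (0 : Fin (m + 1)))
      (1 + vecMulVec (Pi.single 0 1) v)
      (fun i => by
        by_cases hi : i = 0
        · subst hi; simp [vecMulVec_apply, v0]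
        · simp [vecMulVec_apply, hi])
      (fun i j hij hi => by simp [vecMulVec_apply, hij, hi])
    have pa : ph a = v := by
      funext j
      simp [ph, e, vecMulVec_apply]
    have h1 : θ a = 1 := Subtype.ext (by
      rw [er_val (hθ.bij.mapsTo ha), key a ha, pa, hv0, vecMulVec_zero, add_zero]; rfl)
    have h2 : a = 1 := hθ.bij.injOn ha (one_mem (Er m F)) (h1.trans t1.symm)
    exact hv (by rw [← pa, h2, p1])
  let s : SLn m F := ⟨M, hd⟩
  refine ⟨s⁻¹, fun a ha => ?_⟩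
  rw [inv_inv, mul_assoc, eq_inv_mul_iff_mul_eq]
  refine Subtype.ext ?_
  rw [val_mul, val_mul, er_val (hθ.bij.mapsTo ha), key a ha]
  conv_rhs => rw [er_val ha]
  change M * _ = _ * M
  rw [mul_add, add_mul, mul_one, one_mul, mul_vecMulVec, c0, vecMulVec_mul]

theorem jobLD : JobLD := by
  intro m F _ _ _ _ _ hm hF
  have h0 : (0 : Fin (m + 1)) ≠ la m := H67.SA.zero_ne_la (by omega)
  have hF' : ∀ c : F, c = 0 ∨ c = 1 := fun c => by
    obtain ⟨y, -, hy⟩ := (Nat.card_eq_two_iff' (0 : F)).1 hF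
    by_cases hc : c = 0
    · exact Or.inl hc
    · exact Or.inr ((hy c hc).trans (hy 1 one_ne_zero).symm)
  have r1 : x 0 (la m) (1 : F) ≠ 1 := fun h => one_ne_zero ((H67.SA.x_eq_one h0).1 h)
  have hz : ∀ z ∈ ZZ m F, z = 1 ∨ z = x 0 (la m) 1 := fun z hz => by
    obtain ⟨c, rfl⟩ := mem_ZZ.1 hz
    rcases hF' c with rfl | rfl
    · exact Or.inl (H67.SA.x_zero _ _)
    · exact Or.inr rfl
  have rE : x 0 (la m) (1 : F) ∈ Er m F := H67.SA.x_mem_Row _ _ _
  refine ⟨hz, rfl, H67.SA.Er_inf_Ec, tau_eq (m := m) (F := F) ▸ H67.SA.gam_Er.1,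
    fun a ha => H67.SA.sq_Row ha, fun a ha h1 => isConj_iff.2 ?_, pat h0, fun g hg => ?_,
    fun a ha => ?_, fun z hz => ?_, fun θ hθ hr => ?_⟩
  · obtain ⟨p, -, hp⟩ := (fc hm).trr _ rE a ha r1 h1
    exact ⟨p, hp⟩
  · rcases ((fa hm).nz _ (H67.SA.conj_mem_St.2 (centralizer_le_normalizer _ hg))).2 with h | h
    · exact H67.SA.conj_mem_St.1 h.2.1
    · exact absurd (by rw [H67.SA.out_conj (by omega)]; rfl) h.1
  · by_contra hn
    obtain ⟨u, hu, e⟩ := (fc hm).qz a (H67.SA.Er_le_QQ ha.1) hn _ (H67.SA.x_mem_ZZ 1)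
    have h1 : QQ m F ≤ Cz a := sup_le (fun b hb => H64.SG.mem_Cz.2 (H67.SA.Row_le_Cs 0 hb a ha.1))
      fun b hb => H64.SG.mem_Cz.2 (ha.2 b hb).symm
    exact r1 (e.trans (H67.SA.cm_eq_one.2 (H64.SG.mem_Cz.1 (h1 hu))))
  · obtain ⟨c, rfl⟩ := mem_ZZ.1 hz
    have h1 : (0 : Fin (m + 1)) ≠ ⟨1, by omega⟩ := by simp [Fin.ext_iff]
    have h2 : (⟨1, by omega⟩ : Fin (m + 1)) ≠ la m := by simp [Fin.ext_iff]; omega
    rw [← mul_one c, ← H67.SA.x_cm h1 h2 h0, H67.SA.cm_eq]
    exact commutator_mem_commutator (H67.SA.x_mem_Row _ _ _) (H67.SA.x_mem_Col _ _ _)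
  · obtain ⟨p, hp⟩ := hl h0 hF' θ hθ
    refine ⟨p, fun z h => ?_, fun a ha => by rw [hp a ha, mul_inv_cancel]; exact one_mem _⟩
    rcases hz z h with rfl | rfl
    · rw [one_mul, mul_one]
    · exact eq_mul_inv_iff_mul_eq.1 (hr.symm.trans (hp _ rE))

end H20.YLLD
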