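import Cfsg.Agent.H81.YLSpec
import Cfsg.Agent.H54.SymTwo
import Cfsg.Agent.S2363

/-! STD-SP endgame, linear models: slots `SY`, `NL` (and `H64.YE.JobNA`). -/

set_option autoImplicit false
set_option linter.unusedSectionVars false

namespace H20.YLSY

open H64.SG (O2 Syl Cz Cs Ns cjs Is2 Inv2 fx)
open Matrix H57 Subgroup H67.UA H64.YE H81.YL
open H67.SA (SLn Au la x gam out)

theorem fact_big (m : ℕ) (h : 20 ≤ m) : 2 * 8 ^ m ≤ m.factorial := by
  induction m, h using Nat.le_induction with
  | base => decide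
  | succ m hm ih =>
    rw [Nat.factorial_succ, pow_succ]
    nlinarith

theorem jobNA : JobNA := by
  intro Y _ _ P hY hP hc m
  refine ⟨fun e => ?_⟩
  have h1 := (Cfsg.Agent.S2363.result 2 Nat.prime_two hY).1
  set k := (Nat.card Y).factorization 2 with hk
  obtain ⟨j, hj⟩ := hP.exists_card_eq
  have hY0 : Nat.card Y ≠ 0 := Nat.card_pos.ne'
  have hjk : j ≤ k := by
    rw [hk, ← Nat.prime_two.pow_dvd_iff_le_factorization hY0, ← hj]
    exact P.card_subgroup_dvd_card
  have h20 : 20 ≤ j := by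
    rw [hj] at hc
    exact (Nat.pow_le_pow_iff_right (by norm_num)).1 hc
  have hcard : Nat.card Y = Nat.card (alternatingGroup (Fin m)) := Nat.card_congr e.toEquiv
  have hdvd : Nat.card Y ∣ m.factorial := by
    rw [hcard]
    have := (alternatingGroup (Fin m)).card_subgroup_dvd_card
    rwa [Nat.card_perm, Nat.card_eq_fintype_card (α := Fin m), Fintype.card_fin] at this
  have hkm : k ≤ m := by
    have h2 := (Nat.factorization_le_iff_dvd hY0 (Nat.factorial_ne_zero m)).2 hdvd 2
    have h3 := Nat.factorization_factorial_le_div_pred Nat.prime_two m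
    simp at h3
    omega
  have hm : 20 ≤ m := by omega
  have : Nontrivial (Fin m) := Fin.nontrivial_iff_two_le.2 (by omega)
  have h4 : 2 * Nat.card Y = m.factorial := by
    rw [hcard, two_mul_nat_card_alternatingGroup, Nat.card_perm,
      Nat.card_eq_fintype_card (α := Fin m), Fintype.card_fin]
  have h5 := fact_big m hm
  have h6 : 2 ^ (3 * k) ≤ 8 ^ m := by
    rw [pow_mul]
    exact Nat.pow_le_pow_right (by norm_num) hkm
  omega

theorem jobNL : JobNL := by
  intro m F _ _ _ _ _ _ h6 k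
  let i := Fintype.ofFinite F
  let π := QuotientGroup.mk' (center (SLn m F))
  refine jobNA _ ((H67.SA.UU m F).map π) (Or.inl ⟨F, _, i, inferInstance, m + 1, by omega,
    fun h => by omega, ⟨MulEquiv.refl _⟩⟩) (H67.SA.isP_UU.map π) ?_ k
  have hinj : Function.Injective (π.comp (H67.SA.UU m F).subtype) := by
    rw [injective_iff_map_eq_one]
    intro a ha
    exact Subtype.ext (H67.SA.eq_one_of_center ((QuotientGroup.eq_one_iff _).1 ha)
      (H67.SA.is2_of_UU a.2))
  have hc : Nat.card ((H67.SA.UU m F).map π) = Nat.card (H67.SA.UU m F) := by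
    rw [show (H67.SA.UU m F).map π = (π.comp (H67.SA.UU m F).subtype).range by
      rw [MonoidHom.range_comp, range_subtype]]
    exact (Nat.card_congr (MonoidHom.ofInjective hinj).toEquiv).symm
  rw [hc, H67.SA.card_UU]
  have h1 : 20 ≤ H67.SA.NN m := by
    unfold H67.SA.NN
    rw [Nat.le_div_iff_mul_le (by norm_num)]
    nlinarith
  exact (Nat.pow_le_pow_right (by norm_num) h1).trans
    (Nat.pow_le_pow_left (H67.SA.one_lt_card (F := F)) _)

section

variable {m : ℕ} {F : Type} [Field F] [StarRing F] [TrivialStar F] [CharP F 2] [Finite F]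

theorem hf_comm (a b : Vn m F) : hf a b = hf b a := by rw [← star_hf, star_trivial]

theorem hf_nd {a : Vn m F} (h : ∀ b, hf a b = 0) : a = 0 := funext fun i => by
  simpa [hf_ev_right] using h (ev i.rev)

/-- the form `hf (M a) b` -/
def bf (M : Matrix (Fin (m + 1)) (Fin (m + 1)) F) : LinearMap.BilinForm F (Vn m F) :=
  LinearMap.mk₂ F (fun a b => hf (M *ᵥ a) b)
    (fun a a' b => by rw [mulVec_add, hf_add_left])
    (fun c a b => by rw [mulVec_smul, hf_smul_left, smul_eq_mul])
    (fun a b b' => hf_add_right _ _ _)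
    (fun c a b => by rw [hf_smul_right, star_trivial, smul_eq_mul])

theorem bf_apply (M : Matrix (Fin (m + 1)) (Fin (m + 1)) F) (a b : Vn m F) :
    bf M a b = hf (M *ᵥ a) b := rfl

theorem bf_symm {v : SLn m F} (h : v * tau m F v = 1) (a b : Vn m F) : bf v.1 a b = bf v.1 b a := by
  rw [bf_apply, bf_apply, hf_tau, map_inv, ← eq_inv_of_mul_eq_one_left h, hf_comm]

theorem bf_nd {v : SLn m F} (h : v * tau m F v = 1) : (bf v.1).Nondegenerate := by
  have key : ∀ a, (∀ b, bf v.1 a b = 0) → a = 0 := fun a ha => by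
    have h1 : v.1 *ᵥ a = 0 := hf_nd ha
    have := congrArg ((v⁻¹).1 *ᵥ ·) h1
    simpa only [mulVec_mulVec, H67.SA.val_inv_mul, one_mulVec, mulVec_zero] using this
  exact ⟨key, fun a ha => key a fun b => by rw [bf_symm h, ha]⟩

end

theorem jobSY : JobSY := by
  intro m F _ _ _ _ _ _ v hv
  refine ⟨fun hm hA => ?_, fun v' hv' hA => ?_⟩
  · obtain ⟨r, hr⟩ := H54.exists_isCharVec (bf_nd hv) (bf_symm hv)
    have h1 := (hr.even_finrank_iff (bf_nd hv) (bf_symm hv)).2 (hA r)
    rw [Module.finrank_fin_fun] at h1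
    exact Nat.not_even_iff_odd.2 hm.add_one h1
  obtain ⟨φ, hφ⟩ := H54.exists_isometry_symm (bf_nd hv) (bf_symm hv) (bf_nd hv') (bf_symm hv') rfl hA
  set P := LinearMap.toMatrix' φ.toLinearMap with hP
  have hPv : ∀ a, P *ᵥ a = φ a := fun a => by rw [hP, LinearMap.toMatrix'_mulVec]; rfl
  -- the adjoint of `P`
  set Q : Matrix (Fin (m + 1)) (Fin (m + 1)) F := (Pᵀ).submatrix Fin.rev Fin.rev with hQ
  have hadj : ∀ a b : Vn m F, hf a (P *ᵥ b) = hf (Q *ᵥ a) b := fun a b => by
    simp only [hf, mulVec, dotProduct, hQ, submatrix_apply, transpose_apply, star_trivial,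
      Finset.sum_mul, Finset.mul_sum]
    rw [Finset.sum_comm, ← Equiv.sum_comp Fin.revPerm]
    refine Finset.sum_congr rfl fun i _ => Finset.sum_congr rfl fun j _ => ?_
    simp [mul_comm, mul_left_comm]
  have hM : Q * v'.1 * P = v.1 := by
    refine ext_of_mulVec_single fun i => ?_
    rw [← sub_eq_zero]
    refine hf_nd fun b => ?_
    have := hφ (Pi.single i 1) b
    rw [bf_apply, bf_apply, ← hPv, ← hPv, hadj, mulVec_mulVec, mulVec_mulVec] at this
    rw [sub_eq_add_neg, hf_add_left, this, ← neg_one_smul F, hf_smul_left]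
    ring
  have hdQ : Q.det = P.det := by
    rw [hQ, show (Fin.rev : Fin (m + 1) → Fin (m + 1)) = Fin.revPerm from rfl,
      det_submatrix_equiv_self, det_transpose]
  have hd : P.det = 1 := by
    have h1 := congrArg det hM
    rw [det_mul, det_mul, v.2, v'.2, hdQ, mul_one] at h1
    have h2 : (P.det + 1) ^ 2 = 0 := by
      rw [CharTwo.add_sq, sq, h1, one_pow, CharTwo.add_self_eq_zero]
    exact (CharTwo.add_eq_zero.1 (pow_eq_zero_iff two_ne_zero |>.1 h2))
  let p : SLn m F := ⟨P, hd⟩
  refine ⟨tau m F p⁻¹, Subtype.ext ?_⟩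
  rw [tau_tau, inv_inv, H67.SA.val_mul, H67.SA.val_mul, ← hM]
  congr 2
  ext i j
  rw [tau_inv_apply, star_trivial]
  rfl

end H20.YLSY
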